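import Cfsg.Agent.Cit.HexTorus
import Cfsg.Agent.H897.IF.ENum
import Cfsg.Agent.ClassicalGeometry.PSL2Basic
import Cfsg.Agent.H956.IF.Central
import Cfsg.Agent.ThType.CSideMain_mg
import Cfsg.Agent.Lib.FinFast
import Cfsg.Agent.H934.HeisE6_m3
import Cfsg.Agent.H430.CfChevTab
import Cfsg.Agent.H83.Count
import Cfsg.Agent.H86.Par
import Cfsg.Agent.H557.InvF4
import Cfsg.Agent.S1062
import Cfsg.Agent.Cit.TyTrans_m3
import Cfsg.Agent.H989.Fx.Ty_m3
import Cfsg.Agent.H30.IF.Frob_m3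
import Cfsg.Agent.H112.Row2.OrthExt
import Cfsg.Agent.H122.OrthIso
import Cfsg.Agent.H75.PlusFinal
import Cfsg.Agent.H76.MainFour
import Cfsg.Agent.ClassicalGeometry.OrthSemiForms
import Cfsg.Agent.LieClassical.OrthSimple
import Cfsg.Agent.H989.Gs.Gen
import Cfsg.Agent.S0713
import Cfsg.Agent.H548.BS.Transf
import Cfsg.Agent.TypeM.CoverTools
import Cfsg.Agent.TypeM.Two
import Cfsg.Agent.TypeM.FactsLy
import Cfsg.Agent.TypeM.OutLyFin
import Cfsg.Agent.HN.InvHN
import Cfsg.Agent.HN.DCoverData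
import Cfsg.Agent.HN.Central
import Cfsg.Agent.HN.Index
import Cfsg.Agent.S1701
import Cfsg.Agent.H209.EPX.Defs_m3
import Cfsg.Agent.HN.XInst_mg
import Cfsg.Agent.KFacts.HN.Inst
import Cfsg.Agent.SigZeroHN.Main
import Cfsg.Agent.H800.IFx.Gen_m3
import Cfsg.Agent.SignalizersComponents.SLQuasisimple
import Cfsg.Agent.H667.TwoPSUModel
import Cfsg.Agent.H667.TwoPSUGrp
import Cfsg.Agent.H77.Step2_mg
import Cfsg.Agent.LieClassical.HermSiegel
import Cfsg.Agent.FastGrp
import Cfsg.Agent.Prune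
set_option linter.all false

section
prune_inst 0xfce8f92bb8b9dfdfff7e7fa692cffc39901fffa6dff94bbfe0a1ef0bdf030009616b8509e010fc0ec2621410b87853f9feca3fe36bd87ffffd1ff41ffbee0fb5e6b50851d688340f340ff703f0778e7f3fffffffffffffffffffffffffffbeffbdffffffff

-- part: H751/IF/HexKill
section
prune_inst 0x7f001702c445040000000000596d1001c44de00059200680001c0a00f4206c8ef4849428161ac803412100aa20400300020131800c0404000000400040001180481108812020040a008800080000084000000000000000000000000000000000004200000000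
set_option linter.all false
open scoped Cfsg.Agent.FastGrp

-- part: H751/IF/HexQ
section
/-!
# S5719, `G₂` and `³D₄` in characteristic two: the group `Q = ⟨X 2, …, X 6⟩` (helper751)
-/

set_option autoImplicit false
set_option linter.unusedSectionVars false
set_option linter.unusedSimpArgs false

namespace Cfsg.Agent.H751.HexQ

open Subgroup Cfsg.Agent.SplitTwo Cfsg.Agent.TitsThree.RankTwoZ Cfsg.Agent.Lib.SL2Mat Cfsg.Agent.Cit.HexBase
open scoped commutatorElement

variable {E : Type*} [Field E] {σ : E ≃+* E} {L : Type*} [Group L] (c : HexGrp σ L)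

/-! ### Cardinalities -/

theorem card_insert [Finite L] {k : ZMod (2 * 6)} {s : Finset (ZMod (2 * 6))}
    (h : ∀ j ∈ s, j = k ∨ (k ≠ j + 6 ∧ bt k j ⊆ s)) (hs : HexGrp.Sep s {k}) :
    Nat.card (Sg c.X (insert k s)) = Nat.card (c.X k) * Nat.card (Sg c.X s) := by
  have hk : c.X k ≤ Sg c.X (insert k s) := X_le_Sg (Finset.mem_insert_self k s)
  have hs' : Sg c.X s ≤ Sg c.X (insert k s) := Sg_mono (Finset.subset_insert k s)
  rw [← Nat.card_prod]
  refine (Nat.card_congr (Equiv.ofBijective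
    (fun p : c.X k × Sg c.X s => (⟨(p.1 : L) * p.2, mul_mem (hk p.1.2) (hs' p.2.2)⟩ : Sg c.X (insert k s)))
    ⟨?_, ?_⟩)).symm
  · rintro ⟨x, v⟩ ⟨x', v'⟩ e
    obtain ⟨h1, h2⟩ := c.peel hs x.2 v.2 x'.2 v'.2 (congrArg Subtype.val e)
    exact Prod.ext (Subtype.ext h1) (Subtype.ext h2)
  · rintro ⟨g, hg⟩
    obtain ⟨x, hx, v, hv, rfl⟩ := c.exists_mul h hg
    exact ⟨(⟨x, hx⟩, ⟨v, hv⟩), rfl⟩

theorem card_maps [Finite L] {n : L} {f : ZMod (2 * 6) → ZMod (2 * 6)} (hn : Maps c.X n f) (k : ZMod (2 * 6)) :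
    Nat.card (c.X (f k)) = Nat.card (c.X k) := by
  refine (Nat.card_congr (Equiv.ofBijective
    (fun x : c.X k => (⟨n * x * n⁻¹, (hn k x).2 x.2⟩ : c.X (f k))) ⟨?_, ?_⟩)).symm
  · intro x y e
    have : n * (x : L) * n⁻¹ = n * y * n⁻¹ := congrArg Subtype.val e
    exact Subtype.ext (mul_left_cancel (mul_right_cancel this))
  · rintro ⟨g, hg⟩
    have e : g = n * (n⁻¹ * g * n) * n⁻¹ := by group
    refine ⟨⟨n⁻¹ * g * n, (hn k _).1 (by rwa [← e])⟩, Subtype.ext e.symm⟩

theorem card_X6 [Finite L] : Nat.card (c.X 6) = Nat.card ↥(fx σ) := by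
  refine (Nat.card_congr (Equiv.ofBijective (fun t : ↥(fx σ) => (⟨c.x6 t, c.mem6 t.2⟩ : c.X 6)) ⟨?_, ?_⟩)).symm
  · intro t u e
    exact Subtype.ext (c.x6_inj t.2 u.2 (congrArg Subtype.val e))
  · rintro ⟨g, hg⟩
    obtain ⟨a, ha, rfl⟩ := (c.par.mem6 _).1 hg
    exact ⟨⟨a, ha⟩, rfl⟩

theorem card_X1 [Finite L] : Nat.card (c.X 1) = Nat.card E := by
  refine (Nat.card_congr (Equiv.ofBijective (fun t : E => (⟨c.x1 t, c.mem1 t⟩ : c.X 1)) ⟨?_, ?_⟩)).symm
  · intro t u e
    exact c.x1_inj (congrArg Subtype.val e)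
  · rintro ⟨g, hg⟩
    obtain ⟨a, rfl⟩ := (c.par.mem1 _).1 hg
    exact ⟨a, rfl⟩

theorem card_even [Finite L] (r : Fin 6) : Nat.card (c.X (6 + 2 * (r.val : ZMod (2 * 6)))) = Nat.card ↥(fx σ) := by
  rw [card_maps c (c.maps_rot r.val) 6, card_X6]

theorem card_odd [Finite L] (r : Fin 6) : Nat.card (c.X (1 + 2 * (r.val : ZMod (2 * 6)))) = Nat.card E := by
  rw [card_maps c (c.maps_rot r.val) 1, card_X1]

theorem card_X2 [Finite L] : Nat.card (c.X 2) = Nat.card ↥(fx σ) := card_even c 4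
theorem card_X4 [Finite L] : Nat.card (c.X 4) = Nat.card ↥(fx σ) := card_even c 5
theorem card_X3 [Finite L] : Nat.card (c.X 3) = Nat.card E := card_odd c 1
theorem card_X5 [Finite L] : Nat.card (c.X 5) = Nat.card E := card_odd c 2

theorem Sg_single (k : ZMod (2 * 6)) : Sg c.X {k} = c.X k := by
  unfold Sg
  simp

/-- `|Q| = q³ r²` -/
theorem card_Q [Finite L] : Nat.card (Sg c.X {2, 3, 4, 5, 6}) =
    Nat.card ↥(fx σ) * (Nat.card ↥(fx σ) * Nat.card E) ^ 2 := by
  have h1 := card_insert c (k := 2) (s := {3, 4, 5, 6}) (by decide +kernel) (by decide +kernel)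
  have h2 := card_insert c (k := 3) (s := {4, 5, 6}) (by decide +kernel) (by decide +kernel)
  have h3 := card_insert c (k := 4) (s := {5, 6}) (by decide +kernel) (by decide +kernel)
  have h4 := card_insert c (k := 5) (s := {6}) (by decide +kernel) (by decide +kernel)
  rw [Sg_single, card_X6, card_X5] at h4
  rw [h4, card_X4] at h3
  rw [h3, card_X3] at h2
  rw [h2, card_X2] at h1
  rw [h1]
  ring

/-! ### Commutators in `Q` -/

theorem comm_of_kk {x y : L} (h : kk x y = 1) : x * y = y * x := by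
  unfold kk at h
  calc x * y = y * x * (x⁻¹ * y⁻¹ * x * y) := by group
    _ = y * x := by rw [h, mul_one]

/-- `X 4` commutes with `X 1, …, X 6` -/
theorem comm4 {k : ZMod (2 * 6)} (hk : k ∈ ({1, 2, 3, 4, 5, 6} : Finset (ZMod (2 * 6)))) {x y : L} (hx : x ∈ c.X k)
    (hy : y ∈ c.X 4) : x * y = y * x := by
  obtain ⟨t, ht, rfl⟩ := (c.par.mem4 _).1 hy
  simp only [Finset.mem_insert, Finset.mem_singleton] at hk
  rcases hk with rfl | rfl | rfl | rfl | rfl | rfl
  · obtain ⟨a, rfl⟩ := (c.par.mem1 _).1 hx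
    exact comm_of_kk (c.par.rel.c14 a t ht)
  · obtain ⟨a, ha, rfl⟩ := (c.par.mem2 _).1 hx
    exact comm_of_kk (c.par.rel.c24 a t ha ht)
  · obtain ⟨a, rfl⟩ := (c.par.mem3 _).1 hx
    exact comm_of_kk (c.par.rel.c34 a t ht)
  · obtain ⟨a, ha, rfl⟩ := (c.par.mem4 _).1 hx
    rw [← c.x4_add ha ht, ← c.x4_add ht ha, add_comm]
  · obtain ⟨a, rfl⟩ := (c.par.mem5 _).1 hx
    exact (comm_of_kk (c.par.rel.c45 t a ht)).symm
  · obtain ⟨a, ha, rfl⟩ := (c.par.mem6 _).1 hx
    exact (comm_of_kk (c.par.rel.c46 t a ht ha)).symm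

theorem comm4' {x y : L} (hx : x ∈ Sg c.X {1, 2, 3, 4, 5, 6}) (hy : y ∈ c.X 4) : x * y = y * x := by
  have key : Sg c.X {1, 2, 3, 4, 5, 6} ≤ centralizer ({y} : Set L) := by
    refine Sg_le fun k hk z hz => ?_
    rw [Subgroup.mem_centralizer_singleton_iff]
    exact comm4 c hk hz hy
  exact Subgroup.mem_centralizer_singleton_iff.1 (key hx)

/-- `X 7` commutes with `X 4` -/
theorem comm74 {x y : L} (hx : x ∈ c.X 7) (hy : y ∈ c.X 4) : x * y = y * x := by
  have h1 : c.n1 * x * c.n1⁻¹ ∈ c.X 1 := HexGrp.maps_mem c.maps_n1 hx (by decide)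
  have h2 : c.n1 * y * c.n1⁻¹ ∈ c.X 4 := HexGrp.maps_mem c.maps_n1 hy (by decide)
  have h3 := comm4 c (k := 1) (by decide) h1 h2
  calc x * y = c.n1⁻¹ * ((c.n1 * x * c.n1⁻¹) * (c.n1 * y * c.n1⁻¹)) * c.n1 := by group
    _ = c.n1⁻¹ * ((c.n1 * y * c.n1⁻¹) * (c.n1 * x * c.n1⁻¹)) * c.n1 := by rw [h3]
    _ = y * x := by group

/-- `pb` commutes with `X 4` -/
theorem comm_pb (w : SL2 E) {y : L} (hy : y ∈ c.X 4) : c.pb w * y = y * c.pb w := by
  have h := c.fix_pb (φ := (MulAut.conj y).toMonoidHom) (fun a => by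
    show y * c.x1 a * y⁻¹ = _
    rw [← comm4 c (k := 1) (by decide) (c.mem1 a) hy, mul_inv_cancel_right]) (fun g hg => by
    show y * g * y⁻¹ ∈ _
    rw [← comm74 c hg hy, mul_inv_cancel_right]
    exact hg) w
  have h1 : y * c.pb w * y⁻¹ = c.pb w := h
  rw [mul_inv_eq_iff_eq_mul] at h1
  exact h1.symm

/-! ### `pb (SL₂) ∩ Q = 1` -/

theorem wlow (w : SL2 E) (h : ent w 1 1 ≠ 0) :
    w = up (ent w 0 1 / ent w 1 1) * dg (ent w 1 1)⁻¹ (inv_ne_zero h) * lo (ent w 1 0 / ent w 1 1) := by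
  have hd := det_eq w
  refine ext_ent ?_ ?_ ?_ ?_
  · simp only [ent_mul, up_00, up_01, up_10, up_11, lo_00, lo_01, lo_10, lo_11, dg_00, dg_01, dg_10, dg_11, inv_inv]
    field_simp
    linear_combination hd
  · simp only [ent_mul, up_00, up_01, up_10, up_11, lo_00, lo_01, lo_10, lo_11, dg_00, dg_01, dg_10, dg_11, inv_inv]
    field_simp
    ring
  · simp only [ent_mul, up_00, up_01, up_10, up_11, lo_00, lo_01, lo_10, lo_11, dg_00, dg_01, dg_10, dg_11, inv_inv]
    field_simp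
    ring
  · simp only [ent_mul, up_00, up_01, up_10, up_11, lo_00, lo_01, lo_10, lo_11, dg_00, dg_01, dg_10, dg_11, inv_inv]
    field_simp
    ring

theorem pb_dg_inj [CharP E 2] {s : E} (hs : s ≠ 0) (h : c.pb (dg s hs) = 1) : s = 1 := by
  have h1 := (c.act_b s hs).a1 1
  rw [h, one_mul, inv_one, mul_one, mul_one] at h1
  have h2 := c.x1_inj h1
  have h3 : (s - 1) ^ 2 = 0 := by
    have : (2 : E) = 0 := CharTwo.two_eq_zero
    linear_combination h2.symm - this * (s - 1)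
  exact sub_eq_zero.1 (pow_eq_zero_iff two_ne_zero |>.1 h3)

theorem pb_Q_aux [CharP E 2] {u : L} (hu : u ∈ Sg c.X {2, 3, 4, 5, 6}) {w : SL2 E} (h : u = c.pb w)
    (hd : ent w 1 1 ≠ 0) : w = 1 := by
  have hw := wlow w hd
  set s : E := (ent w 1 1)⁻¹ with hsdef
  set b : E := ent w 0 1 / ent w 1 1 with hb
  set cc : E := ent w 1 0 / ent w 1 1 with hcc
  have hs : s ≠ 0 := inv_ne_zero hd
  have h1 : (c.x1 b)⁻¹ * u = c.pb (dg s hs) * c.pa (dg 1 one_ne_zero) * c.pb (lo cc) := by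
    rw [h, ← c.pb_up, dg_one', map_one, mul_one, ← map_inv, ← map_mul, ← map_mul]
    congr 1
    calc (up b)⁻¹ * w = (up b)⁻¹ * (up b * dg s hs * lo cc) := by rw [← hw]
      _ = _ := by group
  have h7 : c.pb (lo cc) ∈ c.X 7 := (c.pb_lo _).2 ⟨cc, rfl⟩
  obtain ⟨h2, h3⟩ := c.tri _ (mul_mem (inv_mem (X_le_Sg (by decide) (c.mem1 b))) (Sg_mono (by decide) hu)) _
    (X_le_Sg (by decide) h7) s hs 1 one_ne_zero h1
  have h4 : u = c.x1 b := by
    rw [inv_mul_eq_one] at h2
    exact h2.symm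
  have h5 : u = 1 := c.eq_one_of_mem (k := 1) (s := {2, 3, 4, 5, 6}) (by decide +kernel) (by rw [h4]; exact c.mem1 b) hu
  rw [h2, h3, dg_one', map_one, mul_one, mul_one] at h1
  have h6 : s = 1 := pb_dg_inj c hs h1.symm
  have h8 : b = 0 := by
    rw [h5] at h4
    rw [← c.x1_zero] at h4
    exact (c.x1_inj h4).symm
  have h9 : cc = 0 := by
    by_contra hne
    obtain ⟨x, hx⟩ : ∃ x : SL2 E, x = wm (1 : E) one_ne_zero := ⟨_, rfl⟩
    have e1 : wm (1 : E) one_ne_zero * lo cc * (wm (1 : E) one_ne_zero)⁻¹ = up (-cc) := by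
      rw [wm_lo', one_pow, mul_one]
    have e2 : c.x1 (-cc) = 1 := by
      rw [← c.pb_up, ← e1, map_mul, map_mul, h3, mul_one, ← map_mul, mul_inv_cancel, map_one]
    rw [← c.x1_zero] at e2
    exact hne (neg_eq_zero.1 (c.x1_inj e2))
  clear_value s b cc
  subst h8 h9 h6
  rw [up_zero, lo_zero, one_mul, mul_one] at hw
  have he : ent w 1 1 = 1 := inv_eq_one.1 hsdef.symm
  refine hw.trans (ext_ent ?_ ?_ ?_ ?_) <;> simp [he]

/-- **`pb (SL₂) ∩ Q = 1`, and `pb` is injective.** -/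
theorem pb_Q [CharP E 2] {u : L} (hu : u ∈ Sg c.X {2, 3, 4, 5, 6}) {w : SL2 E} (h : u = c.pb w) : w = 1 := by
  by_cases hd : ent w 1 1 = 0
  · exfalso
    have hdet := det_eq w
    rw [hd] at hdet
    have h10 : ent w 1 0 ≠ 0 := by
      intro h0
      rw [h0] at hdet
      simp at hdet
    have h1 : ent (up 1 * w * (up 1)⁻¹) 1 1 ≠ 0 := by
      rw [up_inv]
      simp only [ent_mul, up_00, up_01, up_10, up_11, hd]
      simpa using h10
    have h2 : c.x1 1 * u * (c.x1 1)⁻¹ ∈ Sg c.X {2, 3, 4, 5, 6} :=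
      c.conj_mem_Sg (by decide +kernel) (c.mem1 1) hu
    have h3 := pb_Q_aux c h2 (w := up 1 * w * (up 1)⁻¹) (by rw [h, ← c.pb_up]; simp only [map_mul, map_inv]) h1
    rw [mul_inv_eq_one, mul_eq_left] at h3
    rw [h3] at hd
    simp at hd
  · exact pb_Q_aux c hu h hd

end Cfsg.Agent.H751.HexQ
end

-- part: H751/IF/HexR
section
/-!
# S5719, `G₂` and `³D₄` in characteristic two: `Q` is special, centralisers, conjugacy (helper751)
-/

set_option autoImplicit false
set_option linter.unusedSectionVars false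
set_option linter.unusedSimpArgs false

namespace Cfsg.Agent.H751.HexQ

open Subgroup Cfsg.Agent.SplitTwo Cfsg.Agent.TitsThree.RankTwoZ Cfsg.Agent.Lib.SL2Mat Cfsg.Agent.Cit.HexBase
open scoped commutatorElement

variable {E : Type*} [Field E] {σ : E ≃+* E} {L : Type*} [Group L] (c : HexGrp σ L)

/-- the commutator of root elements of `Q`, in the form `x y x⁻¹ y⁻¹` -/
theorem cm_of_kk {x y z : L} (h : kk x⁻¹ y⁻¹ = z) : x * y * x⁻¹ * y⁻¹ = z := by
  rw [← h]
  unfold kk
  group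

theorem cm_symm {x y : L} {H : Subgroup L} (h : x * y * x⁻¹ * y⁻¹ ∈ H) : y * x * y⁻¹ * x⁻¹ ∈ H := by
  have := inv_mem h
  have e : (x * y * x⁻¹ * y⁻¹)⁻¹ = y * x * y⁻¹ * x⁻¹ := by group
  rwa [e] at this

theorem cm_of_comm {x y : L} {H : Subgroup L} (h : x * y = y * x) : x * y * x⁻¹ * y⁻¹ ∈ H := by
  rw [h, mul_inv_cancel_right, mul_inv_cancel]
  exact one_mem H

theorem cm26 {t u : E} (ht : σ t = t) (hu : σ u = u) :
    c.x2 t * c.x6 u * (c.x2 t)⁻¹ * (c.x6 u)⁻¹ = c.x4 (t * u) := by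
  apply cm_of_kk
  rw [← c.x2_neg ht, ← c.x6_neg hu, c.par.rel.c26 _ _ (HexGrp.neg_fix ht) (HexGrp.neg_fix hu), neg_mul_neg]

theorem cm35 (a b : E) : c.x3 a * c.x5 b * (c.x3 a)⁻¹ * (c.x5 b)⁻¹ = c.x4 (trc σ a b) := by
  apply cm_of_kk
  rw [← c.x3_neg, ← c.x5_neg, c.par.rel.c35]
  congr 1
  unfold trc
  rw [neg_mul_neg]

/-- commutators of root elements of `Q` are in `X 4` -/
theorem cm_gen {j k : ZMod (2 * 6)} (hj : j ∈ ({2, 3, 4, 5, 6} : Finset (ZMod (2 * 6))))
    (hk : k ∈ ({2, 3, 4, 5, 6} : Finset (ZMod (2 * 6)))) {x y : L} (hx : x ∈ c.X j) (hy : y ∈ c.X k) :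
    x * y * x⁻¹ * y⁻¹ ∈ c.X 4 := by
  have key : ∀ j k : ZMod (2 * 6), j ∈ ({2, 3, 4, 5, 6} : Finset (ZMod (2 * 6))) →
      k ∈ ({2, 3, 4, 5, 6} : Finset (ZMod (2 * 6))) → (j = 4 ∨ k = 4) ∨ j = k ∨
      (j, k) ∈ ({(2, 3), (2, 5), (2, 6), (3, 5), (3, 6), (5, 6)} : Finset (ZMod (2 * 6) × ZMod (2 * 6))) ∨
      (k, j) ∈ ({(2, 3), (2, 5), (2, 6), (3, 5), (3, 6), (5, 6)} : Finset (ZMod (2 * 6) × ZMod (2 * 6))) := by
    decide +kernel
  have hsame : ∀ j : ZMod (2 * 6), j ∈ ({2, 3, 4, 5, 6} : Finset (ZMod (2 * 6))) → ∀ x ∈ c.X j, ∀ y ∈ c.X j,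
      x * y = y * x := by
    intro j hj x hx y hy
    simp only [Finset.mem_insert, Finset.mem_singleton] at hj
    rcases hj with rfl | rfl | rfl | rfl | rfl
    · obtain ⟨a, ha, rfl⟩ := (c.par.mem2 _).1 hx
      obtain ⟨b, hb, rfl⟩ := (c.par.mem2 _).1 hy
      rw [← c.x2_add ha hb, ← c.x2_add hb ha, add_comm]
    · obtain ⟨a, rfl⟩ := (c.par.mem3 _).1 hx
      obtain ⟨b, rfl⟩ := (c.par.mem3 _).1 hy
      rw [← c.x3_add, ← c.x3_add, add_comm]
    · obtain ⟨a, ha, rfl⟩ := (c.par.mem4 _).1 hx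
      obtain ⟨b, hb, rfl⟩ := (c.par.mem4 _).1 hy
      rw [← c.x4_add ha hb, ← c.x4_add hb ha, add_comm]
    · obtain ⟨a, rfl⟩ := (c.par.mem5 _).1 hx
      obtain ⟨b, rfl⟩ := (c.par.mem5 _).1 hy
      rw [← c.x5_add, ← c.x5_add, add_comm]
    · obtain ⟨a, ha, rfl⟩ := (c.par.mem6 _).1 hx
      obtain ⟨b, hb, rfl⟩ := (c.par.mem6 _).1 hy
      rw [← c.x6_add ha hb, ← c.x6_add hb ha, add_comm]
  have h23 : ∀ x ∈ c.X 2, ∀ y ∈ c.X 3, x * y * x⁻¹ * y⁻¹ ∈ c.X 4 := by
    intro x hx y hy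
    obtain ⟨a, ha, rfl⟩ := (c.par.mem2 _).1 hx
    obtain ⟨b, rfl⟩ := (c.par.mem3 _).1 hy
    exact cm_of_comm (comm_of_kk (c.par.rel.c23 a b ha))
  have h25 : ∀ x ∈ c.X 2, ∀ y ∈ c.X 5, x * y * x⁻¹ * y⁻¹ ∈ c.X 4 := by
    intro x hx y hy
    obtain ⟨a, ha, rfl⟩ := (c.par.mem2 _).1 hx
    obtain ⟨b, rfl⟩ := (c.par.mem5 _).1 hy
    exact cm_of_comm (comm_of_kk (c.par.rel.c25 a b ha))
  have h26 : ∀ x ∈ c.X 2, ∀ y ∈ c.X 6, x * y * x⁻¹ * y⁻¹ ∈ c.X 4 := by
    intro x hx y hy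
    obtain ⟨a, ha, rfl⟩ := (c.par.mem2 _).1 hx
    obtain ⟨b, hb, rfl⟩ := (c.par.mem6 _).1 hy
    rw [cm26 c ha hb]
    exact c.mem4 (mul_fix ha hb)
  have h35 : ∀ x ∈ c.X 3, ∀ y ∈ c.X 5, x * y * x⁻¹ * y⁻¹ ∈ c.X 4 := by
    intro x hx y hy
    obtain ⟨a, rfl⟩ := (c.par.mem3 _).1 hx
    obtain ⟨b, rfl⟩ := (c.par.mem5 _).1 hy
    rw [cm35]
    exact c.mem4 (trc_fix c.cube a b)
  have h36 : ∀ x ∈ c.X 3, ∀ y ∈ c.X 6, x * y * x⁻¹ * y⁻¹ ∈ c.X 4 := by
    intro x hx y hy
    obtain ⟨a, rfl⟩ := (c.par.mem3 _).1 hx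
    obtain ⟨b, hb, rfl⟩ := (c.par.mem6 _).1 hy
    exact cm_of_comm (comm_of_kk (c.par.rel.c36 a b hb))
  have h56 : ∀ x ∈ c.X 5, ∀ y ∈ c.X 6, x * y * x⁻¹ * y⁻¹ ∈ c.X 4 := by
    intro x hx y hy
    obtain ⟨a, rfl⟩ := (c.par.mem5 _).1 hx
    obtain ⟨b, hb, rfl⟩ := (c.par.mem6 _).1 hy
    exact cm_of_comm (comm_of_kk (c.par.rel.c56 a b hb))
  have hup : ∀ k : ZMod (2 * 6), k ∈ ({2, 3, 4, 5, 6} : Finset (ZMod (2 * 6))) →
      k ∈ ({1, 2, 3, 4, 5, 6} : Finset (ZMod (2 * 6))) := by decide +kernel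
  have hlist : ∀ j k : ZMod (2 * 6),
      (j, k) ∈ ({(2, 3), (2, 5), (2, 6), (3, 5), (3, 6), (5, 6)} : Finset (ZMod (2 * 6) × ZMod (2 * 6))) →
      ∀ x ∈ c.X j, ∀ y ∈ c.X k, x * y * x⁻¹ * y⁻¹ ∈ c.X 4 := by
    intro j k h
    simp only [Finset.mem_insert, Finset.mem_singleton, Prod.mk.injEq] at h
    rcases h with ⟨rfl, rfl⟩ | ⟨rfl, rfl⟩ | ⟨rfl, rfl⟩ | ⟨rfl, rfl⟩ | ⟨rfl, rfl⟩ | ⟨rfl, rfl⟩
    · exact h23
    · exact h25
    · exact h26
    · exact h35
    · exact h36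
    · exact h56
  rcases key j k hj hk with (rfl | rfl) | rfl | h | h
  · exact cm_of_comm (comm4 c (hup k hk) hy hx).symm
  · exact cm_of_comm (comm4 c (hup j hj) hx hy)
  · exact cm_of_comm (hsame _ hj x hx y hy)
  · exact hlist _ _ h x hx y hy
  · exact cm_symm (hlist _ _ h y hy x hx)

theorem X4_le : c.X 4 ≤ Sg c.X {2, 3, 4, 5, 6} := X_le_Sg (by decide)

theorem central {x y : L} (hx : x ∈ Sg c.X {2, 3, 4, 5, 6}) (hy : y ∈ c.X 4) : x * y = y * x :=
  comm4' c (Sg_mono (by decide) hx) hy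

/-- commutators in `Q` -/
theorem cm_mem {x y : L} (hx : x ∈ Sg c.X {2, 3, 4, 5, 6}) (hy : y ∈ Sg c.X {2, 3, 4, 5, 6}) :
    x * y * x⁻¹ * y⁻¹ ∈ c.X 4 := by
  -- the elements `y` of `Q` with `[x, y] ∈ X 4`
  have key : ∀ x ∈ Sg c.X {2, 3, 4, 5, 6}, ∃ H : Subgroup L, (H : Set L) =
      {y | y ∈ Sg c.X {2, 3, 4, 5, 6} ∧ x * y * x⁻¹ * y⁻¹ ∈ c.X 4} := by
    intro x hx
    refine ⟨
      { carrier := {y | y ∈ Sg c.X {2, 3, 4, 5, 6} ∧ x * y * x⁻¹ * y⁻¹ ∈ c.X 4}
        one_mem' := ⟨one_mem _, by simp⟩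
        mul_mem' := ?_
        inv_mem' := ?_ }, rfl⟩
    · rintro y z ⟨hy, hy'⟩ ⟨hz, hz'⟩
      refine ⟨mul_mem hy hz, ?_⟩
      have e : x * (y * z) * x⁻¹ * (y * z)⁻¹ = (x * y * x⁻¹ * y⁻¹) * (x * z * x⁻¹ * z⁻¹) := by
        have h1 := central c hy hz'
        calc x * (y * z) * x⁻¹ * (y * z)⁻¹ = (x * y * x⁻¹ * y⁻¹) * (y * (x * z * x⁻¹ * z⁻¹) * y⁻¹) := by group
          _ = _ := by rw [h1, mul_inv_cancel_right]
      rw [e]
      exact mul_mem hy' hz'
    · rintro y ⟨hy, hy'⟩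
      refine ⟨inv_mem hy, ?_⟩
      have e : x * y⁻¹ * x⁻¹ * y⁻¹⁻¹ = (x * y * x⁻¹ * y⁻¹)⁻¹ := by
        have h1 := central c (inv_mem hy) (inv_mem hy')
        calc x * y⁻¹ * x⁻¹ * y⁻¹⁻¹ = y⁻¹ * (x * y * x⁻¹ * y⁻¹)⁻¹ * y := by group
          _ = _ := by rw [h1, inv_mul_cancel_right]
      rw [e]
      exact inv_mem hy'
  have h1 : ∀ k ∈ ({2, 3, 4, 5, 6} : Finset (ZMod (2 * 6))), ∀ z ∈ c.X k, ∀ x ∈ Sg c.X {2, 3, 4, 5, 6},
      z * x * z⁻¹ * x⁻¹ ∈ c.X 4 := by
    intro k hk z hz x hx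
    obtain ⟨H, hH⟩ := key z (X_le_Sg hk hz)
    have h2 : Sg c.X {2, 3, 4, 5, 6} ≤ H := by
      refine Sg_le fun j hj w hw => ?_
      rw [← SetLike.mem_coe, hH]
      exact ⟨X_le_Sg hj hw, cm_gen c hk hj hz hw⟩
    have h3 := h2 hx
    rw [← SetLike.mem_coe, hH] at h3
    exact h3.2
  obtain ⟨H, hH⟩ := key x hx
  have h2 : Sg c.X {2, 3, 4, 5, 6} ≤ H := by
    refine Sg_le fun j hj w hw => ?_
    rw [← SetLike.mem_coe, hH]
    exact ⟨X_le_Sg hj hw, cm_symm (h1 j hj w hw x hx)⟩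
  have h3 := h2 hy
  rw [← SetLike.mem_coe, hH] at h3
  exact h3.2

/-- `[p m s, y] = [m, y]` -/
theorem cm_mid {p m s y w : L} (hp : p * y = y * p) (hs : s * y = y * s) (hm : m * y * m⁻¹ * y⁻¹ = w)
    (hw : p * w = w * p) : (p * m * s) * y * (p * m * s)⁻¹ * y⁻¹ = w := by
  calc (p * m * s) * y * (p * m * s)⁻¹ * y⁻¹ = p * m * (s * y) * s⁻¹ * m⁻¹ * p⁻¹ * y⁻¹ := by group
    _ = p * (m * y * m⁻¹ * y⁻¹) * (y * p⁻¹ * y⁻¹) := by rw [hs]; group
    _ = (p * w) * (y * p⁻¹ * y⁻¹) := by rw [hm]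
    _ = w * (p * y) * p⁻¹ * y⁻¹ := by rw [hw]; group
    _ = w := by rw [hp]; group

theorem three_mul [CharP E 2] (z : E) (hz : σ z = z) (a : E) (ha : a ≠ 0) : trc σ a (z / a) = z := by
  unfold trc
  rw [mul_div_cancel₀ _ ha, hz, hz]
  have : (2 : E) = 0 := CharTwo.two_eq_zero
  linear_combination z * this

theorem trc_comm (a b : E) : trc σ a b = trc σ b a := by
  unfold trc
  rw [mul_comm a b]

theorem neg_eq' [CharP E 2] (z : E) : -z = z := CharTwo.neg_eq z

/-- a general element of `Q` -/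
def el (t a w b u : E) : L := c.x2 t * (c.x3 a * (c.x4 w * (c.x5 b * c.x6 u)))

theorem exists_el {x : L} (hx : x ∈ Sg c.X {2, 3, 4, 5, 6}) :
    ∃ t a w b u : E, σ t = t ∧ σ w = w ∧ σ u = u ∧ x = el c t a w b u := by
  obtain ⟨y2, hy2, v3, hv3, e2⟩ := c.exists_mul (k := 2) (s := {3, 4, 5, 6}) (by decide +kernel) hx
  obtain ⟨y3, hy3, v4, hv4, e3⟩ := c.exists_mul (k := 3) (s := {4, 5, 6}) (by decide +kernel) hv3
  obtain ⟨y4, hy4, v5, hv5, e4⟩ := c.exists_mul (k := 4) (s := {5, 6}) (by decide +kernel) hv4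
  obtain ⟨y5, hy5, v6, hv6, e5⟩ := c.exists_mul (k := 5) (s := {6}) (by decide +kernel) hv5
  rw [Sg_single] at hv6
  obtain ⟨t, ht, e2'⟩ := (c.par.mem2 _).1 hy2
  obtain ⟨a, e3'⟩ := (c.par.mem3 _).1 hy3
  obtain ⟨w, hw, e4'⟩ := (c.par.mem4 _).1 hy4
  obtain ⟨b, e5'⟩ := (c.par.mem5 _).1 hy5
  obtain ⟨u, hu, e6'⟩ := (c.par.mem6 _).1 hv6
  refine ⟨t, a, w, b, u, ht, hw, hu, ?_⟩
  unfold el
  rw [e2', e3', e4', e5', e6', e2, e3, e4, e5]

theorem q2 {t : E} (h : σ t = t) : c.x2 t ∈ Sg c.X {2, 3, 4, 5, 6} := X_le_Sg (by decide) (c.mem2 h)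
theorem q3 (t : E) : c.x3 t ∈ Sg c.X {2, 3, 4, 5, 6} := X_le_Sg (by decide) (c.mem3 t)
theorem q4 {t : E} (h : σ t = t) : c.x4 t ∈ Sg c.X {2, 3, 4, 5, 6} := X_le_Sg (by decide) (c.mem4 h)
theorem q5 (t : E) : c.x5 t ∈ Sg c.X {2, 3, 4, 5, 6} := X_le_Sg (by decide) (c.mem5 t)
theorem q6 {t : E} (h : σ t = t) : c.x6 t ∈ Sg c.X {2, 3, 4, 5, 6} := X_le_Sg (by decide) (c.mem6 h)

theorem cm_inv {x y z : L} (h : y * x * y⁻¹ * x⁻¹ = z) : x * y * x⁻¹ * y⁻¹ = z⁻¹ := by
  rw [← h]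
  group

/-- `u ≠ 0` -/
theorem special_u [CharP E 2] {w u z : E} (hw : σ w = w) (hu : σ u = u) (hz : σ z = z) (hu0 : u ≠ 0) :
    ∃ y ∈ Sg c.X {2, 3, 4, 5, 6}, el c 0 0 w 0 u * y * (el c 0 0 w 0 u)⁻¹ * y⁻¹ = c.x4 z := by
  have hf : σ (z / u) = z / u := by rw [map_div₀, hz, hu]
  refine ⟨c.x2 (z / u), q2 c hf, ?_⟩
  have h1 := cm26 c hf hu
  rw [div_mul_cancel₀ _ hu0] at h1
  have hm : c.x6 u * c.x2 (z / u) * (c.x6 u)⁻¹ * (c.x2 (z / u))⁻¹ = c.x4 z := by
    rw [cm_inv h1, ← c.x4_neg hz, neg_eq']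
  have h3 := cm_mid (p := c.x4 w) (m := c.x6 u) (s := 1) (y := c.x2 (z / u)) (w := c.x4 z)
    (comm_of_kk (c.par.rel.c24 _ _ hf hw)).symm (by rw [one_mul, mul_one]) hm
    (central c (q4 c hw) (c.mem4 hz))
  rw [mul_one] at h3
  unfold el
  rw [c.x2_zero, c.x3_zero, c.x5_zero, one_mul, one_mul, one_mul]
  exact h3

/-- `b ≠ 0` -/
theorem special_b [CharP E 2] {w b u z : E} (hw : σ w = w) (hu : σ u = u) (hz : σ z = z) (hb0 : b ≠ 0) :
    ∃ y ∈ Sg c.X {2, 3, 4, 5, 6}, el c 0 0 w b u * y * (el c 0 0 w b u)⁻¹ * y⁻¹ = c.x4 z := by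
  refine ⟨c.x3 (z / b), q3 c _, ?_⟩
  have h1 := cm35 c (z / b) b
  rw [trc_comm, three_mul z hz b hb0] at h1
  have hm : c.x5 b * c.x3 (z / b) * (c.x5 b)⁻¹ * (c.x3 (z / b))⁻¹ = c.x4 z := by
    rw [cm_inv h1, ← c.x4_neg hz, neg_eq']
  have h3 := cm_mid (p := c.x4 w) (m := c.x5 b) (s := c.x6 u) (y := c.x3 (z / b)) (w := c.x4 z)
    (comm_of_kk (c.par.rel.c34 _ _ hw)).symm (comm_of_kk (c.par.rel.c36 _ _ hu)).symm hm
    (central c (q4 c hw) (c.mem4 hz))
  unfold el
  rw [c.x2_zero, c.x3_zero, one_mul, one_mul, ← mul_assoc]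
  exact h3

/-- `a ≠ 0` -/
theorem special_a [CharP E 2] {a w b u z : E} (hw : σ w = w) (hu : σ u = u) (hz : σ z = z) (ha0 : a ≠ 0) :
    ∃ y ∈ Sg c.X {2, 3, 4, 5, 6}, el c 0 a w b u * y * (el c 0 a w b u)⁻¹ * y⁻¹ = c.x4 z := by
  refine ⟨c.x5 (z / a), q5 c _, ?_⟩
  have hm : c.x3 a * c.x5 (z / a) * (c.x3 a)⁻¹ * (c.x5 (z / a))⁻¹ = c.x4 z := by
    rw [cm35, three_mul z hz a ha0]
  have e1 : c.x4 w * c.x5 (z / a) = c.x5 (z / a) * c.x4 w := comm_of_kk (c.par.rel.c45 _ _ hw)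
  have e2 : c.x5 b * c.x5 (z / a) = c.x5 (z / a) * c.x5 b := by
    rw [← c.x5_add, ← c.x5_add, add_comm]
  have e3 : c.x6 u * c.x5 (z / a) = c.x5 (z / a) * c.x6 u := (comm_of_kk (c.par.rel.c56 _ _ hu)).symm
  have hs : c.x4 w * (c.x5 b * c.x6 u) * c.x5 (z / a) = c.x5 (z / a) * (c.x4 w * (c.x5 b * c.x6 u)) :=
    Commute.mul_left (show Commute (c.x4 w) (c.x5 (z / a)) from e1)
      (Commute.mul_left (show Commute (c.x5 b) (c.x5 (z / a)) from e2) (show Commute (c.x6 u) (c.x5 (z / a)) from e3))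
  have h3 := cm_mid (p := 1) (m := c.x3 a) (s := c.x4 w * (c.x5 b * c.x6 u)) (y := c.x5 (z / a))
    (w := c.x4 z) (by rw [one_mul, mul_one]) hs hm (by rw [one_mul, mul_one])
  unfold el
  rw [c.x2_zero, one_mul]
  rw [one_mul] at h3
  exact h3

/-- `t ≠ 0` -/
theorem special_t [CharP E 2] {t a w b u z : E} (ht : σ t = t) (hw : σ w = w) (hu : σ u = u) (hz : σ z = z)
    (ht0 : t ≠ 0) :
    ∃ y ∈ Sg c.X {2, 3, 4, 5, 6}, el c t a w b u * y * (el c t a w b u)⁻¹ * y⁻¹ = c.x4 z := by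
  have hf : σ (z / t) = z / t := by rw [map_div₀, hz, ht]
  refine ⟨c.x6 (z / t), q6 c hf, ?_⟩
  have hm : c.x2 t * c.x6 (z / t) * (c.x2 t)⁻¹ * (c.x6 (z / t))⁻¹ = c.x4 z := by
    rw [cm26 c ht hf, mul_div_cancel₀ _ ht0]
  have e0 : c.x3 a * c.x6 (z / t) = c.x6 (z / t) * c.x3 a := comm_of_kk (c.par.rel.c36 _ _ hf)
  have e1 : c.x4 w * c.x6 (z / t) = c.x6 (z / t) * c.x4 w := comm_of_kk (c.par.rel.c46 _ _ hw hf)
  have e2 : c.x5 b * c.x6 (z / t) = c.x6 (z / t) * c.x5 b := comm_of_kk (c.par.rel.c56 _ _ hf)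
  have e3 : c.x6 u * c.x6 (z / t) = c.x6 (z / t) * c.x6 u := by
    rw [← c.x6_add hu hf, ← c.x6_add hf hu, add_comm]
  have hs : c.x3 a * (c.x4 w * (c.x5 b * c.x6 u)) * c.x6 (z / t) =
      c.x6 (z / t) * (c.x3 a * (c.x4 w * (c.x5 b * c.x6 u))) :=
    Commute.mul_left (show Commute (c.x3 a) (c.x6 (z / t)) from e0)
      (Commute.mul_left (show Commute (c.x4 w) (c.x6 (z / t)) from e1)
        (Commute.mul_left (show Commute (c.x5 b) (c.x6 (z / t)) from e2)
          (show Commute (c.x6 u) (c.x6 (z / t)) from e3)))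
  have h3 := cm_mid (p := 1) (m := c.x2 t) (s := c.x3 a * (c.x4 w * (c.x5 b * c.x6 u))) (y := c.x6 (z / t))
    (w := c.x4 z) (by rw [one_mul, mul_one]) hs hm (by rw [one_mul, mul_one])
  unfold el
  rw [one_mul] at h3
  exact h3

/-- **`Q` is special.** -/
theorem special [CharP E 2] {x : L} (hx : x ∈ Sg c.X {2, 3, 4, 5, 6}) (hx4 : x ∉ c.X 4) {z : L} (hz : z ∈ c.X 4) :
    ∃ y ∈ Sg c.X {2, 3, 4, 5, 6}, x * y * x⁻¹ * y⁻¹ = z := by
  obtain ⟨z, hzf, rfl⟩ := (c.par.mem4 _).1 hz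
  obtain ⟨t, a, w, b, u, ht, hw, hu, rfl⟩ := exists_el c hx
  by_cases ht0 : t = 0
  · subst ht0
    by_cases ha0 : a = 0
    · subst ha0
      by_cases hb0 : b = 0
      · subst hb0
        by_cases hu0 : u = 0
        · subst hu0
          exfalso
          apply hx4
          unfold el
          rw [c.x2_zero, c.x3_zero, c.x5_zero, c.x6_zero, one_mul, one_mul, mul_one, mul_one]
          exact c.mem4 hw
        · exact special_u c hw hu hzf hu0
      · exact special_b c hw hu hzf hb0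
    · exact special_a c hw hu hzf ha0
  · exact special_t c ht hw hu hzf ht0

theorem sp [CharP E 2] : H255.IFK.Sp (c.X 4) (c.X 4) (Sg c.X {2, 3, 4, 5, 6}) where
  le := le_rfl
  le' := X4_le c
  central := fun _ hw _ hx => central c hx hw
  comm_mem := fun _ hx _ hy => cm_mem c hx hy
  special := fun _ hx hx4 _ hz => special c hx hx4 hz

end Cfsg.Agent.H751.HexQ
end

-- part: H751/IF/HexS
section
/-!
# S5719, `G₂` and `³D₄` in characteristic two: classes of root elements (helper751)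
-/

set_option autoImplicit false
set_option linter.unusedSectionVars false
set_option linter.unusedSimpArgs false

namespace Cfsg.Agent.H751.HexQ

open Subgroup Cfsg.Agent.SplitTwo Cfsg.Agent.TitsThree.RankTwoZ Cfsg.Agent.Lib.SL2Mat Cfsg.Agent.Cit.HexBase
open scoped commutatorElement

variable {E : Type*} [Field E] {σ : E ≃+* E} {L : Type*} [Group L] (c : HexGrp σ L)

/-- rotation by `2 r` -/
def rt (r : ℕ) : L := (c.n1 * c.n6) ^ r

theorem rt_mem {r : ℕ} {k j : ZMod (2 * 6)} (h : k + 2 * (r : ZMod (2 * 6)) = j) {x : L} (hx : x ∈ c.X k) :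
    rt c r * x * (rt c r)⁻¹ ∈ c.X j := HexGrp.maps_mem (c.maps_rot r) hx h

theorem rt_mem' {r : ℕ} {k j : ZMod (2 * 6)} (h : k + 2 * (r : ZMod (2 * 6)) = j) {x : L} (hx : x ∈ c.X j) :
    (rt c r)⁻¹ * x * rt c r ∈ c.X k := by
  have h1 := (c.maps_rot r k ((rt c r)⁻¹ * x * rt c r)).1
  apply h1
  show rt c r * ((rt c r)⁻¹ * x * rt c r) * (rt c r)⁻¹ ∈ _
  rw [show rt c r * ((rt c r)⁻¹ * x * rt c r) * (rt c r)⁻¹ = x by group]
  show x ∈ c.X (k + 2 * (r : ZMod (2 * 6)))
  rw [h]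
  exact hx

/-! ### Orders -/

theorem ord6 [CharP E 2] {x : L} (hx : x ∈ c.X 6) (h1 : x ≠ 1) : orderOf x = 2 := by
  obtain ⟨a, ha, rfl⟩ := (c.par.mem6 _).1 hx
  refine orderOf_eq_prime ?_ h1
  rw [pow_two, ← c.x6_add ha ha, CharTwo.add_self_eq_zero, c.x6_zero]

theorem orderOf_cj {G : Type*} [Group G] (g x : G) : orderOf (g * x * g⁻¹) = orderOf x := by
  have := orderOf_injective (MulAut.conj g).toMonoidHom (MulAut.conj g).injective x
  exact this

/-! ### Conjugacy of the elements of even root groups -/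

theorem isConj6 [CharP E 2] [Finite E] {x y : L} (hx : x ∈ c.X 6) (hy : y ∈ c.X 6) (hx1 : x ≠ 1) (hy1 : y ≠ 1) :
    IsConj x y := by
  obtain ⟨a, ha, rfl⟩ := (c.par.mem6 _).1 hx
  obtain ⟨b, hb, rfl⟩ := (c.par.mem6 _).1 hy
  have ha0 : a ≠ 0 := by
    rintro rfl
    exact hx1 c.x6_zero
  have hb0 : b ≠ 0 := by
    rintro rfl
    exact hy1 c.x6_zero
  have hf : b / a ∈ fx σ := by
    rw [mem_fx, map_div₀, ha, hb]
  obtain ⟨s, hs⟩ : ∃ s : ↥(fx σ), s ^ 2 = ⟨b / a, hf⟩ := by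
    have h2 : CharP ↥(fx σ) 2 := inferInstance
    obtain ⟨s, hs⟩ := (FiniteField.isSquare_of_char_two (ringChar.eq_iff.2 h2) (⟨b / a, hf⟩ : ↥(fx σ)))
    exact ⟨s, by rw [pow_two, hs]⟩
  have hs0 : s ≠ 0 := by
    rintro rfl
    rw [zero_pow two_ne_zero] at hs
    have := congrArg Subtype.val hs
    change (0 : E) = b / a at this
    exact (div_ne_zero hb0 ha0) this.symm
  have h3 := (c.act_a s hs0).a6 a ha
  have h4 : (s : E) ^ 2 = b / a := congrArg Subtype.val hs
  rw [h4, div_mul_cancel₀ _ ha0] at h3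
  exact isConj_iff.2 ⟨_, h3⟩

theorem evens (k : ZMod (2 * 6)) (hk : k ∈ ({0, 2, 4, 6, 8, 10} : Finset (ZMod (2 * 6)))) :
    ∃ r : ℕ, 6 + 2 * (r : ZMod (2 * 6)) = k := by
  have : ∀ k : ZMod (2 * 6), k ∈ ({0, 2, 4, 6, 8, 10} : Finset (ZMod (2 * 6))) →
      ∃ r : Fin 6, 6 + 2 * ((r.val : ℕ) : ZMod (2 * 6)) = k := by decide +kernel
  obtain ⟨r, hr⟩ := this k hk
  exact ⟨r.val, hr⟩

/-- an even root element is conjugate to a given `x ∈ X 6` -/
theorem isConj_even [CharP E 2] [Finite E] {x y : L} {k : ZMod (2 * 6)}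
    (hk : k ∈ ({0, 2, 4, 6, 8, 10} : Finset (ZMod (2 * 6)))) (hx : x ∈ c.X 6) (hx1 : x ≠ 1) (hy : y ∈ c.X k)
    (hy1 : y ≠ 1) : IsConj x y := by
  obtain ⟨r, hr⟩ := evens k hk
  have h1 := rt_mem' c hr hy
  have h2 : (rt c r)⁻¹ * y * rt c r ≠ 1 := by
    intro h
    apply hy1
    have : y = rt c r * ((rt c r)⁻¹ * y * rt c r) * (rt c r)⁻¹ := by group
    rw [this, h, mul_one, mul_inv_cancel]
  refine (isConj6 c hx h1 hx1 h2).trans (isConj_iff.2 ⟨rt c r, ?_⟩)
  group

theorem isConj_even' [CharP E 2] [Finite E] {x y : L} {k j : ZMod (2 * 6)}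
    (hk : k ∈ ({0, 2, 4, 6, 8, 10} : Finset (ZMod (2 * 6)))) (hj : j ∈ ({0, 2, 4, 6, 8, 10} : Finset (ZMod (2 * 6))))
    (hx : x ∈ c.X k) (hx1 : x ≠ 1) (hy : y ∈ c.X j)
    (hy1 : y ≠ 1) : IsConj x y := by
  have h6 : c.x6 1 ≠ 1 := by
    intro h
    rw [← c.x6_zero] at h
    exact one_ne_zero (c.x6_inj (map_one σ) (map_zero σ) h)
  exact (isConj_even c hk (c.mem6 (map_one σ)) h6 hx hx1).symm.trans (isConj_even c hj (c.mem6 (map_one σ)) h6 hy hy1)

/-! ### Centralisers of the elements of `X 4` -/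

theorem card_centralizer4 [CharP E 2] [Finite E] [Finite L] {t : L} (ht : t ∈ c.X 4) :
    Nat.card ↥(fx σ) ^ 3 * Nat.card E ^ 3 * (Nat.card E ^ 2 - 1) ≤ Nat.card (centralizer ({t} : Set L)) := by
  have := Fintype.ofFinite E
  have h1 : Nat.card (SL2 E) = Nat.card E * (Nat.card E ^ 2 - 1) := by
    have := ClassicalGeometry.PSL2Basic.card_SL2 (F := E)
    rw [this, Nat.card_eq_fintype_card]
  have h2 : Nat.card (Sg c.X {2, 3, 4, 5, 6}) * Nat.card (SL2 E) ≤ Nat.card (centralizer ({t} : Set L)) := by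
    rw [← Nat.card_prod]
    refine Nat.card_le_card_of_injective (fun p : Sg c.X {2, 3, 4, 5, 6} × SL2 E =>
      (⟨(p.1 : L) * c.pb p.2, ?_⟩ : centralizer ({t} : Set L))) ?_
    · refine mul_mem ?_ ?_
      · rw [Subgroup.mem_centralizer_singleton_iff]
        exact central c p.1.2 ht
      · rw [Subgroup.mem_centralizer_singleton_iff]
        exact comm_pb c p.2 ht
    · rintro ⟨u, w⟩ ⟨u', w'⟩ e
      have e1 : (u : L) * c.pb w = u' * c.pb w' := congrArg Subtype.val e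
      have e2 : (u' : L)⁻¹ * u = c.pb (w' * w⁻¹) := by
        rw [map_mul, map_inv]
        calc (u' : L)⁻¹ * u = (u' : L)⁻¹ * (u * c.pb w) * (c.pb w)⁻¹ := by group
          _ = (u' : L)⁻¹ * (u' * c.pb w') * (c.pb w)⁻¹ := by rw [e1]
          _ = _ := by group
      have e3 := pb_Q c (mul_mem (inv_mem u'.2) u.2) e2
      have e4 : w' = w := mul_inv_eq_one.1 e3
      subst e4
      exact Prod.ext (Subtype.ext (mul_right_cancel e1)) rfl
  rw [card_Q, h1] at h2
  calc _ = Nat.card ↥(fx σ) * (Nat.card ↥(fx σ) * Nat.card E) ^ 2 * (Nat.card E * (Nat.card E ^ 2 - 1)) := by ring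
    _ ≤ _ := h2

/-- the class of `t ∈ X k`, `k` even, has at most `Λ` elements -/
theorem index4 [CharP E 2] [Finite E] [Finite L] {Λ : ℕ}
    (hL : Nat.card L ≤ Nat.card ↥(fx σ) ^ 3 * Nat.card E ^ 3 * (Nat.card E ^ 2 - 1) * Λ) {t : L} (ht : t ∈ c.X 4) :
    (centralizer ({t} : Set L)).index ≤ Λ := by
  have h1 := card_centralizer4 c ht
  have h2 := (centralizer ({t} : Set L)).card_mul_index
  have h3 : 0 < Nat.card ↥(fx σ) ^ 3 * Nat.card E ^ 3 * (Nat.card E ^ 2 - 1) := by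
    have h4 : 1 < Nat.card E := Finite.one_lt_card
    have h5 : 0 < Nat.card ↥(fx σ) := Nat.card_pos
    have h6 : 1 < Nat.card E ^ 2 := Nat.one_lt_pow two_ne_zero h4
    have h7 : 0 < Nat.card E ^ 2 - 1 := by omega
    positivity
  refine Nat.le_of_mul_le_mul_left ?_ h3
  calc _ ≤ Nat.card (centralizer ({t} : Set L)) * (centralizer ({t} : Set L)).index := Nat.mul_le_mul_right _ h1
    _ = Nat.card L := h2
    _ ≤ _ := hL

theorem index_even [CharP E 2] [Finite E] [Finite L] {Λ : ℕ}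
    (hL : Nat.card L ≤ Nat.card ↥(fx σ) ^ 3 * Nat.card E ^ 3 * (Nat.card E ^ 2 - 1) * Λ) {t : L} {k : ZMod (2 * 6)}
    (hk : k ∈ ({0, 2, 4, 6, 8, 10} : Finset (ZMod (2 * 6)))) (ht : t ∈ c.X k) (ht1 : t ≠ 1) :
    (centralizer ({t} : Set L)).index ≤ Λ := by
  have h4 : c.x4 1 ≠ 1 := by
    intro h
    rw [← c.x4_zero] at h
    exact one_ne_zero (c.x4_inj (map_one σ) (map_zero σ) h)
  rw [H255.IFK.index_centralizer_conj (isConj_even' c hk (j := 4) (by decide) ht ht1 (c.mem4 (map_one σ)) h4)]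
  exact index4 c hL (c.mem4 (map_one σ))

/-! ### `⟨X 4, …, X 8⟩` and the root group `X 6` -/

theorem comm6 {x y : L} (hx : x ∈ Sg c.X {4, 5, 6, 7, 8}) (hy : y ∈ c.X 6) : x * y = y * x := by
  have h1 : (rt c 5) * x * (rt c 5)⁻¹ ∈ Sg c.X {2, 3, 4, 5, 6} :=
    conj_Sg (c.maps_rot 5) (by decide +kernel) hx
  have h2 : (rt c 5) * y * (rt c 5)⁻¹ ∈ c.X 4 := rt_mem c (by decide) hy
  have h3 := central c h1 h2
  calc x * y = (rt c 5)⁻¹ * ((rt c 5 * x * (rt c 5)⁻¹) * (rt c 5 * y * (rt c 5)⁻¹)) * rt c 5 := by group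
    _ = (rt c 5)⁻¹ * ((rt c 5 * y * (rt c 5)⁻¹) * (rt c 5 * x * (rt c 5)⁻¹)) * rt c 5 := by rw [h3]
    _ = _ := by group

theorem card_Q6 [Finite L] : Nat.card (Sg c.X {4, 5, 6, 7, 8}) =
    Nat.card ↥(fx σ) * (Nat.card ↥(fx σ) * Nat.card E) ^ 2 := by
  rw [← card_Q c]
  refine Nat.card_congr (Equiv.ofBijective (fun x : Sg c.X {4, 5, 6, 7, 8} =>
    (⟨rt c 5 * x * (rt c 5)⁻¹, conj_Sg (c.maps_rot 5) (by decide +kernel) x.2⟩ : Sg c.X {2, 3, 4, 5, 6})) ⟨?_, ?_⟩)
  · intro x y e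
    have : rt c 5 * (x : L) * (rt c 5)⁻¹ = rt c 5 * y * (rt c 5)⁻¹ := congrArg Subtype.val e
    exact Subtype.ext (mul_left_cancel (mul_right_cancel this))
  · rintro ⟨g, hg⟩
    have h1 : rt c 1 * g * (rt c 1)⁻¹ ∈ Sg c.X {4, 5, 6, 7, 8} := conj_Sg (c.maps_rot 1) (by decide +kernel) hg
    have h6 : Maps c.X (rt c 6) id := (c.maps_rot 6).congr fun k => by
      show k + 2 * ((6 : ℕ) : ZMod (2 * 6)) = k
      have : (2 * ((6 : ℕ) : ZMod (2 * 6))) = 0 := by decide
      rw [this, add_zero]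
    have h7 : (rt c 6)⁻¹ * (rt c 1 * g * (rt c 1)⁻¹) * rt c 6 ∈ Sg c.X {4, 5, 6, 7, 8} := by
      have := conj_Sg (h6.inv (g := id) fun _ => rfl) (s := {4, 5, 6, 7, 8}) (t := {4, 5, 6, 7, 8}) (fun k hk => hk) h1
      rwa [inv_inv] at this
    refine ⟨⟨_, h7⟩, Subtype.ext ?_⟩
    show rt c 5 * ((rt c 6)⁻¹ * (rt c 1 * g * (rt c 1)⁻¹) * rt c 6) * (rt c 5)⁻¹ = g
    unfold rt
    group

/-- `X 6` and its opposite -/
theorem opp {x : L} [CharP E 2] [Finite L] (hx : x ∈ Sg c.X {4, 5, 6, 7, 8})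
    (h : x * c.pa (lo 1) = c.pa (lo 1) * x) : x = 1 := by
  refine H255.IFK.opp_centralizer (Q := Sg c.X {4, 5, 6, 7, 8}) (t := c.x6 1) (x := c.pa (lo 1)) (n := c.n6) ?_
    (fun y hy => comm6 c hy (c.mem6 (map_one σ))) (fun y hy hy' => ?_) x hx h
  · have e : c.x6 1 = c.pa (up 1) := (c.pa_up 1).symm
    rw [e, ← map_mul, ← map_mul]
    show c.pa (wm 1 one_ne_zero) = _
    congr 1
    have h2 : (1 : ↥(fx σ)) + 1 = 0 := by
      apply Subtype.ext
      show (1 : E) + 1 = 0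
      exact CharTwo.add_self_eq_zero 1
    have hneg : -(1 : ↥(fx σ)) = 1 := neg_eq_of_add_eq_zero_left h2
    refine ext_ent ?_ ?_ ?_ ?_ <;> simp [ent_mul, h2, hneg]
  · have h1 : c.n6⁻¹ * (c.n6 * y * c.n6⁻¹) * c.n6⁻¹⁻¹ ∈ Sg c.X {10, 11, 0, 1, 2} :=
      conj_Sg (c.maps_n6.inv (g := fun k => 6 - k) fun k => by ring) (by decide +kernel) hy'
    rw [show c.n6⁻¹ * (c.n6 * y * c.n6⁻¹) * c.n6⁻¹⁻¹ = y by group] at h1
    exact c.eq_one_of_sep (s := {4, 5, 6, 7, 8}) (t := {10, 11, 0, 1, 2}) (by decide +kernel) hy h1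

end Cfsg.Agent.H751.HexQ
end

-- part: H751/IF/HexKill
section
/-!
# S5719, `G₂` and `³D₄` in characteristic two: the abstract contradiction (helper751)
-/

set_option autoImplicit false
set_option linter.unusedSectionVars false

namespace Cfsg.Agent.H751.HexQ

open Cfsg.Agent.H255 Subgroup Cfsg.Agent.SplitTwo Cfsg.Agent.TitsThree.RankTwoZ Cfsg.Agent.Lib.SL2Mat Cfsg.Agent.Cit.HexBase
  Cfsg.Agent.H255.IFK
open scoped commutatorElement Pointwise

variable {E : Type*} [Field E] {σ : E ≃+* E} {L : Type*} [Group L] (c : HexGrp σ L)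

/-- the even roots -/
abbrev Ev : Finset (ZMod (2 * 6)) := {0, 2, 4, 6, 8, 10}

theorem x6_ne : c.x6 1 ≠ 1 := by
  intro h
  rw [← c.x6_zero] at h
  exact one_ne_zero (c.x6_inj (map_one σ) (map_zero σ) h)

theorem cj_ne {G : Type*} [Group G] {g x : G} (h : x ≠ 1) : g * x * g⁻¹ ≠ 1 := by
  intro e
  apply h
  have : x = g⁻¹ * (g * x * g⁻¹) * g := by group
  rw [this, e]
  group

theorem cj_ne' {G : Type*} [Group G] {g x : G} (h : x ≠ 1) : g⁻¹ * x * g ≠ 1 := by
  have := cj_ne (g := g⁻¹) h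
  rwa [inv_inv] at this

/-- a nontrivial element of an even root group -/
theorem exists_ne {k : ZMod (2 * 6)} (hk : k ∈ Ev) : ∃ x ∈ c.X k, x ≠ 1 := by
  obtain ⟨r, hr⟩ := evens k hk
  exact ⟨_, rt_mem c hr (c.mem6 (map_one σ)), cj_ne (x6_ne c)⟩

section num

variable [CharP E 2] [Finite E] [Finite L] {Λ : ℕ}
  (hL : Nat.card L ≤ Nat.card ↥(fx σ) ^ 3 * Nat.card E ^ 3 * (Nat.card E ^ 2 - 1) * Λ)

include hL

theorem step1 (hΛ : Λ ≤ 16 * Nat.card ↥(fx σ) * Nat.card E ^ 5) {A : Subgroup L} (hA : IFK.Fix A) {t : L} (ht : t ∈ A)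
    (ht6 : t ∈ c.X 6) (ht1 : t ≠ 1) : c.X 4 ≤ A := by
  by_contra hZA
  have h4 : t ∉ c.X 4 := by
    intro h
    exact ht1 (c.eq_one_of_mem (k := 4) (s := {6}) (by decide +kernel) h (X_le_Sg (by decide) ht6))
  have h := s1 hA (sp c) (card_X4 c) (card_Q c) ht (X_le_Sg (by decide) ht6) h4 (ord6 c ht6 ht1)
    (fun z hz hz1 => isConj_even' c (k := 6) (j := 4) (by decide) (by decide) ht6 ht1 hz hz1) hZA
  have h2 := index_even c hL (k := 6) (by decide) ht6 ht1
  have h3 : Nat.card ↥(fx σ) ^ 4 * (centralizer ({t} : Set L)).index ≤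
      16 * (Nat.card ↥(fx σ) * Nat.card E) ^ 5 := by
    calc _ ≤ Nat.card ↥(fx σ) ^ 4 * (16 * Nat.card ↥(fx σ) * Nat.card E ^ 5) := Nat.mul_le_mul_left _ (h2.trans hΛ)
      _ = _ := by ring
  exact absurd (lt_of_lt_of_le h h3) (lt_irrefl _)

theorem step1' (hΛ : Λ ≤ 16 * Nat.card ↥(fx σ) * Nat.card E ^ 5) (r : ℕ) {A : Subgroup L} (hA : IFK.Fix A) {t : L}
    (ht : t ∈ A) (ht6 : t ∈ c.X (6 + 2 * (r : ZMod (2 * 6)))) (ht1 : t ≠ 1) :
    c.X (6 + 2 * ((r + 5 : ℕ) : ZMod (2 * 6))) ≤ A := by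
  have hA' := hA.conj (rt c r)⁻¹
  have e : (6 : ZMod (2 * 6)) + 2 * ((r + 5 : ℕ) : ZMod (2 * 6)) = 4 + 2 * (r : ZMod (2 * 6)) := by
    have h10 : (2 * (5 : ZMod (2 * 6))) = -2 := by decide
    push_cast
    rw [mul_add, h10]
    ring
  have h1 := step1 c hL hΛ hA' (t := (rt c r)⁻¹ * t * rt c r) (by
    rw [mem_conj]
    rw [show (rt c r)⁻¹⁻¹ * ((rt c r)⁻¹ * t * rt c r) * (rt c r)⁻¹ = t by group]
    exact ht) (rt_mem' c rfl ht6) (cj_ne' ht1)
  intro x hx
  rw [e] at hx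
  have h2 := h1 (rt_mem' c (k := 4) rfl hx)
  rw [mem_conj] at h2
  rwa [show (rt c r)⁻¹⁻¹ * ((rt c r)⁻¹ * x * rt c r) * (rt c r)⁻¹ = x by group] at h2

theorem step2 (hΛ : Λ ≤ 16 * Nat.card ↥(fx σ) * Nat.card E ^ 5) {A : Subgroup L} (hA : IFK.Fix A) {t : L}
    {k : ZMod (2 * 6)} (hk : k ∈ Ev) (ht : t ∈ A) (htk : t ∈ c.X k) (ht1 : t ≠ 1) : ∀ j ∈ Ev, c.X j ≤ A := by
  have hev : ∀ k : ZMod (2 * 6), k ∈ Ev → ∃ r : Fin 6, 6 + 2 * ((r.val : ℕ) : ZMod (2 * 6)) = k := by decide +kernel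
  obtain ⟨r, hr⟩ := hev k hk
  have h1 : ∀ n : ℕ, c.X (6 + 2 * ((r.val + 5 * (n + 1) : ℕ) : ZMod (2 * 6))) ≤ A := by
    intro n
    induction n with
    | zero => exact step1' c hL hΛ r.val hA ht (by rw [hr]; exact htk) ht1
    | succ n ih =>
      have hmem : (6 + 2 * ((r.val + 5 * (n + 1) : ℕ) : ZMod (2 * 6))) ∈ Ev := by
        have hall : ∀ z : ZMod (2 * 6), 6 + 2 * z ∈ Ev := by decide +kernel
        exact hall _
      obtain ⟨x, hx, hx1⟩ := exists_ne c hmem
      have := step1' c hL hΛ _ hA (ih hx) hx hx1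
      rwa [show r.val + 5 * (n + 1) + 5 = r.val + 5 * (n + 1 + 1) by ring] at this
  intro j hj
  have hcov : ∀ r : Fin 6, ∀ j : ZMod (2 * 6), j ∈ Ev → ∃ n : Fin 6,
      6 + 2 * ((r.val + 5 * (n.val + 1) : ℕ) : ZMod (2 * 6)) = j := by decide +kernel
  obtain ⟨n, hn⟩ := hcov r j hj
  rw [← hn]
  exact h1 n.val

/-- few cosets of `A ∩ X 3` in `X 3` -/
theorem step3 (hΛ : Λ ≤ Nat.card ↥(fx σ) ^ 7 * Nat.card E ^ 2) {A : Subgroup L} (hA : IFK.Fix A)
    (hev : ∀ j ∈ Ev, c.X j ≤ A) : A.relIndex (c.X 3) < Nat.card ↥(fx σ) := by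
  have h6 : c.x6 1 ∈ c.X 6 := c.mem6 (map_one σ)
  have h0 : c.pa (lo 1) ∈ c.X 0 := (c.pa_lo _).2 ⟨1, rfl⟩
  have hne0 : c.pa (lo 1) ≠ 1 := by
    intro h
    have h1 : c.n6⁻¹ * c.x6 1 * c.n6 = 1 := by
      have e : c.n6 * c.pa (lo 1) * c.n6⁻¹ = (c.x6 1)⁻¹ := by
        show c.pa (wm 1 one_ne_zero) * c.pa (lo 1) * (c.pa (wm 1 one_ne_zero))⁻¹ = _
        rw [← map_inv, ← map_mul, ← map_mul, wm_lo', one_pow, mul_one, c.pa_up]
        show c.x6 (-1) = _
        rw [c.x6_neg (map_one σ)]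
      rw [h, mul_one, mul_inv_cancel] at e
      have e' : c.x6 1 = 1 := inv_eq_one.1 e.symm
      rw [e']
      group
    exact cj_ne' (x6_ne c) h1
  obtain ⟨f, h1, h2⟩ := s13 (Q := Sg c.X {4, 5, 6, 7, 8}) hA (hev 6 (by decide) h6) (ord6 c h6 (x6_ne c))
    (hev 0 (by decide) h0) (isConj_even' c (k := 6) (j := 0) (by decide) (by decide) h6 (x6_ne c) h0 hne0)
    (fun y hy => Subgroup.mem_centralizer_singleton_iff.2 (comm6 c hy h6)) (fun y hy h => opp c hy h)
  have h3 := index_even c hL (k := 6) (by decide) h6 (x6_ne c)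
  rw [card_Q6] at h2
  have h4 : f ^ 4 < Nat.card ↥(fx σ) ^ 4 := by
    have h5 : (Nat.card ↥(fx σ) ^ 3 * Nat.card E ^ 2) * f ^ 4 <
        (Nat.card ↥(fx σ) ^ 3 * Nat.card E ^ 2) * Nat.card ↥(fx σ) ^ 4 := by
      calc _ = f ^ 4 * (Nat.card ↥(fx σ) * (Nat.card ↥(fx σ) * Nat.card E) ^ 2) := by ring
        _ < _ := h2
        _ ≤ _ := h3
        _ ≤ _ := hΛ
        _ = _ := by ring
    exact lt_of_mul_lt_mul_left h5 (Nat.zero_le _)
  have h5 : f < Nat.card ↥(fx σ) := lt_of_pow_lt_pow_left₀ 4 (Nat.zero_le _) h4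
  refine lt_of_le_of_lt (h1 (c.X 3) ?_) h5
  intro y hy
  obtain ⟨a, rfl⟩ := (c.par.mem3 _).1 hy
  exact Subgroup.mem_centralizer_singleton_iff.2 (comm_of_kk (c.par.rel.c36 _ _ (map_one σ)))

/-- rotation -/
theorem rot_ev {A : Subgroup L} (r : ℕ) (hev : ∀ j ∈ Ev, c.X j ≤ A) : ∀ j ∈ Ev, c.X j ≤ MulAut.conj (rt c r)⁻¹ • A := by
  intro j hj x hx
  rw [mem_conj, inv_inv]
  have hall : ∀ z : ZMod (2 * 6), ∀ j ∈ Ev, j + 2 * z ∈ Ev := by decide +kernel
  exact hev _ (hall r j hj) (rt_mem c rfl hx)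

theorem step3' (hΛ : Λ ≤ Nat.card ↥(fx σ) ^ 7 * Nat.card E ^ 2) {A : Subgroup L} (hA : IFK.Fix A)
    (hev : ∀ j ∈ Ev, c.X j ≤ A) : A.relIndex (c.X 1) < Nat.card ↥(fx σ) := by
  have h1 := step3 c hL hΛ (hA.conj (rt c 11)⁻¹) (rot_ev c hL 11 hev)
  have h2 : MulAut.conj (rt c 11)⁻¹ • (c.X 1) = c.X 3 := by
    ext x
    rw [mem_conj, inv_inv]
    have h3 := c.maps_rot 11 3 x
    have e : (fun k : ZMod (2 * 6) => k + 2 * ((11 : ℕ) : ZMod (2 * 6))) 3 = 1 := by decide
    rw [e] at h3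
    exact h3
  rw [← h2, Subgroup.relIndex_pointwise_smul] at h1
  exact h1

omit hL in
theorem pa_mem {A : Subgroup L} (h6 : c.X 6 ≤ A) (h0 : c.X 0 ≤ A) (w : SL2 ↥(fx σ)) : c.pa w ∈ A := by
  have hu : ∀ t, c.pa (up t) ∈ A := fun t => by rw [c.pa_up]; exact h6 (c.mem6 t.2)
  have hl : ∀ t, c.pa (lo t) ∈ A := fun t => h0 ((c.pa_lo _).2 ⟨t, rfl⟩)
  obtain ⟨a1, a2, a3, a4, e⟩ := exists_up_lo w
  rw [e]
  simp only [map_mul]
  exact mul_mem (mul_mem (mul_mem (hu _) (hl _)) (hu _)) (hl _)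

omit hL in
theorem step4 {A : Subgroup L} (h6 : c.X 6 ≤ A) (h0 : c.X 0 ≤ A) (h : A.relIndex (c.X 1) < Nat.card ↥(fx σ)) :
    c.X 1 ≤ A := by
  by_contra hcon
  obtain ⟨y, hy, hyA⟩ := SetLike.not_le_iff_exists.1 hcon
  obtain ⟨a, rfl⟩ := (c.par.mem1 _).1 hy
  apply absurd h
  rw [not_lt]
  show _ ≤ Nat.card (c.X 1 ⧸ A.subgroupOf (c.X 1))
  refine Nat.card_le_card_of_injective
    (fun s : ↥(fx σ) => (QuotientGroup.mk (⟨c.x1 (s * a), c.mem1 _⟩ : c.X 1) : c.X 1 ⧸ A.subgroupOf (c.X 1))) ?_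
  intro s s' hss
  by_contra hne
  apply hyA
  have hss' : (QuotientGroup.mk (⟨c.x1 (s * a), c.mem1 _⟩ : c.X 1) : c.X 1 ⧸ A.subgroupOf (c.X 1)) =
      QuotientGroup.mk (⟨c.x1 (s' * a), c.mem1 _⟩ : c.X 1) := hss
  rw [QuotientGroup.eq, Subgroup.mem_subgroupOf] at hss'
  have h1 : (c.x1 (s * a))⁻¹ * c.x1 (s' * a) ∈ A := hss'
  rw [← c.x1_neg, ← c.x1_add] at h1
  have hd : s' - s ≠ 0 := sub_ne_zero.2 (Ne.symm hne)
  have h2 := (c.act_a (s' - s) hd).a1 (-(s * a) + s' * a)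
  have h3 : ((s' - s : ↥(fx σ)) : E)⁻¹ * (-((s : E) * a) + s' * a) = a := by
    have h4 : ((s' - s : ↥(fx σ)) : E) ≠ 0 := fun h => hd (Subtype.ext h)
    rw [inv_mul_eq_iff_eq_mul₀ h4]
    show _ = ((s' : E) - s) * a
    ring
  rw [h3] at h2
  rw [← h2]
  exact mul_mem (mul_mem (pa_mem c h6 h0 _) h1) (inv_mem (pa_mem c h6 h0 _))

theorem step5 (hΛ : Λ ≤ Nat.card ↥(fx σ) ^ 7 * Nat.card E ^ 2) {A : Subgroup L} (hA : IFK.Fix A)
    (hev : ∀ j ∈ Ev, c.X j ≤ A) : A = ⊤ := by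
  rw [eq_top_iff, ← c.gen]
  refine iSup_le fun k => ?_
  have hk : k ∈ Ev ∨ ∃ r : Fin 6, 1 + 2 * ((r.val : ℕ) : ZMod (2 * 6)) = k := by
    revert k
    decide +kernel
  rcases hk with hk | ⟨r, hr⟩
  · exact hev k hk
  · have h1 := rot_ev c hL r.val hev
    have h2 := step4 c (h1 6 (by decide)) (h1 0 (by decide))
      (step3' c hL hΛ (hA.conj (rt c r.val)⁻¹) h1)
    intro x hx
    have h3 := h2 (rt_mem' c (k := 1) hr hx)
    rw [mem_conj, inv_inv] at h3
    rwa [show rt c r.val * ((rt c r.val)⁻¹ * x * rt c r.val) * (rt c r.val)⁻¹ = x by group] at h3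

/-- no even root element in `A` -/
theorem step6 (hΛ1 : Λ ≤ 16 * Nat.card ↥(fx σ) * Nat.card E ^ 5) (hΛ2 : Λ ≤ Nat.card ↥(fx σ) ^ 7 * Nat.card E ^ 2)
    {A : Subgroup L} (hA : IFK.Fix A) (hne : A ≠ ⊤) {k : ZMod (2 * 6)} (hk : k ∈ Ev) {t : L} (ht : t ∈ A)
    (htk : t ∈ c.X k) : t = 1 := by
  by_contra ht1
  exact hne (step5 c hL hΛ2 hA (step2 c hL hΛ1 hA hk ht htk ht1))

/-- no odd root element in `A` -/
theorem step7 (hΛ1 : Λ ≤ 16 * Nat.card ↥(fx σ) * Nat.card E ^ 5) (hΛ2 : Λ ≤ Nat.card ↥(fx σ) ^ 7 * Nat.card E ^ 2)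
    (hL7 : Nat.card L ≤ (Nat.card ↥(fx σ) * Nat.card E) ^ 7)
    {A : Subgroup L} (hA : IFK.Fix A) (hne : A ≠ ⊤) {t : L} (ht : t ∈ A) (ht3 : t ∈ c.X 3) (ho : orderOf t = 2) :
    False := by
  have hbot : A ⊓ c.X 4 = ⊥ := by
    rw [Subgroup.eq_bot_iff_forall]
    rintro x ⟨hx, hx4⟩
    exact step6 c hL hΛ1 hΛ2 hA hne (k := 4) (by decide) hx hx4
  have hZA : ¬ c.X 4 ≤ A := by
    intro h
    obtain ⟨x, hx, hx1⟩ := exists_ne c (k := 4) (by decide)
    exact hx1 (step6 c hL hΛ1 hΛ2 hA hne (k := 4) (by decide) (h hx) hx)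
  have htQ : t ∈ Sg c.X {2, 3, 4, 5, 6} := X_le_Sg (by decide) ht3
  have h1 := s2 (w := 1) hA (sp c) (card_X4 c) (card_X4 c) (card_Q c) (by rw [hbot, Subgroup.card_bot]) hZA ht htQ ho
  have h2 := card_centralizer_ge (sp c) le_rfl htQ
  rw [card_Q, card_X4, mul_comm] at h2
  have hq : 0 < Nat.card ↥(fx σ) := Nat.card_pos
  have h3 := Nat.le_of_mul_le_mul_right h2 hq
  have h4 : (Nat.card ↥(fx σ) * Nat.card E) ^ 2 ≤ Nat.card (centralizer ({t} : Set L)) :=
    h3.trans (Subgroup.card_le_of_le inf_le_right)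
  have h5 := (centralizer ({t} : Set L)).card_mul_index
  set I := (centralizer ({t} : Set L)).index with hI
  set n := Nat.card ↥(fx σ) * Nat.card E with hn
  have hr : 0 < Nat.card E := Nat.card_pos
  have hn0 : 0 < n := Nat.mul_pos hq hr
  have h6 : I ≤ n ^ 5 := by
    have h7 : n ^ 2 * I ≤ n ^ 2 * n ^ 5 := by
      calc n ^ 2 * I ≤ Nat.card (centralizer ({t} : Set L)) * I := Nat.mul_le_mul_right _ h4
        _ = Nat.card L := h5
        _ ≤ n ^ 7 := hL7
        _ = _ := by ring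
    exact Nat.le_of_mul_le_mul_left h7 (pow_pos hn0 2)
  have h7 : Nat.card ↥(fx σ) ^ 5 * n ^ 5 < Nat.card ↥(fx σ) ^ 5 * I := by
    calc _ = (Nat.card ↥(fx σ) * n) ^ 5 := by ring
      _ < _ := h1
      _ = _ := by ring
  exact absurd (lt_of_mul_lt_mul_left h7 (Nat.zero_le _)) (not_lt.2 h6)

/-- **The contradiction.** -/
theorem final (hΛ1 : Λ ≤ 16 * Nat.card ↥(fx σ) * Nat.card E ^ 5) (hΛ2 : Λ ≤ Nat.card ↥(fx σ) ^ 7 * Nat.card E ^ 2)
    (hL7 : Nat.card L ≤ (Nat.card ↥(fx σ) * Nat.card E) ^ 7)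
    (hinv : ∀ t : L, orderOf t = 2 → ∃ k, ∃ y ∈ c.X k, IsConj t y)
    {A : Subgroup L} (hA : IFK.Fix A) (hne : A ≠ ⊤) {t : L} (ht : t ∈ A) (ho : orderOf t = 2) : False := by
  obtain ⟨k, y, hy, hty⟩ := hinv t ho
  obtain ⟨g, hg⟩ := isConj_iff.1 hty
  have hcj : ∀ (g : L) (A : Subgroup L), A ≠ ⊤ → MulAut.conj g • A ≠ ⊤ := by
    intro g A hne h
    apply hne
    rw [Subgroup.eq_top_iff']
    intro x
    have : g * x * g⁻¹ ∈ MulAut.conj g • A := by rw [h]; exact mem_top _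
    rw [mem_conj] at this
    rwa [show g⁻¹ * (g * x * g⁻¹) * g = x by group] at this
  have hoy : orderOf y = 2 := by rw [← hg, orderOf_cj, ho]
  have hyA : y ∈ MulAut.conj g • A := by rw [← hg]; exact conj_mem_conj ht
  have hk : k ∈ Ev ∨ ∃ r : Fin 6, 3 + 2 * ((r.val : ℕ) : ZMod (2 * 6)) = k := by
    clear hy
    revert k
    decide +kernel
  rcases hk with hk | ⟨r, hr⟩
  · have h1 := step6 c hL hΛ1 hΛ2 (hA.conj g) (hcj g A hne) hk hyA hy
    rw [h1, orderOf_one] at hoy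
    omega
  · have h1 := rt_mem' c (k := 3) hr hy
    refine step7 c hL hΛ1 hΛ2 hL7 ((hA.conj g).conj (rt c r.val)⁻¹) (hcj _ _ (hcj g A hne))
      (t := (rt c r.val)⁻¹ * y * rt c r.val) ?_ h1 ?_
    · rw [mem_conj, inv_inv]
      rwa [show rt c r.val * ((rt c r.val)⁻¹ * y * rt c r.val) * (rt c r.val)⁻¹ = y by group]
    · have := orderOf_cj (rt c r.val)⁻¹ y
      rw [inv_inv] at this
      rw [this, hoy]

/-- **`KillE`** -/
theorem killE [IsSimpleGroup L] (hΛ1 : Λ ≤ 16 * Nat.card ↥(fx σ) * Nat.card E ^ 5)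
    (hΛ2 : Λ ≤ Nat.card ↥(fx σ) ^ 7 * Nat.card E ^ 2) (hL7 : Nat.card L ≤ (Nat.card ↥(fx σ) * Nat.card E) ^ 7)
    (hinv : ∀ t : L, orderOf t = 2 → ∃ k, ∃ y ∈ c.X k, IsConj t y) : H209.Fxy.KillE L := by
  rintro A Γ hIF ⟨t, ht, ho⟩
  have hna : ∃ a b : L, a * b ≠ b * a := by
    by_contra hcon
    push Not at hcon
    exact x6_ne c (c.cen _ fun x => hcon _ x)
  exact final c hL hΛ1 hΛ2 hL7 hinv (fix_of_IF hIF hna) hIF.ne_top ht ho

end num

end Cfsg.Agent.H751.HexQ
end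
end

-- part: H672/IF/ThOrb
section
set_option linter.all false
open scoped Cfsg.Agent.FastGrp

/-!
# S5719, `Th`: orbits of `A₉` on the spin module (helper672)

* `card_stab_le` : the stabilizer of a nonzero vector has order at most 1512;
* `exists_pair` : noncommuting elements of the hyperplane orthogonal to a vector.
-/

set_option autoImplicit false
set_option maxRecDepth 100000

namespace Cfsg.Agent.H672.IF.ThOrb

open Equiv Cfsg.Agent.ThType.SpinData Cfsg.Agent.ThType.SpinFacts Cfsg.Agent.ThType.SpinRep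
  Cfsg.Agent.ThType.ElemE

private def cT (m : ℕ) : ℕ := ((0x329a3151000035c6000000003364268b000000003646000034a3203a000030a3223a000000000000000031d3249c00000000349a334c357f35770000000034b50000258b000000003351000016110000358d000032ee213a000024b200000000000000000000348d361526d821b2324c248b3377253a000000000000000033c6000000003464269c0000000025a90000321f20d80000000012113213000000000000368e351300000000151136d13515351d0000000022b230460000000000003115000011110000208b0000308d311d000033f7000036dd000035e8000030132623219c23d8101133d1319a344c00000000000000000000000000000000259c0000000036f7000031c834ee000023b200000000359a0000325133bb000000000000352b2523339a314c00000000000000003146239c368d32f100000000000034f70000307f21a9000036c80000000035dd000031a334f10000238b0000312b356434c6228b000000000000000030ee26b2328d34c800000000000000000000331d22d800000000131135f10000000031ee32dd00000000242326a90000369a36d300000000233a305b0000000036bb327f00000000141134130000000022a9000023230000366c000036e80000365b0000218b0000209c0000000000000000000000000000000000000000000000000000000000000000000000000000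 : ℕ) >>> (16 * m)) % 65536

private noncomputable def _root_.Cfsg.Agent.LsF.fcb9f51_0 : {f // @Cfsg.Agent.ThType.SpinFacts.parN = f} := ⟨_, by first | (delta Cfsg.Agent.ThType.SpinFacts.parN; rewrite [Cfsg.Agent.LsF.nadd_pat, Cfsg.Agent.LsF.ndiv_pat, Cfsg.Agent.LsF.nmod_pat]; exact rfl) | exact rfl⟩
private noncomputable def _root_.Cfsg.Agent.LsF.fcb9f51_1 : {f // @Cfsg.Agent.ThType.SpinFacts.qN = f} := ⟨_, by first | (delta Cfsg.Agent.ThType.SpinFacts.qN; rewrite [Cfsg.Agent.LsF.fcb9f51_0.2, Cfsg.Agent.LsF.ndiv_pat, Cfsg.Agent.LsF.nmod_pat, Cfsg.Agent.LsF.nand_pat]; exact rfl) | exact rfl⟩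
private noncomputable def _root_.Cfsg.Agent.LsF.fcb9f51_2 : {f // @Cfsg.Agent.H672.IF.ThOrb.cT = f} := ⟨_, by first | (delta Cfsg.Agent.H672.IF.ThOrb.cT; rewrite [Cfsg.Agent.LsF.nmul_pat, Cfsg.Agent.LsF.nmod_pat, Cfsg.Agent.LsF.nshr_pat]; exact rfl) | exact rfl⟩
private noncomputable def _root_.Cfsg.Agent.LsF.fcb9f51_3 : {f // @Cfsg.Agent.ThType.SpinFacts.tab = f} := ⟨_, by first | (delta Cfsg.Agent.ThType.SpinFacts.tab; rewrite [Cfsg.Agent.LsF.vecCons_eq]; exact rfl) | exact rfl⟩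
private noncomputable def _root_.Cfsg.Agent.LsF.fcb9f51_4 : {f // @Cfsg.Agent.ThType.SpinFacts.ap = f} := ⟨_, by first | (delta Cfsg.Agent.ThType.SpinFacts.ap; rewrite [Cfsg.Agent.LsF.fcb9f51_3.2, Cfsg.Agent.LsF.ndiv_pat, Cfsg.Agent.LsF.nmod_pat, Cfsg.Agent.LsF.npow_pat]; exact rfl) | exact rfl⟩
/-- the nonsingular masks are in the orbit of 17: parent, generator and rank -/
private theorem reach_c : ∀ m < 256, qN m ≠ 0 → m = 17 ∨ (qN (cT m % 256) ≠ 0 ∧
    cT (cT m % 256) / 4096 < cT m / 4096 ∧ ap (Fin.ofNat 7 (cT m / 256 % 16)) (cT m % 256) = m) := by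
  (refine of_decide_eq_true ?_; (try (rewrite [Cfsg.Agent.LsF.fcb9f51_1.2, Cfsg.Agent.LsF.fcb9f51_2.2, Cfsg.Agent.LsF.fcb9f51_4.2, Cfsg.Agent.LsF.ndiv_pat, Cfsg.Agent.LsF.nmod_pat, Cfsg.Agent.LsF.instDecEq_eq, Cfsg.Agent.LsF.decLt_eq, Cfsg.Agent.LsF.dAnd_eq, Cfsg.Agent.LsF.dOr_eq, Cfsg.Agent.LsF.dNot_eq, Cfsg.Agent.LsF.dBallLT_eq, Cfsg.Agent.LsF.dAllP_eq, Cfsg.Agent.LsF.decide_eq])); decide +kernel)

section rep

variable {ρ : alternatingGroup (Fin 9) →* Matrix (Fin 8) (Fin 8) (ZMod 2)} (hρ : ∀ k, ρ (cyc k) = X k)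
include hρ

/-- `A₉` is transitive on the nonsingular vectors -/
theorem trans_ns (v : V) (h0 : q0 v ≠ 0) : ∃ g, (ρ g).mulVec (vec 17) = v := by
  have key : ∀ n m, m < 256 → qN m ≠ 0 → cT m / 4096 < n → ∃ g, (ρ g).mulVec (vec 17) = vec m := by
    intro n
    induction n with
    | zero => intro m _ _ h; exact absurd h (Nat.not_lt_zero _)
    | succ n ih =>
      intro m hm hq hn
      rcases reach_c m hm hq with rfl | ⟨h1, h2, h3⟩
      · exact ⟨1, rho_one _⟩
      · have hp : cT m % 256 < 256 := Nat.mod_lt _ (by norm_num)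
        obtain ⟨g, hg⟩ := ih _ hp h1 (lt_of_lt_of_le h2 (Nat.le_of_lt_succ hn))
        refine ⟨cyc (Fin.ofNat 7 (cT m / 256 % 16)) * g, ?_⟩
        rw [rho_mul, hg, hρ, ← vec_ap _ _ hp, h3]
  have hm := msk_lt v
  obtain ⟨g, hg⟩ := key _ (msk v) hm (fun h => h0 (by
    have := (q0_vec _ hm).2 h
    rwa [vec_msk] at this)) (Nat.lt_succ_self _)
  exact ⟨g, by rw [hg, vec_msk]⟩

omit hρ in
/-- the action of `A₉` on the spin module -/
abbrev act (ρ : alternatingGroup (Fin 9) →* Matrix (Fin 8) (Fin 8) (ZMod 2)) : MulAction (alternatingGroup (Fin 9)) V where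
  smul g v := (ρ g).mulVec v
  one_smul v := rho_one v
  mul_smul g h v := rho_mul g h v

private noncomputable def _root_.Cfsg.Agent.LsF.fcb9f51_5 : {f // @Cfsg.Agent.ThType.SpinData.q0 = f} := ⟨_, by first | (delta Cfsg.Agent.ThType.SpinData.q0; rewrite [Cfsg.Agent.LsF.zadd_pat, Cfsg.Agent.LsF.zmul_pat]; exact rfl) | exact rfl⟩
omit hρ in
theorem card_sing : Nat.card {v : V // q0 v = 0 ∧ v ≠ 0} = 135 := by
  rw [Nat.card_eq_fintype_card]
  (refine of_decide_eq_true ?_; (try (rewrite [Cfsg.Agent.LsF.piFintype_pat, Cfsg.Agent.LsF.dPiF_pat, Cfsg.Agent.LsF.fcb9f51_5.2, Cfsg.Agent.LsF.zdecEq_eq, Cfsg.Agent.LsF.zFintype_eq, Cfsg.Agent.LsF.tcard_eq, Cfsg.Agent.LsF.instDecEq_eq, Cfsg.Agent.LsF.dAnd_eq, Cfsg.Agent.LsF.dNot_eq, Cfsg.Agent.LsF.decide_eq])); decide +kernel)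

omit hρ in
theorem card_nsing : Nat.card {v : V // q0 v ≠ 0} = 120 := by
  rw [Nat.card_eq_fintype_card]
  (refine of_decide_eq_true ?_; (try (rewrite [Cfsg.Agent.LsF.piFintype_pat, Cfsg.Agent.LsF.fcb9f51_5.2, Cfsg.Agent.LsF.zdecEq_eq, Cfsg.Agent.LsF.zFintype_eq, Cfsg.Agent.LsF.tcard_eq, Cfsg.Agent.LsF.instDecEq_eq, Cfsg.Agent.LsF.dNot_eq, Cfsg.Agent.LsF.decide_eq])); decide +kernel)

theorem card_orbit_ge {w : V} (hw : w ≠ 0) :
    letI := act ρ
    120 ≤ Nat.card (MulAction.orbit (alternatingGroup (Fin 9)) w) := by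
  let _ := act ρ
  by_cases h0 : q0 w = 0
  · have h1 : Nat.card {v : V // q0 v = 0 ∧ v ≠ 0} ≤ Nat.card (MulAction.orbit (alternatingGroup (Fin 9)) w) := by
      refine Nat.card_le_card_of_injective (fun v => ⟨v.1, ?_⟩) ?_
      · obtain ⟨g, hg⟩ := trans_vec' hρ w v.1 h0 hw v.2.1 v.2.2
        exact ⟨g, hg⟩
      · intro a b hab
        exact Subtype.ext (congrArg (fun x : MulAction.orbit (alternatingGroup (Fin 9)) w => (x : V)) hab)
    rw [card_sing] at h1
    omega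
  · have h1 : Nat.card {v : V // q0 v ≠ 0} ≤ Nat.card (MulAction.orbit (alternatingGroup (Fin 9)) w) := by
      refine Nat.card_le_card_of_injective (fun v => ⟨v.1, ?_⟩) ?_
      · obtain ⟨g, hg⟩ := trans_ns hρ w h0
        obtain ⟨h, hh⟩ := trans_ns hρ v.1 v.2
        refine ⟨h * g⁻¹, ?_⟩
        change (ρ (h * g⁻¹)).mulVec w = v.1
        rw [rho_mul, ← hg, rho_inv_rho, hh]
      · intro a b hab
        exact Subtype.ext (congrArg (fun x : MulAction.orbit (alternatingGroup (Fin 9)) w => (x : V)) hab)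
    rwa [card_nsing] at h1

/-- **Subgroups of `A₉` leaving a small set of vectors invariant.** -/
theorem card_le {R : Subgroup (alternatingGroup (Fin 9))} {W : Set V}
    (hR : ∀ g ∈ R, ∀ w ∈ W, (ρ g).mulVec w ∈ W) (h0 : (0 : V) ∈ W) {w : V} (hwW : w ∈ W) (hw : w ≠ 0) :
    120 * Nat.card R ≤ 181440 * (Nat.card W - 1) := by
  let _ := act ρ
  have h1 : Nat.card (MulAction.orbit (alternatingGroup (Fin 9)) w) *
      Nat.card (MulAction.stabilizer (alternatingGroup (Fin 9)) w) = 181440 := by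
    rw [← card_A9, ← Nat.card_prod]
    exact Nat.card_congr (MulAction.orbitProdStabilizerEquivGroup (alternatingGroup (Fin 9)) w)
  have h2 := card_orbit_ge hρ hw
  have h3 : Nat.card (MulAction.orbit R w) * Nat.card (MulAction.stabilizer R w) = Nat.card R := by
    rw [← Nat.card_prod]
    exact Nat.card_congr (MulAction.orbitProdStabilizerEquivGroup R w)
  have h4 : Nat.card (MulAction.orbit R w) ≤ Nat.card W - 1 := by
    have h5 : MulAction.orbit R w ⊆ W \ {0} := by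
      rintro _ ⟨g, rfl⟩
      refine ⟨hR g.1 g.2 w hwW, ?_⟩
      exact rho_ne_zero g.1 hw
    have h6 : (W \ {0}).ncard ≤ W.ncard - 1 := by rw [Set.ncard_sdiff_singleton_of_mem h0]
    exact (Set.ncard_le_ncard h5 (Set.toFinite _)).trans h6
  have h5 : Nat.card (MulAction.stabilizer R w) ≤ Nat.card (MulAction.stabilizer (alternatingGroup (Fin 9)) w) := by
    refine Nat.card_le_card_of_injective (fun g => ⟨g.1.1, g.2⟩) ?_
    intro a b hab
    apply Subtype.ext
    apply Subtype.ext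
    exact congrArg (fun x : MulAction.stabilizer (alternatingGroup (Fin 9)) w => (x : alternatingGroup (Fin 9))) hab
  calc 120 * Nat.card R = Nat.card (MulAction.orbit R w) * (120 * Nat.card (MulAction.stabilizer R w)) := by
        rw [← h3]; ring
    _ ≤ (Nat.card W - 1) * (Nat.card (MulAction.orbit (alternatingGroup (Fin 9)) w) *
        Nat.card (MulAction.stabilizer (alternatingGroup (Fin 9)) w)) :=
        Nat.mul_le_mul h4 (Nat.mul_le_mul h2 h5)
    _ = 181440 * (Nat.card W - 1) := by rw [h1, mul_comm]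

private def cW (m : ℕ) : ℕ := ((0x443403443403443403443403443403443403443403443403481401481401481401481401481401481401481401481401842842802802842842802802842842802802842842802802501401501401501401501401501401501401501401501401443403443403443403443403443403443403443403443403481401481401481401481401481401481401481401481401842842802802842842802802842842802802842842802802601401601401601401601401601401601401601401601401443403443403443403443403443403443403443403443403481401481401481401481401481401481401481401481401842842802802842842802802842842802802842842802802501401501401501401501401501401501401501401501401443403443403443403443403443403443403443403443403481401481401481401481401481401481401481401481401842842802802842842802802842842802802842842802802c01401802401c01401802401c01401802401c01401802401 : ℕ) >>> (12 * m)) % 4096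

private noncomputable def _root_.Cfsg.Agent.LsF.fcb9f51_6 : {f // @Cfsg.Agent.H672.IF.ThOrb.cW = f} := ⟨_, by first | (delta Cfsg.Agent.H672.IF.ThOrb.cW; rewrite [Cfsg.Agent.LsF.nmul_pat, Cfsg.Agent.LsF.nmod_pat, Cfsg.Agent.LsF.nshr_pat]; exact rfl) | exact rfl⟩
private noncomputable def _root_.Cfsg.Agent.LsF.fcb9f51_7 : {f // @Cfsg.Agent.ThType.SpinData.b0 = f} := ⟨_, by first | (delta Cfsg.Agent.ThType.SpinData.b0; rewrite [Cfsg.Agent.LsF.zadd_pat, Cfsg.Agent.LsF.zmul_pat]; exact rfl) | exact rfl⟩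
private noncomputable def _root_.Cfsg.Agent.LsF.fcb9f51_8 : {f // @Cfsg.Agent.ThType.SpinFacts.vec = f} := ⟨_, by first | (delta Cfsg.Agent.ThType.SpinFacts.vec; rewrite [Cfsg.Agent.LsF.testBit_eq, Cfsg.Agent.LsF.dBoolEq_eq, Cfsg.Agent.LsF.ite_eq]; exact rfl) | exact rfl⟩
omit hρ in
theorem pair_masks : ∀ m < 256, ∃ i < 64, ∃ j < 64, b0 (vec i) (vec m) = 0 ∧ b0 (vec j) (vec m) = 0 ∧
    b0 (vec i) (vec j) = 1 := by
  have h : ∀ m < 256, cW m / 64 < 64 ∧ b0 (vec (cW m % 64)) (vec m) = 0 ∧ b0 (vec (cW m / 64)) (vec m) = 0 ∧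
      b0 (vec (cW m % 64)) (vec (cW m / 64)) = 1 := by
    (refine of_decide_eq_true ?_; (try (rewrite [Cfsg.Agent.LsF.fcb9f51_6.2, Cfsg.Agent.LsF.fcb9f51_7.2, Cfsg.Agent.LsF.fcb9f51_8.2, Cfsg.Agent.LsF.ndiv_pat, Cfsg.Agent.LsF.nmod_pat, Cfsg.Agent.LsF.zdecEq_eq, Cfsg.Agent.LsF.decLt_eq, Cfsg.Agent.LsF.dAnd_eq, Cfsg.Agent.LsF.dBallLT_eq, Cfsg.Agent.LsF.decide_eq])); decide +kernel)
  exact fun m hm => ⟨_, Nat.mod_lt _ (by norm_num), _, (h m hm).1, (h m hm).2⟩

omit hρ in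
/-- noncommuting elements of the hyperplane -/
theorem exists_pair (v : V) : ∃ a b : V, b0 a v = 0 ∧ b0 b v = 0 ∧ b0 a b = 1 := by
  obtain ⟨i, -, j, -, h1, h2, h3⟩ := pair_masks (msk v) (msk_lt v)
  rw [vec_msk] at h1 h2
  exact ⟨vec i, vec j, h1, h2, h3⟩

end rep

end Cfsg.Agent.H672.IF.ThOrb
end

-- part: H255/IF/Root
section
prune_inst 0x7f0000000000000000000000000000000000000000000000000000000000000000000000000000000000000000000000000000000000000000000000000000000000000000000000000000000000000000000000000000000000000000000000000000000000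
set_option linter.all false
open scoped Cfsg.Agent.FastGrp

/-!
# S5719, `q` even: a long root involution in `A` gives all long root groups (helper255)

`T : HTab n k` a table of the special group `E` of the highest root (`T.ok`), `O` the orbit of the highest root with the
distances `d` (`DistOk`); `xe_top`: `A` contains the root groups reached by a path of roots at angle 60°.
-/

set_option autoImplicit false
set_option linter.unusedSectionVars false

namespace Cfsg.Agent.H255.IFR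

open scoped Pointwise
open Cfsg Cfsg.Lie Cfsg.Agent.ChevalleyStructure Cfsg.Agent.ChevalleyStructure.Elts
  Cfsg.Agent.ChevalleyStructure.RootWord Cfsg.Agent.ChevalleyStructure.RootCombGood
  Cfsg.Agent.H934.HeisRoot Cfsg.Agent.H934.HeisData Cfsg.Agent.H934.HeisChev
  Cfsg.Agent.H430.CfChev Cfsg.Agent.H70.ChevFix Cfsg.Agent.H255.IFK Subgroup

universe u

/-! ### `Sp` from `Data` -/

section Data

variable {Γ V A K : Type*} [Group Γ] [AddCommGroup V] [AddCommGroup A] (D : Data Γ V A K)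

theorem sp_of_data : Sp D.Zg D.Zg D.Qg where
  le := le_rfl
  le' := D.Zg_le_Qg
  central := by
    rintro w ⟨a, rfl⟩ x hx
    exact D.central (D.Qg_le hx) a
  comm_mem := by
    rintro x ⟨v, a, rfl⟩ y ⟨w, b, rfl⟩
    exact ⟨D.om v w, (D.comm_eq v w a b).symm⟩
  special := by
    rintro x ⟨v, a, rfl⟩ hx z ⟨b, rfl⟩
    have hv : v ≠ 0 := by
      rintro rfl
      apply hx
      obtain ⟨c, hc⟩ := D.exists_X_zero
      exact ⟨c + a, by rw [D.z_add, ← hc]⟩
    obtain ⟨w, hw⟩ := D.special v hv b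
    refine ⟨D.X w, D.X_mem_Qg w, ?_⟩
    have h1 := D.comm_eq v w a 0
    rw [D.z_zero, mul_one, hw] at h1
    exact h1

end Data

variable {D : ChevalleyDatum} (hD : InList D) {F : Type u} [Field F]

local notation "xr" => H934.HeisChev.xe

/-! ### Weyl elements -/

section Weyl

variable [CharP F 2]

/-- the Weyl element `n_i` -/
def ne (i : ℕ) : ↥(D.group F) := ⟨nG hD (D.simple i) 1, nG_mem_group hD _ _⟩

theorem ne_conj {i s : ℕ} (hi : i < D.rank) (hs : s < D.nroots) (t : F) :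
    ne hD i * xr hD s t * (ne hD i)⁻¹ = xr hD (D.reflectRoot i s) t :=
  Subtype.ext (H83.ChevInv.n_conj hD hi hs t)

/-- a word as a group element, in a subgroup containing the `n_i` -/
theorem exists_weyl (K : Subgroup ↥(D.group F)) (hK : ∀ i < D.rank, ne hD i ∈ K) {w : List ℕ}
    (hw : ∀ a ∈ w, a < D.rank) :
    ∃ n ∈ K, ∀ s < D.nroots, ∀ t : F, n * xr hD s t * n⁻¹ = xr hD (wact D w s) t := by
  have G := RootComb.good_of_mem hD
  induction w with
  | nil => exact ⟨1, one_mem _, fun s _ t => by rw [inv_one, mul_one, one_mul, wact_nil]⟩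
  | cons i w ih =>
    have hw' : ∀ a ∈ w, a < D.rank := fun a ha => hw a (by simp [ha])
    obtain ⟨n, hn, h⟩ := ih hw'
    refine ⟨ne hD i * n, mul_mem (hK i (hw i (by simp))) hn, fun s hs t => ?_⟩
    rw [wact_cons, ← ne_conj hD (hw i (by simp)) (wact_lt G hw' hs), ← h s hs t]
    group

/-- `A` contains everything once it contains the root groups of the fundamental roots and their negatives. -/
theorem eq_top {A : Subgroup ↥(D.group F)}
    (h : ∀ i < D.rank, ∀ t : F, xr hD (D.simple i) t ∈ A ∧ xr hD (D.neg (D.simple i)) t ∈ A) : A = ⊤ := by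
  have G := RootComb.good_of_mem hD
  have hn : ∀ i < D.rank, ne hD i ∈ A := by
    intro i hi
    have e : (ne hD i : ↥(D.group F)) = xr hD (D.simple i) 1 * (xr hD (D.neg (D.simple i)) 1 * xr hD (D.simple i) 1) :=
      Subtype.ext (H83.ChevInv.nG_eq hD _)
    rw [e]
    exact mul_mem (h i hi 1).1 (mul_mem (h i hi 1).2 (h i hi 1).1)
  have h1 : D.group F ≤ A.map (D.group F).subtype := by
    rw [group_le_iff hD]
    intro r hr t
    obtain ⟨i, hi, w, hw, rfl⟩ := exists_word G hr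
    obtain ⟨n, hnA, hc⟩ := exists_weyl hD A hn hw
    refine ⟨xr hD (wact D w (D.simple i)) t, ?_, rfl⟩
    rw [← hc _ (NPerm.simple_lt hD hi)]
    exact mul_mem (mul_mem hnA (h i hi t).1) (inv_mem hnA)
  rw [Subgroup.eq_top_iff']
  intro g
  obtain ⟨g', hg', e⟩ := h1 g.2
  have : g' = g := Subtype.ext e
  rwa [← this]

end Weyl

/-! ### The orbit of the highest root -/

section Orbit

variable {O : List ℕ} {d : ℕ → ℕ} (hO : DistOk D O d)

include hO in
theorem exists_word_top {r : ℕ} (hr : r ∈ O) : ∃ w : List ℕ, (∀ a ∈ w, a < D.rank) ∧ wact D w r = D.nroots - 1 := by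
  obtain ⟨m, hm⟩ : ∃ m, m = d r := ⟨_, rfl⟩
  induction m generalizing r with
  | zero =>
    rcases hO.step r hr with h1 | ⟨i, hi, h1, h2⟩
    · exact ⟨[], by simp, h1⟩
    · omega
  | succ m ih =>
    rcases hO.step r hr with h1 | ⟨i, hi, h1, h2⟩
    · exact ⟨[], by simp, h1⟩
    · obtain ⟨w, hw, e⟩ := ih h1 (by omega)
      refine ⟨w ++ [i], ?_, ?_⟩
      · intro a ha
        rcases List.mem_append.1 ha with ha | ha
        · exact hw a ha
        · rw [List.mem_singleton.1 ha]; exact hi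
      · rw [wact_append]; exact e

include hO in
theorem wact_mem {w : List ℕ} (hw : ∀ a ∈ w, a < D.rank) {r : ℕ} (hr : r ∈ O) : wact D w r ∈ O := by
  induction w with
  | nil => exact hr
  | cons i w ih => exact hO.closed _ (ih fun a ha => hw a (by simp [ha])) i (hw i (by simp))

end Orbit

/-! ### The step -/

section Step

variable {O : List ℕ} {d : ℕ → ℕ} (hO : DistOk D O d) {n k : ℕ} (T : HTab n k) (ok : T.Ok D)
  (hth : T.th = D.nroots - 1)

theorem mem_Zg_iff {g : ↥(D.group F)} : g ∈ (T.rh hD ok F).toData.Zg ↔ ∃ a : F, xr hD T.th a = g := Iff.rfl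

include hth in
theorem Zg_eq : (T.rh hD ok F).toData.Zg = XX D F (D.nroots - 1) := by
  ext g
  rw [mem_Zg_iff, mem_XX hD, hth]
  constructor
  · rintro ⟨a, rfl⟩; exact ⟨a, rfl⟩
  · rintro ⟨a, rfl⟩; exact ⟨a, rfl⟩

theorem xS_mem (i : Fin n) (a : F) : xr hD (T.S i) a ∈ (T.rh hD ok F).toData.Qg := by
  have h1 := (T.rh hD ok F).toData.X_mem_Qg (Pi.single i a)
  have h2 : (T.rh hD ok F).toData.X (Pi.single i a) = xr hD (T.S i) a := (T.rh hD ok F).X_single i a
  rwa [h2] at h1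

variable [Fintype F]

include hD hO in
/-- the number of conjugates of an element of `X_θ` -/
theorem index_top_le {c e : ℕ} {L : List ℕ} (hL : O.map d = L) (hk : ∀ x ∈ L, x ≤ e) (hcar : carry L e ≤ c)
    {t : ↥(D.group F)} (ht : t ∈ XX D F (D.nroots - 1)) :
    (centralizer ({t} : Set ↥(D.group F))).index ≤ c * Fintype.card F ^ e * Fintype.card F := by
  have hfin : Finite (GL D.Idx F) := inferInstance
  have hfinG : Finite ↥(D.group F) := inferInstance
  have h1 := index_normalizer_le (F := F) hD hO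
  have h2 : (O.map fun r => Nat.card F ^ d r) = L.map fun x => Nat.card F ^ x := by
    rw [← hL, List.map_map]; rfl
  rw [h2] at h1
  have h3 := h1.trans ((sum_le Finite.one_lt_card L e hk).trans (Nat.mul_le_mul_right _ hcar))
  rw [Nat.card_eq_fintype_card] at h3
  refine (index_centralizer_le (N := Subgroup.normalizer (XX D F (D.nroots - 1) : Set ↥(D.group F)))
    (Q := XX D F (D.nroots - 1)) (fun m hm x hx => ?_) ht).trans ?_
  · exact (Subgroup.mem_normalizer_iff.1 hm x).1 hx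
  · refine Nat.mul_le_mul h3 ?_
    have h4 : Function.Surjective (fun a : F => (⟨H70.ChevFix.xe hD (D.nroots - 1) a, xe_mem_XX hD _ a⟩ :
        XX D F (D.nroots - 1))) := by
      rintro ⟨g, hg⟩
      obtain ⟨a, rfl⟩ := (mem_XX hD).1 hg
      exact ⟨a, rfl⟩
    rw [← Nat.card_eq_fintype_card (α := F)]
    exact Nat.card_le_card_of_surjective _ h4

variable [CharP F 2]

/-- the bound `|t^T| ≤ c q^(2m+2)` is small -/
theorem num_one {q m c e : ℕ} (hq : 2 ≤ q) (hc : c < 16) (he : e + 1 + 4 ≤ 5 * m) {I : ℕ}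
    (h1 : 16 * (q ^ m) ^ 5 < q ^ 4 * I) (h2 : I ≤ c * q ^ e * q) : False := by
  have h3 : 16 * (q ^ m) ^ 5 < c * q ^ (e + 1 + 4) := by
    calc 16 * (q ^ m) ^ 5 < q ^ 4 * I := h1
      _ ≤ q ^ 4 * (c * q ^ e * q) := Nat.mul_le_mul_left _ h2
      _ = _ := by ring
  have h4 : q ^ (e + 1 + 4) ≤ (q ^ m) ^ 5 := by
    rw [← pow_mul]
    exact Nat.pow_le_pow_right (by omega) (by omega)
  have h5 : c * q ^ (e + 1 + 4) ≤ 16 * (q ^ m) ^ 5 := Nat.mul_le_mul (by omega) h4
  omega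

variable (hlev : ∀ r ∈ O, car D (D.nroots - 1) r = 1 → ∃ i, T.S i = r)

include hO ok hth hlev in
/-- **The step.** -/
theorem step {c e m : ℕ} {L : List ℕ} (hL : O.map d = L) (hk : ∀ x ∈ L, x ≤ e) (hcar : carry L e ≤ c)
    (hc : c < 16) (hm : n = 2 * m) (he : e + 1 + 4 ≤ 5 * m) {A : Subgroup ↥(D.group F)} (hA : IFK.Fix A) {r s : ℕ}
    (hr : r ∈ O) (hs : s ∈ O) (hrs : car D s r = 1) {a : F} (ha : a ≠ 0) (hra : xr hD r a ∈ A) (b : F) :
    xr hD s b ∈ A := by
  have hfin : Finite (GL D.Idx F) := inferInstance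
  have hfinG : Finite ↥(D.group F) := inferInstance
  have G := RootComb.good_of_mem hD
  obtain ⟨w, hw, hws⟩ := exists_word_top hO hs
  obtain ⟨g, -, hg⟩ := exists_weyl hD (⊤ : Subgroup ↥(D.group F)) (fun _ _ => mem_top _) hw
  set r' := wact D w r with hr'
  have hr'O : r' ∈ O := wact_mem hO hw hr
  have hcar' : car D (D.nroots - 1) r' = 1 := by
    rw [← hws, hr', car_wact G hw (hO.lt s hs) (hO.lt r hr)]
    exact hrs
  obtain ⟨i, hi⟩ := hlev r' hr'O hcar'
  set A' := MulAut.conj g • A with hA'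
  have hFix : IFK.Fix A' := hA.conj g
  set DD := (T.rh hD ok F).toData with hDD
  have hZ := Zg_eq hD T ok hth (F := F)
  have ht : xr hD r' a ∈ A' := by
    rw [← hg r (hO.lt r hr) a]
    exact conj_mem_conj hra
  have htQ : xr hD r' a ∈ DD.Qg := by rw [← hi]; exact xS_mem hD T ok i a
  have ht1 : xr hD r' a ≠ 1 := fun h => ha (H934.HeisChev.xe_eq_one hD (hO.lt r' hr'O) h)
  have hsq : xr hD r' a * xr hD r' a = 1 := Subtype.ext (H83.ChevInv.xG_sq hD r' a)
  have ho : orderOf (xr hD r' a) = 2 := orderOf_eq_prime (by rw [pow_two]; exact hsq) ht1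
  have htZ : xr hD r' a ∉ DD.Zg := by
    rintro ⟨b', hb'⟩
    have h1 : xr hD T.th b' = xr hD r' a := hb'
    have h2 : xG hD T.th b' = xG hD r' a := congrArg Subtype.val h1
    have h3 : r' = T.th := by
      have hb0 : b' ≠ 0 := by
        rintro rfl
        exact ht1 (by rw [← h1, H934.HeisChev.xe_zero])
      exact H86.Par.eq_of_xG_eq hD ok.th_lt (hO.lt r' hr'O) hb0 h2
    rw [h3, hth, G.car_self (hO.lt _ hO.top)] at hcar'
    norm_num at hcar'
  -- conjugacy with the elements of `Z`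
  have hcj : ∀ z ∈ DD.Zg, z ≠ 1 → IsConj (xr hD r' a) z := by
    rintro z ⟨b', rfl⟩ hz1
    obtain ⟨v, hv, hvr⟩ := exists_word_top hO hr'O
    obtain ⟨y, -, hy⟩ := exists_weyl hD (⊤ : Subgroup ↥(D.group F)) (fun _ _ => mem_top _) hv
    have h1 := hy r' (hO.lt r' hr'O) a
    rw [hvr, ← hth] at h1
    have hb0 : b' ≠ 0 := by
      rintro rfl
      exact hz1 DD.z_zero
    exact (isConj_iff.2 ⟨y, h1⟩).trans (z_isConj hD T ok a b' ha hb0)
  have hq : Nat.card DD.Zg = Fintype.card F := by rw [DD.card_Zg, Nat.card_eq_fintype_card]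
  have hQ : Nat.card DD.Qg = Fintype.card F * (Fintype.card F ^ m) ^ 2 := by
    rw [DD.card_Qg, Nat.card_fun, Nat.card_eq_fintype_card, Nat.card_eq_fintype_card, Fintype.card_fin, hm]
    ring
  have hZA : DD.Zg ≤ A' := by
    by_contra hcon
    have h1 := s1 hFix (sp_of_data DD) hq hQ ht htQ htZ ho hcj hcon
    have hzc := hcj (DD.z 1) ⟨1, rfl⟩ (fun h => one_ne_zero (DD.z_inj _ h))
    have h2 := index_top_le hD hO hL hk hcar (F := F) (t := DD.z 1) (by rw [← hZ]; exact ⟨1, rfl⟩)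
    rw [← index_centralizer_conj hzc] at h2
    exact num_one Fintype.one_lt_card hc he h1 h2
  have h1 : xr hD (D.nroots - 1) b ∈ A' := hZA (by rw [hZ]; exact xe_mem_XX hD _ b)
  rw [hA', mem_conj, ← hws, ← hg s (hO.lt s hs) b] at h1
  have e1 : g⁻¹ * (g * xr hD s b * g⁻¹) * g = xr hD s b := by group
  rwa [e1] at h1

/-- a path of roots at angle 60° -/
def okPath (D : ChevalleyDatum) (O : List ℕ) : ℕ → List ℕ → Bool
  | _, [] => true
  | r, s :: l => O.contains s && decide (car D s r = 1) && okPath D O s l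

include hO ok hth hlev in
/-- **Paths.** -/
theorem path {c e m : ℕ} {L : List ℕ} (hL : O.map d = L) (hk : ∀ x ∈ L, x ≤ e) (hcar : carry L e ≤ c)
    (hc : c < 16) (hm : n = 2 * m) (he : e + 1 + 4 ≤ 5 * m) {A : Subgroup ↥(D.group F)} (hA : IFK.Fix A) :
    ∀ (l : List ℕ) (r : ℕ) (_ : r ∈ O) (_ : okPath D O r l = true) (_ : ∃ a : F, a ≠ 0 ∧ xr hD r a ∈ A)
      (hl : l ≠ []), ∀ b : F, xr hD (l.getLast hl) b ∈ A := by
  intro l
  induction l with
  | nil => intro r _ _ _ hl; exact absurd rfl hl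
  | cons s l ih =>
    intro r hr hok ⟨a, ha, hra⟩ hl b
    unfold okPath at hok
    rw [Bool.and_eq_true, Bool.and_eq_true, List.contains_iff_mem, decide_eq_true_eq] at hok
    have h1 := fun b => step hD hO T ok hth hlev hL hk hcar hc hm he hA hr hok.1.1 hok.1.2 ha hra b
    rcases eq_or_ne l [] with rfl | hl'
    · exact h1 b
    · rw [List.getLast_cons hl']
      exact ih s hok.1.1 hok.2 ⟨1, one_ne_zero, h1 1⟩ hl' b

end Step

end Cfsg.Agent.H255.IFR

private theorem dce_2ed9425e79c7 : _root_.True := by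
  try have : _root_.True := by simp only [_root_.Cfsg.Agent.H255.IFR.okPath.eq_def]
  try have : _root_.True := by simp only [_root_.Cfsg.Agent.H255.IFR.ne.congr_simp]
  exact _root_.True.intro
end

-- part: H255/IF/RootG
section
prune_inst 0x7f0000000000000000000000000000000000000000000000000000000000000000000000000000000000000000000000000000000000000000000000000000000000000000000000000000000000000000000000000000000000000000000000000000000000
set_option linter.all false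
open scoped Cfsg.Agent.FastGrp

/-!
# S5719, `q` even: the step for a general special group `E` of the highest root (helper255)

`HE`: a special group `E` with centre `X_θ`, `|E| = q (q^m)²`, containing the root groups `X_r`, `r ∈ O` of level 1.
-/

set_option autoImplicit false
set_option linter.unusedSectionVars false

namespace Cfsg.Agent.H255.IFG

open scoped Pointwise
open Cfsg Cfsg.Lie Cfsg.Agent.ChevalleyStructure Cfsg.Agent.ChevalleyStructure.Elts
  Cfsg.Agent.ChevalleyStructure.RootWord Cfsg.Agent.ChevalleyStructure.RootCombGood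
  Cfsg.Agent.H934.HeisChev Cfsg.Agent.H430.CfChev Cfsg.Agent.H70.ChevFix Cfsg.Agent.H255.IFK
  Cfsg.Agent.H255.IFR Subgroup

universe u

local notation "xr" => H934.HeisChev.xe

variable {D : ChevalleyDatum} (hD : InList D) {F : Type u} [Field F]

/-- `Z = X_θ` -/
abbrev ZT (D : ChevalleyDatum) (F : Type u) [Field F] : Subgroup ↥(D.group F) := XX D F (D.nroots - 1)

include hD in
theorem mem_ZT {g : ↥(D.group F)} : g ∈ ZT D F ↔ ∃ a : F, g = xr hD (D.nroots - 1) a := mem_XX hD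

include hD in
theorem card_ZT [Fintype F] : Nat.card (ZT D F) = Fintype.card F := by
  have hlt : D.nroots - 1 < D.nroots := by have := nroots_pos hD; omega
  rw [← Nat.card_eq_fintype_card (α := F)]
  symm
  refine Nat.card_congr (Equiv.ofBijective (fun a : F => (⟨xr hD (D.nroots - 1) a, (mem_ZT hD).2 ⟨a, rfl⟩⟩ : ZT D F))
    ⟨?_, ?_⟩)
  · intro a b h
    exact H70.ChevFix.xe_inj hD hlt (congrArg Subtype.val h)
  · rintro ⟨g, hg⟩
    obtain ⟨a, rfl⟩ := (mem_ZT hD).1 hg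
    exact ⟨a, rfl⟩

/-- The data. -/
structure HE (O : List ℕ) (m : ℕ) (E : Subgroup ↥(D.group F)) : Prop where
  sp : Sp (ZT D F) (ZT D F) E
  card : Nat.card E = Nat.card F * (Nat.card F ^ m) ^ 2
  mem : ∀ r ∈ O, car D (D.nroots - 1) r = 1 → ∀ a : F, xr hD r a ∈ E
  conjZ : ∀ a b : F, a ≠ 0 → b ≠ 0 → IsConj (xr hD (D.nroots - 1) a) (xr hD (D.nroots - 1) b)

variable [Fintype F] [CharP F 2] {O : List ℕ} {d : ℕ → ℕ} (hO : DistOk D O d) {m : ℕ}
  {E : Subgroup ↥(D.group F)} (hE : HE hD O m E)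

include hO in
/-- the elements of order 2 in the root groups of `O` are conjugate -/
theorem conj_top (hcz : ∀ a b : F, a ≠ 0 → b ≠ 0 → IsConj (xr hD (D.nroots - 1) a) (xr hD (D.nroots - 1) b)) {r : ℕ}
    (hr : r ∈ O) {a b : F} (ha : a ≠ 0) (hb : b ≠ 0) : IsConj (xr hD r a) (xr hD (D.nroots - 1) b) := by
  obtain ⟨v, hv, hvr⟩ := exists_word_top hO hr
  obtain ⟨y, -, hy⟩ := exists_weyl hD (⊤ : Subgroup ↥(D.group F)) (fun _ _ => mem_top _) hv
  have h1 := hy r (hO.lt r hr) a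
  rw [hvr] at h1
  exact (isConj_iff.2 ⟨y, h1⟩).trans (hcz a b ha hb)

include hO hE in
/-- **The step.** -/
theorem step {c e : ℕ} {L : List ℕ} (hL : O.map d = L) (hk : ∀ x ∈ L, x ≤ e) (hcar : carry L e ≤ c)
    (hc : c < 16) (he : e + 1 + 4 ≤ 5 * m) {A : Subgroup ↥(D.group F)} (hA : IFK.Fix A) {r s : ℕ}
    (hr : r ∈ O) (hs : s ∈ O) (hrs : car D s r = 1) {a : F} (ha : a ≠ 0) (hra : xr hD r a ∈ A) (b : F) :
    xr hD s b ∈ A := by
  have hfin : Finite (GL D.Idx F) := inferInstance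
  have hfinG : Finite ↥(D.group F) := inferInstance
  have G := RootComb.good_of_mem hD
  obtain ⟨w, hw, hws⟩ := exists_word_top hO hs
  obtain ⟨g, -, hg⟩ := exists_weyl hD (⊤ : Subgroup ↥(D.group F)) (fun _ _ => mem_top _) hw
  set r' := wact D w r with hr'
  have hr'O : r' ∈ O := wact_mem hO hw hr
  have hcar' : car D (D.nroots - 1) r' = 1 := by
    rw [← hws, hr', car_wact G hw (hO.lt s hs) (hO.lt r hr)]
    exact hrs
  set A' := MulAut.conj g • A with hA'
  have hFix : IFK.Fix A' := hA.conj g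
  have ht : xr hD r' a ∈ A' := by
    rw [← hg r (hO.lt r hr) a]
    exact conj_mem_conj hra
  have htQ : xr hD r' a ∈ E := hE.mem r' hr'O hcar' a
  have ht1 : xr hD r' a ≠ 1 := fun h => ha (H934.HeisChev.xe_eq_one hD (hO.lt r' hr'O) h)
  have hsq : xr hD r' a * xr hD r' a = 1 := Subtype.ext (H83.ChevInv.xG_sq hD r' a)
  have ho : orderOf (xr hD r' a) = 2 := orderOf_eq_prime (by rw [pow_two]; exact hsq) ht1
  have htZ : xr hD r' a ∉ ZT D F := by
    intro hmem
    obtain ⟨b', h1⟩ := (mem_ZT hD).1 hmem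
    have h2 : xG hD (D.nroots - 1) b' = xG hD r' a := (congrArg Subtype.val h1).symm
    have h3 : r' = D.nroots - 1 := by
      have hb0 : b' ≠ 0 := by
        rintro rfl
        exact ht1 (by rw [h1, H934.HeisChev.xe_zero])
      exact H86.Par.eq_of_xG_eq hD (hO.lt _ hO.top) (hO.lt r' hr'O) hb0 h2
    rw [h3, G.car_self (hO.lt _ hO.top)] at hcar'
    norm_num at hcar'
  have hcj : ∀ z ∈ ZT D F, z ≠ 1 → IsConj (xr hD r' a) z := by
    intro z hz hz1
    obtain ⟨b', rfl⟩ := (mem_ZT hD).1 hz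
    have hb0 : b' ≠ 0 := by
      rintro rfl
      exact hz1 (H934.HeisChev.xe_zero hD _)
    exact conj_top hD hO hE.conjZ hr'O ha hb0
  have hq := card_ZT hD (F := F)
  have hQ : Nat.card E = Fintype.card F * (Fintype.card F ^ m) ^ 2 := by
    rw [hE.card, Nat.card_eq_fintype_card]
  have hZA : ZT D F ≤ A' := by
    by_contra hcon
    have h1 := s1 hFix hE.sp hq hQ ht htQ htZ ho hcj hcon
    have hz1 : xr hD (D.nroots - 1) (1 : F) ∈ ZT D F := (mem_ZT hD).2 ⟨1, rfl⟩
    have hzc := hcj _ hz1 (fun h => one_ne_zero (H934.HeisChev.xe_eq_one hD (hO.lt _ hO.top) h))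
    have h2 := index_top_le hD hO hL hk hcar (F := F) hz1
    rw [← index_centralizer_conj hzc] at h2
    exact num_one Fintype.one_lt_card hc he h1 h2
  have h1 : xr hD (D.nroots - 1) b ∈ A' := hZA ((mem_ZT hD).2 ⟨b, rfl⟩)
  rw [hA', mem_conj, ← hws, ← hg s (hO.lt s hs) b] at h1
  have e1 : g⁻¹ * (g * xr hD s b * g⁻¹) * g = xr hD s b := by group
  rwa [e1] at h1

include hO hE in
/-- **Paths.** -/
theorem path {c e : ℕ} {L : List ℕ} (hL : O.map d = L) (hk : ∀ x ∈ L, x ≤ e) (hcar : carry L e ≤ c)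
    (hc : c < 16) (he : e + 1 + 4 ≤ 5 * m) {A : Subgroup ↥(D.group F)} (hA : IFK.Fix A) :
    ∀ (l : List ℕ) (r : ℕ) (_ : r ∈ O) (_ : okPath D O r l = true) (_ : ∃ a : F, a ≠ 0 ∧ xr hD r a ∈ A)
      (hl : l ≠ []), ∀ b : F, xr hD (l.getLast hl) b ∈ A := by
  intro l
  induction l with
  | nil => intro r _ _ _ hl; exact absurd rfl hl
  | cons s l ih =>
    intro r hr hok ⟨a, ha, hra⟩ hl b
    unfold okPath at hok
    rw [Bool.and_eq_true, Bool.and_eq_true, List.contains_iff_mem, decide_eq_true_eq] at hok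
    have h1 := fun b => step hD hO hE hL hk hcar hc he hA hr hok.1.1 hok.1.2 ha hra b
    rcases eq_or_ne l [] with rfl | hl'
    · exact h1 b
    · rw [List.getLast_cons hl']
      exact ih s hok.1.1 hok.2 ⟨1, one_ne_zero, h1 1⟩ hl' b

/-- paths to all roots of `O` -/
def okAll (D : ChevalleyDatum) (O : List ℕ) (pp : ℕ → List ℕ) : Bool :=
  O.all fun s => okPath D O (D.nroots - 1) (pp s) && decide (pp s ≠ []) && decide ((pp s).getLastD 0 = s)

theorem getLast_eq {l : List ℕ} (hl : l ≠ []) {r : ℕ} (h : l.getLastD 0 = r) : l.getLast hl = r := by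
  rw [← h, List.getLastD_eq_getLast?, List.getLast?_eq_some_getLast hl]
  rfl

include hO hE in
/-- one root involution gives all root groups of `O` -/
theorem all_of_top {pp : ℕ → List ℕ} (hpp : okAll D O pp = true) {c e : ℕ} {L : List ℕ} (hL : O.map d = L)
    (hk : ∀ x ∈ L, x ≤ e) (hcar : carry L e ≤ c) (hc : c < 16) (he : e + 1 + 4 ≤ 5 * m)
    {A : Subgroup ↥(D.group F)} (hA : IFK.Fix A) {a : F} (ha : a ≠ 0) (h : xr hD (D.nroots - 1) a ∈ A) :
    ∀ s ∈ O, ∀ b : F, xr hD s b ∈ A := by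
  intro s hs b
  unfold okAll at hpp
  rw [List.all_eq_true] at hpp
  have h1 := hpp s hs
  rw [Bool.and_eq_true, Bool.and_eq_true, decide_eq_true_eq, decide_eq_true_eq] at h1
  rw [← getLast_eq h1.1.2 h1.2]
  exact path hD hO hE hL hk hcar hc he hA _ _ hO.top h1.1.1 ⟨a, ha, h⟩ h1.1.2 b

/-! ### Orders of subgroups containing root groups -/

omit [CharP F 2] in
/-- a subgroup containing the root groups of a set `S` of positive roots has order at least `q^|S|` -/
theorem card_ge {K : Subgroup ↥(D.group F)} (S : Finset ℕ) (hS : ∀ r ∈ S, D.nroots / 2 ≤ r ∧ r < D.nroots)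
    (hK : ∀ r ∈ S, ∀ a : F, xr hD r a ∈ K) : Fintype.card F ^ S.card ≤ Nat.card K := by
  classical
  have hfin : Finite (GL D.Idx F) := inferInstance
  have hfinG : Finite ↥(D.group F) := inferInstance
  let ext : (S → F) → ℕ → F := fun w r => if h : r ∈ S then w ⟨r, h⟩ else 0
  have h1 : ∀ (w : S → F) (l : List ℕ), ∃ k ∈ K, (k : GL D.Idx F) = wordG hD (l.map fun r => (r, ext w r)) := by
    intro w l
    induction l with
    | nil => exact ⟨1, one_mem _, by rw [List.map_nil, wordG_nil]; rfl⟩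
    | cons r l ih =>
      obtain ⟨k, hk, e⟩ := ih
      by_cases h : r ∈ S
      · refine ⟨xr hD r (ext w r) * k, mul_mem (hK r h _) hk, ?_⟩
        rw [List.map_cons, wordG_cons, ← e]
        rfl
      · refine ⟨k, hk, ?_⟩
        rw [List.map_cons, wordG_cons, ← e]
        show (k : GL D.Idx F) = xG hD r (ext w r) * k
        rw [show ext w r = 0 from dif_neg h, xG_zero, one_mul]
  choose φ hφ hφ' using fun w : S → F => h1 w (UnipProd.rootsGE D (D.nroots / 2))
  have h2 : Function.Injective fun w : S → F => (⟨φ w, hφ w⟩ : K) := by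
    intro w w' h
    have h3 : (φ w : GL D.Idx F) = φ w' := congrArg (fun x : K => ((x : ↥(D.group F)) : GL D.Idx F)) h
    rw [hφ', hφ'] at h3
    have h4 := UnipProd.prod_injective hD le_rfl h3
    funext r
    have h5 := h4 r.1 (hS r.1 r.2).1 (hS r.1 r.2).2
    rw [show ext w r.1 = w r from dif_pos r.2, show ext w' r.1 = w' r from dif_pos r.2] at h5
    exact h5
  have h3 := Nat.card_le_card_of_injective _ h2
  rw [Nat.card_fun, Nat.card_eq_fintype_card, Nat.card_eq_fintype_card, Fintype.card_coe] at h3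
  exact h3

/-- the group `Q` of all roots of positive level, in the Chevalley group -/
abbrev QT (D : ChevalleyDatum) (F : Type u) [Field F] : Subgroup ↥(D.group F) :=
  (H86.Graded.Q D F (D.nroots - 1)).subgroupOf (D.group F)

omit [Fintype F] [CharP F 2] in
theorem mem_QT {r : ℕ} (hr : r < D.nroots) (h : 1 ≤ car D (D.nroots - 1) r) (a : F) : xr hD r a ∈ QT D F :=
  H86.Graded.xG_mem_Q hD hr h a

include hD in
omit [CharP F 2] in
theorem card_QT_ge {j : ℕ} (hj : j ≤ ((Finset.range D.nroots).filter fun r => 1 ≤ car D (D.nroots - 1) r).card) :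
    Fintype.card F ^ j ≤ Nat.card (QT D F) := by
  refine (Nat.pow_le_pow_right Fintype.card_pos hj).trans (card_ge hD _ (fun r hr => ?_) fun r hr a => ?_)
  · rw [Finset.mem_filter, Finset.mem_range] at hr
    exact ⟨((UnipOrd.isPosRoot_iff hD r).1 (H86.Par.pos_of_level hD hr.1 hr.2)).1, hr.1⟩
  · rw [Finset.mem_filter, Finset.mem_range] at hr
    exact mem_QT hD hr.1 hr.2 a

omit [Fintype F] [CharP F 2] in
/-- an element of `Q` centralising `x_{-θ}(1)` is trivial -/
theorem eq_one_of_comm {c : ↥(D.group F)} (hc : c ∈ QT D F)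
    (h : c * xr hD (D.neg (D.nroots - 1)) 1 = xr hD (D.neg (D.nroots - 1)) 1 * c) : c = 1 := by
  apply Subtype.ext
  exact H86.Graded.eq_one_of_conj hD (H86.Par.good hD) (H86.Par.hiT hD) hc (t₁ := 1) (t₂ := 1) one_ne_zero
    (congrArg Subtype.val h)

omit [Fintype F] [CharP F 2] in
theorem QT_comm_top {c : ↥(D.group F)} (hc : c ∈ QT D F) (t : F) :
    c * xr hD (D.nroots - 1) t = xr hD (D.nroots - 1) t * c := by
  have hle : H86.Graded.Q D F (D.nroots - 1) ≤
      Subgroup.centralizer ({xG hD (D.nroots - 1) t} : Set (GL D.Idx F)) := by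
    rw [H86.Graded.Q_le_iff hD]
    intro r hr hl u
    rw [Subgroup.mem_centralizer_singleton_iff]
    have hl0 : 0 ≤ car D (H86.Par.top D) r := le_trans zero_le_one hl
    exact H86.Par.comm_top0 hD hr hl0 u t
  exact Subtype.ext (Subgroup.mem_centralizer_singleton_iff.1 (hle hc))

include hO in
/-- **(S1, iii)** -/
theorem small (hcz : ∀ a b : F, a ≠ 0 → b ≠ 0 → IsConj (xr hD (D.nroots - 1) a) (xr hD (D.nroots - 1) b))
    (hneg : D.neg (D.nroots - 1) ∈ O) {c e j : ℕ} {L : List ℕ} (hL : O.map d = L)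
    (hk : ∀ x ∈ L, x ≤ e) (hcar : carry L e ≤ c) (hc : c < 8) (hej : e ≤ j)
    (hj : j ≤ ((Finset.range D.nroots).filter fun r => 1 ≤ car D (D.nroots - 1) r).card)
    {A : Subgroup ↥(D.group F)} (hA : IFK.Fix A)
    (h : ∀ s ∈ O, ∀ b : F, xr hD s b ∈ A) :
    ∃ f : ℕ, f < Fintype.card F ∧ ∀ B : Subgroup ↥(D.group F),
      B ≤ centralizer ({xr hD (D.nroots - 1) 1} : Set ↥(D.group F)) → A.relIndex B ≤ f := by
  have hfin : Finite (GL D.Idx F) := inferInstance
  have hfinG : Finite ↥(D.group F) := inferInstance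
  have hlt := hO.lt _ hO.top
  set t := xr hD (D.nroots - 1) (1 : F) with ht
  set x := xr hD (D.neg (D.nroots - 1)) (1 : F) with hx
  have ht1 : t ≠ 1 := fun h => one_ne_zero (H934.HeisChev.xe_eq_one hD hlt h)
  have ho : orderOf t = 2 :=
    orderOf_eq_prime (by rw [pow_two]; exact Subtype.ext (H83.ChevInv.xG_sq hD _ _)) ht1
  obtain ⟨f, h1, h2⟩ := s13 (Q := QT D F) hA (h _ hO.top 1) ho (h _ hneg 1)
    (conj_top hD hO hcz hneg one_ne_zero one_ne_zero).symm
    (fun c hc => Subgroup.mem_centralizer_singleton_iff.2 (QT_comm_top hD hc 1))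
    (fun c hc hcx => eq_one_of_comm hD hc hcx)
  refine ⟨f, ?_, h1⟩
  have h3 := index_top_le hD hO hL hk hcar (F := F) (t := t) ((mem_ZT hD).2 ⟨1, rfl⟩)
  have h4 := card_QT_ge hD (F := F) hj
  set q := Fintype.card F with hq
  have hq2 : 2 ≤ q := Fintype.one_lt_card
  by_contra hcon
  push Not at hcon
  have h5 : q ^ 4 * q ^ e < 8 * q * q ^ e := by
    calc q ^ 4 * q ^ e ≤ f ^ 4 * q ^ j :=
          Nat.mul_le_mul (Nat.pow_le_pow_left hcon 4) (Nat.pow_le_pow_right (by omega) hej)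
      _ ≤ f ^ 4 * Nat.card (QT D F) := Nat.mul_le_mul_left _ h4
      _ < c * q ^ e * q := lt_of_lt_of_le h2 h3
      _ ≤ 8 * q ^ e * q := by gcongr
      _ = 8 * q * q ^ e := by ring
  have h6 : q ^ 4 < 8 * q := lt_of_mul_lt_mul_right h5 (Nat.zero_le _)
  have h7 : 8 * q ≤ q ^ 4 := by
    calc 8 * q = 2 ^ 3 * q := by norm_num
      _ ≤ q ^ 3 * q := Nat.mul_le_mul_right _ (Nat.pow_le_pow_left hq2 3)
      _ = q ^ 4 := by ring
  omega

end Cfsg.Agent.H255.IFG
end

-- part: H255/IF/Cell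
section
set_option linter.all false
open scoped Cfsg.Agent.FastGrp

-- part: H255/IF/EType
section
/-!
# S5719, `E₆, E₇, E₈`, `q` even (helper255)

`main`: `A` with `Fix A` and an involution is the whole group, from tables: `T` the special group of the highest root
(all roots of level 1), paths from the highest root to the fundamental roots and their negatives, and for every
representative of the classes of involutions a word mapping it to `Q` (`inQ`) or to `x_r Q`, `r` of level 0 (`offQ`).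
-/

set_option autoImplicit false
set_option linter.unusedSectionVars false

namespace Cfsg.Agent.H255.IFE

open scoped Pointwise
open Cfsg Cfsg.Lie Cfsg.Agent.ChevalleyStructure Cfsg.Agent.ChevalleyStructure.Elts
  Cfsg.Agent.ChevalleyStructure.RootWord Cfsg.Agent.ChevalleyStructure.RootCombGood
  Cfsg.Agent.H934.HeisRoot Cfsg.Agent.H934.HeisData Cfsg.Agent.H934.HeisChev
  Cfsg.Agent.H430.CfChev Cfsg.Agent.H70.ChevFix Cfsg.Agent.H255.IFK Cfsg.Agent.H255.IFR Subgroup

universe u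

variable {D : ChevalleyDatum} (hD : InList D) {F : Type u} [Field F] [Fintype F] [CharP F 2]
  {O : List ℕ} {d : ℕ → ℕ} (hO : DistOk D O d) {n k : ℕ} (T : HTab n k) (ok : T.Ok D)
  (hth : T.th = D.nroots - 1)

local notation "xr" => H934.HeisChev.xe

/-- `Q` -/
noncomputable abbrev QQ : Subgroup ↥(D.group F) := (T.rh hD ok F).toData.Qg

/-- `Z` -/
noncomputable abbrev ZZ : Subgroup ↥(D.group F) := (T.rh hD ok F).toData.Zg

theorem x_mem_Q {r : ℕ} (h : (∃ i, T.S i = r) ∨ r = T.th) (a : F) : xr hD r a ∈ QQ hD T ok (F := F) := by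
  rcases h with ⟨i, rfl⟩ | rfl
  · exact xS_mem hD T ok i a
  · exact (T.rh hD ok F).toData.z_mem_Qg a

include hth in
/-- `Q` is the group of H86. -/
theorem mem_Q_iff (hS : ∀ i, 1 ≤ car D (D.nroots - 1) (T.S i))
    (hall : ∀ s < D.nroots, 1 ≤ car D (D.nroots - 1) s → (∃ i, T.S i = s) ∨ s = T.th) {g : ↥(D.group F)} :
    g ∈ QQ hD T ok (F := F) ↔ (g : GL D.Idx F) ∈ H86.Graded.Q D F (D.nroots - 1) := by
  have G := RootComb.good_of_mem hD
  constructor
  · rintro ⟨v, a, rfl⟩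
    have h1 : ∀ (i : Fin n) (t : F), ((xr hD (T.S i) t : ↥(D.group F)) : GL D.Idx F) ∈ H86.Graded.Q D F (D.nroots - 1) := fun i t =>
      H86.Graded.xG_mem_Q hD (ok.S_lt i) (hS i) t
    have h2 : ((xr hD T.th a : ↥(D.group F)) : GL D.Idx F) ∈ H86.Graded.Q D F (D.nroots - 1) := by
      refine H86.Graded.xG_mem_Q hD ok.th_lt ?_ a
      rw [hth, G.car_self (H86.Par.top_lt hD)]
      norm_num
    refine mul_mem (a := (((T.rh hD ok F).toData.X v : ↥(D.group F)) : GL D.Idx F)) ?_ h2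
    have key : ∀ l : List (Fin n), (((T.rh hD ok F).P l v : ↥(D.group F)) : GL D.Idx F) ∈
        H86.Graded.Q D F (D.nroots - 1) := by
      intro l
      induction l with
      | nil => exact one_mem _
      | cons i l ih =>
        rw [(T.rh hD ok F).P_cons]
        exact mul_mem (h1 i (v i)) ih
    exact key _
  · intro hg
    have h1 : H86.Graded.Q D F (D.nroots - 1) ≤ (QQ hD T ok (F := F)).map (D.group F).subtype := by
      rw [H86.Graded.Q_le_iff hD]
      intro r hr hl t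
      exact ⟨xr hD r t, x_mem_Q hD T ok (hall r hr hl) t, rfl⟩
    obtain ⟨g', hg', e⟩ := h1 hg
    have : g' = g := Subtype.ext e
    rwa [← this]

include hth in
/-- `N(Z)` normalises `Q`. -/
theorem norm_Q (hS : ∀ i, 1 ≤ car D (D.nroots - 1) (T.S i))
    (hall : ∀ s < D.nroots, 1 ≤ car D (D.nroots - 1) s → (∃ i, T.S i = s) ∨ s = T.th) {g : ↥(D.group F)}
    (hg : g ∈ Subgroup.normalizer (XX D F (D.nroots - 1) : Set ↥(D.group F))) {x : ↥(D.group F)}
    (hx : x ∈ QQ hD T ok (F := F)) : g * x * g⁻¹ ∈ QQ hD T ok (F := F) := by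
  rw [mem_Q_iff hD T ok hth hS hall] at hx ⊢
  refine H86.Par.P_conj_Q hD ?_ _ hx
  refine H86.Par.mem_P_iff hD g.2 (fun t => ?_) (fun t => ?_)
  · obtain ⟨t', ht'⟩ := (mem_XX hD).1 ((Subgroup.mem_normalizer_iff.1 hg _).1 (xe_mem_XX hD (D.nroots - 1) t))
    exact ⟨t', congrArg Subtype.val ht'⟩
  · have hg' := inv_mem hg
    obtain ⟨t', ht'⟩ := (mem_XX hD).1 ((Subgroup.mem_normalizer_iff.1 hg' _).1 (xe_mem_XX hD (D.nroots - 1) t))
    rw [inv_inv] at ht'
    exact ⟨t', congrArg Subtype.val ht'⟩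

include hD hO hth in
/-- classes meeting `Q` -/
theorem index_Q_le (hS : ∀ i, 1 ≤ car D (D.nroots - 1) (T.S i))
    (hall : ∀ s < D.nroots, 1 ≤ car D (D.nroots - 1) s → (∃ i, T.S i = s) ∨ s = T.th)
    {c e : ℕ} {L : List ℕ} (hL : O.map d = L) (hk : ∀ x ∈ L, x ≤ e) (hcar : carry L e ≤ c)
    {t : ↥(D.group F)} (ht : t ∈ QQ hD T ok (F := F)) :
    (centralizer ({t} : Set ↥(D.group F))).index ≤ c * Fintype.card F ^ e * Fintype.card F ^ (n + 1) := by
  have hfin : Finite (GL D.Idx F) := inferInstance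
  have hfinG : Finite ↥(D.group F) := inferInstance
  have h1 := index_normalizer_le (F := F) hD hO
  have h2 : (O.map fun r => Nat.card F ^ d r) = L.map fun x => Nat.card F ^ x := by
    rw [← hL, List.map_map]; rfl
  rw [h2] at h1
  have h3 := h1.trans ((sum_le Finite.one_lt_card L e hk).trans (Nat.mul_le_mul_right _ hcar))
  rw [Nat.card_eq_fintype_card] at h3
  have h4 := index_centralizer_le (N := Subgroup.normalizer (XX D F (D.nroots - 1) : Set ↥(D.group F)))
    (Q := QQ hD T ok (F := F)) (fun m hm x hx => norm_Q hD T ok hth hS hall hm hx) ht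
  refine h4.trans (Nat.mul_le_mul h3 (le_of_eq ?_))
  rw [(T.rh hD ok F).toData.card_Qg, Nat.card_fun, Nat.card_eq_fintype_card, Nat.card_eq_fintype_card,
    Fintype.card_fin, pow_succ]

/-- the fundamental paths -/
def okPaths (D : ChevalleyDatum) (O : List ℕ) (pp : List (List ℕ × List ℕ)) : Bool :=
  decide (pp.length = D.rank) && (List.range D.rank).all fun i =>
    let p := pp.getD i ([], [])
    okPath D O (D.nroots - 1) p.1 && okPath D O (D.nroots - 1) p.2 && decide (p.1 ≠ []) && decide (p.2 ≠ []) &&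
      decide (p.1.getLastD 0 = D.simple i) && decide (p.2.getLastD 0 = D.neg (D.simple i))

theorem getLast_eq {l : List ℕ} (hl : l ≠ []) {r : ℕ} (h : l.getLastD 0 = r) : l.getLast hl = r := by
  rw [← h, List.getLastD_eq_getLast?, List.getLast?_eq_some_getLast hl]
  rfl

variable (hlev : ∀ r ∈ O, car D (D.nroots - 1) r = 1 → ∃ i, T.S i = r)

include hO hth hlev in
/-- **(S1)** -/
theorem eq_top_of_top {pp : List (List ℕ × List ℕ)} (hpp : okPaths D O pp = true) {c e m : ℕ} {L : List ℕ}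
    (hL : O.map d = L) (hk : ∀ x ∈ L, x ≤ e) (hcar : carry L e ≤ c)
    (hc : c < 16) (hm : n = 2 * m) (he : e + 1 + 4 ≤ 5 * m) (ok : T.Ok D) {A : Subgroup ↥(D.group F)}
    (hA : IFK.Fix A) {a : F} (ha : a ≠ 0) (h : xr hD (D.nroots - 1) a ∈ A) : A = ⊤ := by
  refine IFR.eq_top hD fun i hi t => ?_
  unfold okPaths at hpp
  rw [Bool.and_eq_true, List.all_eq_true] at hpp
  have h1 := hpp.2 i (List.mem_range.2 hi)
  simp only [Bool.and_eq_true, decide_eq_true_eq] at h1
  obtain ⟨⟨⟨⟨⟨h2, h3⟩, h4⟩, h5⟩, h6⟩, h7⟩ := h1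
  constructor
  · rw [← getLast_eq h4 h6]
    exact path hD hO T ok hth hlev hL hk hcar hc hm he hA _ _ hO.top h2 ⟨a, ha, h⟩ h4 t
  · rw [← getLast_eq h5 h7]
    exact path hD hO T ok hth hlev hL hk hcar hc hm he hA _ _ hO.top h3 ⟨a, ha, h⟩ h5 t

/-- `A` meets no conjugate of `Z`. -/
def NoZ (A : Subgroup ↥(D.group F)) : Prop := ∀ g : ↥(D.group F), (MulAut.conj g • A) ⊓ ZZ hD T ok (F := F) = ⊥

/-- `A` meets no conjugate of `Q`. -/
def NoQ (A : Subgroup ↥(D.group F)) : Prop := ∀ g : ↥(D.group F), (MulAut.conj g • A) ⊓ QQ hD T ok (F := F) = ⊥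

theorem num_two {q m c e : ℕ} (hq : 2 ≤ q) (hc : c < 4) (he : e + (2 * m + 1) + 2 ≤ 5 * m) {I : ℕ}
    (h1 : (q * q ^ m) ^ 5 < (q * 1) ^ 5 * I) (h2 : I ≤ c * q ^ e * q ^ (2 * m + 1)) : False := by
  have h3 : (q * q ^ m) ^ 5 = q ^ 5 * q ^ (5 * m) := by
    rw [mul_pow, ← pow_mul, mul_comm m 5]
  have h4 : q ^ 5 * q ^ (5 * m) < q ^ 5 * I := by
    rw [← h3]; simpa using h1
  have h5 : q ^ (5 * m) < I := lt_of_mul_lt_mul_left h4 (Nat.zero_le _)
  have h6 : 4 * (q ^ e * q ^ (2 * m + 1)) ≤ q ^ (5 * m) := by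
    calc 4 * (q ^ e * q ^ (2 * m + 1)) ≤ q ^ 2 * (q ^ e * q ^ (2 * m + 1)) := by
          refine Nat.mul_le_mul_right _ ?_
          calc 4 = 2 ^ 2 := by norm_num
            _ ≤ q ^ 2 := Nat.pow_le_pow_left hq 2
      _ = q ^ (e + (2 * m + 1) + 2) := by ring
      _ ≤ _ := Nat.pow_le_pow_right (by omega) he
  have h7 : c * q ^ e * q ^ (2 * m + 1) < q ^ (5 * m) := by
    have h8 : 0 < q ^ e * q ^ (2 * m + 1) := Nat.mul_pos (pow_pos (by omega) _) (pow_pos (by omega) _)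
    calc c * q ^ e * q ^ (2 * m + 1) = c * (q ^ e * q ^ (2 * m + 1)) := by ring
      _ < 4 * (q ^ e * q ^ (2 * m + 1)) := Nat.mul_lt_mul_of_pos_right hc h8
      _ ≤ _ := h6
  omega

include hO hth hlev in
theorem noZ {pp : List (List ℕ × List ℕ)} (hpp : okPaths D O pp = true) {c e m : ℕ} {L : List ℕ}
    (hL : O.map d = L) (hk : ∀ x ∈ L, x ≤ e) (hcar : carry L e ≤ c)
    (hc : c < 16) (hm : n = 2 * m) (he : e + 1 + 4 ≤ 5 * m) {A : Subgroup ↥(D.group F)}
    (hA : IFK.Fix A) (hne : A ≠ ⊤) : NoZ hD T ok A := by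
  have hfin : Finite (GL D.Idx F) := inferInstance
  have hfinG : Finite ↥(D.group F) := inferInstance
  intro g
  rw [Subgroup.eq_bot_iff_forall]
  rintro z ⟨hzA, a, rfl⟩
  by_contra hz1
  have ha : a ≠ 0 := by
    rintro rfl
    exact hz1 (T.rh hD ok F).toData.z_zero
  have h1 : xr hD (D.nroots - 1) a ∈ MulAut.conj g • A := by
    rw [← hth]
    exact hzA
  have h2 := eq_top_of_top hD hO T hth hlev hpp hL hk hcar hc hm he ok (hA.conj g) ha h1
  apply hne
  rw [Subgroup.eq_top_iff']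
  intro x
  have h3 : g * x * g⁻¹ ∈ MulAut.conj g • A := by rw [h2]; exact mem_top _
  rw [mem_conj] at h3
  have e1 : g⁻¹ * (g * x * g⁻¹) * g = x := by group
  rwa [e1] at h3

include hO hth in
/-- **(S2)** -/
theorem noQ (hS : ∀ i, 1 ≤ car D (D.nroots - 1) (T.S i))
    (hall : ∀ s < D.nroots, 1 ≤ car D (D.nroots - 1) s → (∃ i, T.S i = s) ∨ s = T.th)
    {c e m : ℕ} {L : List ℕ} (hL : O.map d = L) (hk : ∀ x ∈ L, x ≤ e) (hcar : carry L e ≤ c)
    (hc : c < 4) (hm : n = 2 * m) (he : e + (2 * m + 1) + 2 ≤ 5 * m) {A : Subgroup ↥(D.group F)}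
    (hA : IFK.Fix A) (hZ : NoZ hD T ok A) : NoQ hD T ok A := by
  have hfin : Finite (GL D.Idx F) := inferInstance
  have hfinG : Finite ↥(D.group F) := inferInstance
  intro g
  set A' := MulAut.conj g • A with hA'
  have hFix : IFK.Fix A' := hA.conj g
  have hZ' := hZ g
  rw [← hA'] at hZ'
  set DD := (T.rh hD ok F).toData with hDD
  have hq : Nat.card DD.Zg = Fintype.card F := by rw [DD.card_Zg, Nat.card_eq_fintype_card]
  have hQ : Nat.card DD.Qg = Fintype.card F * (Fintype.card F ^ m) ^ 2 := by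
    rw [DD.card_Qg, Nat.card_fun, Nat.card_eq_fintype_card, Nat.card_eq_fintype_card, Fintype.card_fin, hm]
    ring
  have hZA : ¬ DD.Zg ≤ A' := by
    intro h
    have h1 : DD.z 1 ∈ (A' ⊓ DD.Zg : Subgroup ↥(D.group F)) := ⟨h ⟨1, rfl⟩, ⟨1, rfl⟩⟩
    rw [hZ', Subgroup.mem_bot] at h1
    exact one_ne_zero (DD.z_inj _ h1)
  -- an element of order 2
  by_contra hne
  have hex : ∃ t ∈ (A' ⊓ DD.Qg : Subgroup ↥(D.group F)), orderOf t = 2 := by
    have h1 : 1 < Nat.card (A' ⊓ DD.Qg : Subgroup ↥(D.group F)) := by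
      have := Nat.card_pos (α := (A' ⊓ DD.Qg : Subgroup ↥(D.group F)))
      rcases Nat.lt_or_ge 1 (Nat.card (A' ⊓ DD.Qg : Subgroup ↥(D.group F))) with h | h
      · exact h
      · have h5 : Nat.card (A' ⊓ DD.Qg : Subgroup ↥(D.group F)) = 1 := by omega
        exact absurd ((Subgroup.card_eq_one).1 h5) hne
    have h2 : Nat.card (A' ⊓ DD.Qg : Subgroup ↥(D.group F)) ∣ Nat.card DD.Qg := Subgroup.card_dvd_of_le inf_le_right
    obtain ⟨f, -, hf⟩ := FiniteField.card F 2
    rw [hQ, hf] at h2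
    have h3 : Nat.card (A' ⊓ DD.Qg : Subgroup ↥(D.group F)) ∣ 2 ^ ((f : ℕ) + (f : ℕ) * m * 2) := by
      rw [pow_add, pow_mul, pow_mul]
      exact h2
    obtain ⟨j, -, hj⟩ := (Nat.dvd_prime_pow Nat.prime_two).1 h3
    have h4 : 2 ∣ Nat.card (A' ⊓ DD.Qg : Subgroup ↥(D.group F)) := by
      rw [hj] at h1 ⊢
      rcases j with _ | j
      · omega
      · exact dvd_pow_self 2 (Nat.succ_ne_zero j)
    have : Fact (Nat.Prime 2) := ⟨Nat.prime_two⟩
    obtain ⟨t, ht⟩ := exists_prime_orderOf_dvd_card' 2 h4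
    exact ⟨t, t.2, by rw [Subgroup.orderOf_coe, ht]⟩
  obtain ⟨t, ⟨htA, htQ⟩, ho⟩ := hex
  have h1 := s2 hFix (sp_of_data DD) (n := Fintype.card F ^ m) (w := 1) hq hq hQ
    (by rw [hZ', Subgroup.card_bot]) hZA htA htQ ho
  have h2 := index_Q_le hD hO T ok hth hS hall hL hk hcar htQ
  rw [hm] at h2
  exact num_two Fintype.one_lt_card hc he h1 h2

/-! ### (S3) -/

/-- `x_{S i}` commutes with `x_r` -/
def gd (D : ChevalleyDatum) (T : HTab n k) (r : ℕ) (i : Fin n) : Bool :=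
  decide (r ≠ T.S i) && decide (r ≠ D.neg (T.S i)) && (D.commTerms (T.S i) r).isEmpty

theorem gd_comm {r : ℕ} (hr : r < D.nroots) {i : Fin n} (h : gd D T r i = true) (ok : T.Ok D) (a b : F) :
    xr hD r a * xr hD (T.S i) b = xr hD (T.S i) b * xr hD r a := by
  unfold gd at h
  rw [Bool.and_eq_true, Bool.and_eq_true, decide_eq_true_eq, decide_eq_true_eq, List.isEmpty_iff] at h
  exact comm_nil hD (ok.S_lt i) hr h.1.1 h.1.2 h.2 b a

include hth in
theorem card_cent {r j : ℕ} (hr : r < D.nroots) (h0 : 0 ≤ car D (D.nroots - 1) r)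
    (hj : j ≤ Fintype.card {i : Fin n // gd D T r i = true}) :
    Fintype.card F ^ (j + 1) ≤
      Nat.card (QQ hD T ok (F := F) ⊓ centralizer ({xr hD r 1} : Set ↥(D.group F)) : Subgroup ↥(D.group F)) := by
  classical
  have hfin : Finite (GL D.Idx F) := inferInstance
  have hfinG : Finite ↥(D.group F) := inferInstance
  set R := T.rh hD ok F with hR
  set DD := R.toData with hDD
  let ext : ({i : Fin n // gd D T r i = true} → F) → (Fin n → F) := fun w i =>
    if h : gd D T r i = true then w ⟨i, h⟩ else 0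
  have hext : ∀ w i, gd D T r i ≠ true → ext w i = 0 := fun w i h => dif_neg h
  have hcm : ∀ w, xr hD r 1 * DD.X (ext w) = DD.X (ext w) * xr hD r 1 := by
    intro w
    show xr hD r 1 * R.P _ (ext w) = R.P _ (ext w) * xr hD r 1
    generalize (Finset.univ : Finset (Fin n)).toList = l
    induction l with
    | nil => rw [R.P_nil, mul_one, one_mul]
    | cons i l ih =>
      rw [R.P_cons, ← mul_assoc]
      have h1 : xr hD r 1 * R.x i (ext w i) = R.x i (ext w i) * xr hD r 1 := by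
        by_cases h : gd D T r i = true
        · exact gd_comm hD T hr h ok 1 (ext w i)
        · rw [hext w i h, R.x_zero, mul_one, one_mul]
      rw [h1, mul_assoc, ih, mul_assoc]
  have hcz : ∀ a, xr hD r 1 * DD.z a = DD.z a * xr hD r 1 := by
    intro a
    show xr hD r 1 * xr hD T.th a = xr hD T.th a * xr hD r 1
    rw [hth]
    exact Subtype.ext (H86.Par.comm_top0 hD hr h0 1 a)
  have h1 : Nat.card (({i : Fin n // gd D T r i = true} → F) × F) ≤
      Nat.card (QQ hD T ok (F := F) ⊓ centralizer ({xr hD r 1} : Set ↥(D.group F)) : Subgroup ↥(D.group F)) := by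
    refine Nat.card_le_card_of_injective (fun p => ⟨DD.X (ext p.1) * DD.z p.2, ⟨p.1 |> ext, p.2, rfl⟩, ?_⟩) ?_
    · show DD.X (ext p.1) * DD.z p.2 ∈ centralizer ({xr hD r 1} : Set ↥(D.group F))
      rw [Subgroup.mem_centralizer_singleton_iff, mul_assoc, ← hcz, ← mul_assoc, ← hcm, mul_assoc]
    · intro p p' h
      obtain ⟨h2, h3⟩ := DD.eq_of_mul_eq (congrArg Subtype.val h)
      refine Prod.ext ?_ h3
      funext i
      have h4 := congrFun h2 i
      have h5 : ∀ w : ({i : Fin n // gd D T r i = true} → F), ext w i = w i := fun w => dif_pos i.2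
      rw [h5, h5] at h4
      exact h4
  refine le_trans ?_ h1
  rw [Nat.card_prod, Nat.card_fun, Nat.card_eq_fintype_card, Nat.card_eq_fintype_card, pow_succ]
  exact Nat.mul_le_mul_right _ (Nat.pow_le_pow_right Fintype.card_pos hj)

/-- the product of `x_r(1)` over a list -/
def PXe (F : Type u) [Field F] (L : List ℕ) : ↥(D.group F) := (L.map fun r => xr hD r (1 : F)).prod

theorem coe_PXe (L : List ℕ) : ((PXe hD F L : ↥(D.group F)) : GL D.Idx F) = H83.ChevInv.PX hD F L := by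
  induction L with
  | nil => rfl
  | cons r L ih =>
    rw [H83.ChevInv.PX_cons, ← ih, PXe, List.map_cons, List.prod_cons]
    rfl

theorem PXe_cons (r : ℕ) (L : List ℕ) : PXe hD F (r :: L) = xr hD r 1 * PXe hD F L := by
  rw [PXe, List.map_cons, List.prod_cons]; rfl

theorem conj_PXe {g : ↥(D.group F)} {w : List ℕ}
    (hg : ∀ s < D.nroots, ∀ t : F, g * xr hD s t * g⁻¹ = xr hD (wact D w s) t) {L : List ℕ}
    (hL : ∀ r ∈ L, r < D.nroots) : g * PXe hD F L * g⁻¹ = PXe hD F (L.map (wact D w)) := by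
  induction L with
  | nil =>
    show g * 1 * g⁻¹ = 1
    rw [mul_one, mul_inv_cancel]
  | cons r L ih =>
    rw [List.map_cons, PXe_cons, PXe_cons, ← ih fun x hx => hL x (by simp [hx]), ← hg r (hL r (by simp))]
    group

/-- the representative `R` is conjugate into `Q` or into `x_r Q` -/
def RepOK (D : ChevalleyDatum) (T : HTab n k) (j : ℕ) (R : List ℕ) : Prop :=
  ∃ w L', (∀ a ∈ w, a < D.rank) ∧ (∀ r ∈ R, r < D.nroots) ∧ R.map (wact D w) = L' ∧
    ((∀ s ∈ L', s < D.nroots ∧ 1 ≤ car D (D.nroots - 1) s) ∨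
      ∃ r L'', L' = r :: L'' ∧ r < D.nroots ∧ 0 ≤ car D (D.nroots - 1) r ∧
        (∀ s ∈ L'', s < D.nroots ∧ 1 ≤ car D (D.nroots - 1) s) ∧
        j ≤ Fintype.card {i : Fin n // gd D T r i = true})

theorem PXe_mem_Q (hall : ∀ s < D.nroots, 1 ≤ car D (D.nroots - 1) s → (∃ i, T.S i = s) ∨ s = T.th) {L : List ℕ}
    (h : ∀ s ∈ L, s < D.nroots ∧ 1 ≤ car D (D.nroots - 1) s) : PXe hD F L ∈ QQ hD T ok (F := F) := by
  induction L with
  | nil => exact one_mem _
  | cons r L ih =>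
    rw [PXe_cons]
    have h1 := h r (by simp)
    exact mul_mem (x_mem_Q hD T ok (hall r h1.1 h1.2) 1) (ih fun x hx => h x (by simp [hx]))

include hth in
/-- **(S3)** -/
theorem not_rep (hall : ∀ s < D.nroots, 1 ≤ car D (D.nroots - 1) s → (∃ i, T.S i = s) ∨ s = T.th) {j dim : ℕ}
    (hcard : Nat.card ↥(D.group F) ≤ Fintype.card F ^ dim) (hdim : dim ≤ 6 * j) {R : List ℕ} (hR : RepOK D T j R)
    {A : Subgroup ↥(D.group F)} (hA : IFK.Fix A) (hQ : NoQ hD T ok A) {t g : ↥(D.group F)} (ht : t ∈ A)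
    (ho : orderOf t = 2) (hg : g * t * g⁻¹ = PXe hD F R) : False := by
  have hfin : Finite (GL D.Idx F) := inferInstance
  have hfinG : Finite ↥(D.group F) := inferInstance
  obtain ⟨w, L', hw, hRl, hL', hk⟩ := hR
  obtain ⟨y, -, hy⟩ := exists_weyl hD (⊤ : Subgroup ↥(D.group F)) (fun _ _ => mem_top _) hw
  have h1 := conj_PXe hD hy hRl
  rw [hL', ← hg] at h1
  -- `t' = (y g) t (y g)⁻¹`
  have h2 : (y * g) * t * (y * g)⁻¹ = PXe hD F L' := by
    rw [← h1]; group
  set A' := MulAut.conj (y * g) • A with hA'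
  have hFix : IFK.Fix A' := hA.conj _
  have htA : PXe hD F L' ∈ A' := by
    rw [← h2]
    exact conj_mem_conj ht
  have ho' : orderOf (PXe hD F L') = 2 := by
    rw [← h2, ← ho]
    exact orderOf_injective (MulAut.conj (y * g)).toMonoidHom (MulAut.conj (y * g)).injective t
  have hQ' := hQ (y * g)
  rw [← hA'] at hQ'
  rcases hk with hk | ⟨r, L'', rfl, hr, h0, hk, hj⟩
  · have h3 : PXe hD F L' ∈ (A' ⊓ QQ hD T ok (F := F) : Subgroup ↥(D.group F)) :=
      ⟨htA, PXe_mem_Q hD T ok hall hk⟩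
    rw [hQ', Subgroup.mem_bot] at h3
    rw [h3, orderOf_one] at ho'
    exact absurd ho' (by norm_num)
  · have hyQ := PXe_mem_Q hD T ok hall hk (F := F)
    set DD := (T.rh hD ok F).toData with hDD
    set R1 := (DD.Qg ⊓ centralizer ({xr hD r 1} : Set ↥(D.group F)) : Subgroup ↥(D.group F)) with hR1
    have h3 := card_cent hD T ok hth hr h0 hj (F := F)
    have h4 := card_centralizer_ge (sp_of_data DD) (R := R1) inf_le_left hyQ
    have hq : Nat.card DD.Zg = Fintype.card F := by rw [DD.card_Zg, Nat.card_eq_fintype_card]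
    rw [hq] at h4
    have hqpos : 0 < Fintype.card F := Fintype.card_pos
    set B := (R1 ⊓ centralizer ({PXe hD F L''} : Set ↥(D.group F)) : Subgroup ↥(D.group F)) with hB
    have h5 : Fintype.card F ^ j ≤ Nat.card B := by
      have h6 : Fintype.card F ^ j * Fintype.card F ≤ Nat.card B * Fintype.card F := by
        rw [← pow_succ]
        exact h3.trans h4
      exact Nat.le_of_mul_le_mul_right h6 hqpos
    have hBc : B ≤ centralizer ({PXe hD F (r :: L'')} : Set ↥(D.group F)) := by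
      rintro b ⟨⟨-, hb1⟩, hb2⟩
      have e1 := Subgroup.mem_centralizer_singleton_iff.1 hb1
      have e2 := Subgroup.mem_centralizer_singleton_iff.1 hb2
      rw [Subgroup.mem_centralizer_singleton_iff, PXe_cons, ← mul_assoc, e1, mul_assoc, e2, mul_assoc]
    have hAB : (A' ⊓ B : Subgroup ↥(D.group F)) = ⊥ := by
      rw [eq_bot_iff, ← hQ']
      exact le_inf inf_le_left (inf_le_right.trans (inf_le_left.trans inf_le_left))
    have h6 := s3 hFix htA ho' hBc hAB
    have h7 : Fintype.card F ^ dim ≤ Nat.card B ^ 6 := by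
      calc Fintype.card F ^ dim ≤ Fintype.card F ^ (6 * j) := Nat.pow_le_pow_right hqpos hdim
        _ = (Fintype.card F ^ j) ^ 6 := by rw [← pow_mul, mul_comm]
        _ ≤ _ := Nat.pow_le_pow_left h5 6
    omega

include hO hth in
/-- **The main theorem.** -/
theorem main {l : ℕ} {M : CoxeterMatrix (Fin l)} (hp : Cfsg.Agent.Nodes.RGDChev.IsType D l M)
    {certs : List H83.RedGen.Cert} {words reps : List (List ℕ)} {N : ℕ}
    (hreps : H83.RedGen.allchk D certs words reps N = true)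
    (hlev : ∀ r ∈ O, car D (D.nroots - 1) r = 1 → ∃ i, T.S i = r)
    {pp : List (List ℕ × List ℕ)} (hpp : okPaths D O pp = true) {c e m : ℕ} {L : List ℕ}
    (hL : O.map d = L) (hk : ∀ x ∈ L, x ≤ e) (hcar : carry L e ≤ c)
    (hc : c < 4) (hm : n = 2 * m) (he : e + 1 + 4 ≤ 5 * m) (he' : e + (2 * m + 1) + 2 ≤ 5 * m)
    (hS : ∀ i, 1 ≤ car D (D.nroots - 1) (T.S i))
    (hall : ∀ s < D.nroots, 1 ≤ car D (D.nroots - 1) s → (∃ i, T.S i = s) ∨ s = T.th) {j dim : ℕ}
    (hcard : Nat.card ↥(D.group F) ≤ Fintype.card F ^ dim) (hdim : dim ≤ 6 * j)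
    (hrep : ∀ R ∈ reps, R = [] ∨ RepOK D T j R) (ok : T.Ok D) {A : Subgroup ↥(D.group F)}
    (hA : IFK.Fix A) {t : ↥(D.group F)} (ht : t ∈ A) (ho : orderOf t = 2) : A = ⊤ := by
  by_contra hne
  have hZ := noZ hp.inList hO T ok hth hlev hpp hL hk hcar (by omega) hm he hA hne
  have hQ := noQ hp.inList hO T ok hth hS hall hL hk hcar hc hm he' hA hZ
  have htt : (t : GL D.Idx F) * t = 1 := by
    have h3 := pow_orderOf_eq_one t
    rw [ho, pow_two] at h3
    exact congrArg Subtype.val h3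
  obtain ⟨R, hR, g, hg, hgt⟩ := H83.Count.exists_rep hp hreps t.2 htt
  have hgt' : (⟨g, hg⟩ : ↥(D.group F)) * t * (⟨g, hg⟩ : ↥(D.group F))⁻¹ = PXe hp.inList F R := by
    apply Subtype.ext
    rw [coe_PXe]
    exact hgt
  rcases hrep R hR with rfl | hR'
  · have h1 : t = 1 := by
      have h2 : (⟨g, hg⟩ : ↥(D.group F)) * t * (⟨g, hg⟩ : ↥(D.group F))⁻¹ = 1 := hgt'
      have h3 := mul_inv_eq_one.1 h2
      exact mul_eq_left.1 h3
    rw [h1, orderOf_one] at ho
    exact absurd ho (by norm_num)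
  · exact not_rep hp.inList T ok hth hall hcard hdim hR' hA hQ ht ho hgt'

end Cfsg.Agent.H255.IFE
end

-- part: H255/IF/Cell
section
/-!
# S5719: from `Fix` to `KillE` (helper255)
-/

set_option autoImplicit false
set_option linter.unusedSectionVars false

namespace Cfsg.Agent.H255.IFC

open Cfsg Cfsg.Lie Cfsg.Agent.ChevalleyStructure Cfsg.Agent.ChevalleyStructure.Elts
  Cfsg.Agent.H934.HeisChev Cfsg.Agent.H209.Fxy

theorem charP_of_even (F : Type*) [Field F] [Fintype F] (h : Even (Fintype.card F)) : CharP F 2 := by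
  obtain ⟨p, hp⟩ := CharP.exists F
  obtain ⟨f, hpr, hf⟩ := FiniteField.card F p
  have h1 : 2 ∣ p := Nat.prime_two.dvd_of_dvd_pow (by rw [← hf]; exact h.two_dvd)
  have h2 : p = 2 := ((Nat.prime_dvd_prime_iff_eq Nat.prime_two hpr).1 h1).symm
  rwa [h2] at hp

theorem exists_ne_comm {D : ChevalleyDatum} (hD : InList D) {F : Type*} [Field F] {n k : ℕ} (T : HTab n k)
    (ok : T.Ok D) (hn : 0 < n) : ∃ a b : ↥(D.group F), a * b ≠ b * a := by
  set DD := (T.rh hD ok F).toData with hDD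
  have hv : (Pi.single (⟨0, hn⟩ : Fin n) (1 : F) : Fin n → F) ≠ 0 := by
    intro h
    have := congrFun h ⟨0, hn⟩
    rw [Pi.single_eq_same] at this
    exact one_ne_zero this
  obtain ⟨w, hw⟩ := DD.special _ hv 1
  refine ⟨DD.X (Pi.single (⟨0, hn⟩ : Fin n) (1 : F)), DD.X w, fun h => ?_⟩
  have h1 := DD.comm (Pi.single (⟨0, hn⟩ : Fin n) (1 : F)) w
  rw [h, hw] at h1
  have h2 : DD.z 1 = 1 := mul_eq_left.1 h1.symm
  exact one_ne_zero (DD.z_inj _ h2)

theorem killE_of {T : Type*} [Group T] [Finite T] [IsSimpleGroup T] (hna : ∃ a b : T, a * b ≠ b * a)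
    (h : ∀ A : Subgroup T, IFK.Fix A → ∀ t ∈ A, orderOf t = 2 → A = ⊤) : KillE T := by
  rintro A Γ hA ⟨t, ht, ho⟩
  exact hA.ne_top (h A (IFK.fix_of_IF hA hna) t ht ho)

end Cfsg.Agent.H255.IFC
end

private theorem dce_d66f2f39e132 : _root_.True := by
  try have : _root_.True := by simp only [_root_.Cfsg.Agent.H255.IFE.PXe.eq_1]
  try have : _root_.True := by simp only [_root_.Cfsg.Agent.H255.IFE.PXe.congr_simp]
  exact _root_.True.intro
end

-- part: H351/IF/F4Base
section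
prune_inst 0x7f0000000000000000000000000000000000000000000000000000000000000000000000000000000000000000000000000000000000000000000000000000000000000000000000000000000000000000000000000000000000000000000000000000000000
set_option linter.all false
open scoped Cfsg.Agent.FastGrp

-- part: H351/IF/F4Cls
section
/-!
# S5719, `F₄(q)`, `q` odd (helper351): the classes of involutions

`Cls` : every involution is conjugate to `z = th (sg 5)` or `s = th (sg 1)`; the orders of the centralisers.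
-/

set_option autoImplicit false

namespace Cfsg.Agent.H351.IF

open Cfsg.Lie Cfsg.Agent.ChevalleyStructure Cfsg.Agent.ChevalleyStructure.CoxeterGeomTypes
  Cfsg.Agent.Nodes.RGDChev Cfsg.Agent.KFacts.RgdChevCoord Cfsg.Agent.OddHalf.NI.ModelChev
  Cfsg.Agent.H557.SubTab Cfsg.Agent.H557.SubLink Cfsg.Agent.H557.SignTorus Cfsg.Agent.H557.InvClass
  Cfsg.Agent.H557.ToralTypes Cfsg.Agent.H557.LinkF4 Cfsg.Agent.H557.OrbF4 Cfsg.Agent.H557.InvF4 Cfsg.Agent.H557

universe u

/-- the involutions of the torus -/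
noncomputable def zz (K : Type u) [Field K] (m : ℕ) : ↥(chevF4.group K) := th Nodes.KindF.isType (sg K 4 m)

theorem classes {K : Type u} [Field K] [Fintype K] (ho : Odd (Fintype.card K)) :
    (∀ u : ↥(chevF4.group K), orderOf u = 2 → IsConj u (zz K 1) ∨ IsConj u (zz K 5)) ∧
    (∀ m < 16, m ≠ 0 → orderOf (zz K m) = 2) ∧
    (∀ m, 0 < m → m < 4 → Nat.card (Subgroup.centralizer ({zz K m} : Set ↥(chevF4.group K))) =
        Fintype.card K ^ 16 * ((Fintype.card K ^ 2 - 1) * (Fintype.card K ^ 4 - 1) * (Fintype.card K ^ 6 - 1) *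
          (Fintype.card K ^ 8 - 1))) ∧
    (∀ m, 4 ≤ m → m < 16 → Nat.card (Subgroup.centralizer ({zz K m} : Set ↥(chevF4.group K))) =
        Fintype.card K ^ 10 * ((Fintype.card K ^ 2 - 1) * (Fintype.card K ^ 4 - 1) * (Fintype.card K ^ 6 - 1) *
          (Fintype.card K ^ 2 - 1))) := by
  obtain ⟨p, hpp, hpc, hp2⟩ := exists_char K ho
  have : Fact p.Prime := ⟨hpp⟩
  have h2 : (2 : K) ≠ 0 := by
    intro h
    have h3 : p ∣ 2 := (CharP.cast_eq_zero_iff K p 2).1 (by exact_mod_cast h)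
    have h4 := (Nat.prime_dvd_prime_iff_eq hpp Nat.prime_two).1 h3
    rw [h4] at hp2
    exact absurd hp2 (by decide)
  have hW : Finite (CoxeterMatrix.F₄).Group := Nat.finite_of_card_ne_zero (by rw [cardW]; norm_num)
  have hc1 : Nat.card (chevF4.diagonalSubgroup K) = (Nat.card K - 1) ^ 4 := by
    have := Cfsg.Agent.S1035.result (F := K) rfl (chevF4, 1) (by simp only [_root_.List.mem_cons, _root_.Prod.mk.injEq, _root_.and_true, _root_.List.not_mem_nil, _root_.or_false, _root_.true_or, _root_.or_true])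
    rw [Nat.card_eq_fintype_card (α := K)]
    rwa [one_mul] at this
  have hT : Nat.card ↥(TT chevF4 K) = (Nat.card K - 1) ^ 4 := by
    rw [← hc1]
    exact Nat.card_congr (Subgroup.subgroupOfEquivOfLe
      (Cfsg.Agent.ChevalleyStructure.Elts.diagonal_le_group (Nodes.KindF.isType).inList K)).toEquiv
  have hB' : ∀ m < 4, 0 < m → O_TabB4.testBit m = true := by decide +kernel
  have hC' : ∀ m < 16, 4 ≤ m → O_TabC3A1.testBit m = true := by decide +kernel
  have hB : ∀ m, 0 < m → m < 4 → O_TabB4.testBit m = true := fun m h h' => hB' m h' h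
  have hC : ∀ m, 4 ≤ m → m < 16 → O_TabC3A1.testBit m = true := fun m h h' => hC' m h' h
  refine ⟨fun u hu => ?_, fun m hm hm0 => order_sg h2 inj_F4 hm hm0, fun m h0 h4 => ?_, fun m h0 h4 => ?_⟩
  · have hu1 : u * u = 1 := by rw [← pow_two, ← hu, pow_orderOf_eq_one]
    have hu2 : u ≠ 1 := by
      rintro rfl
      rw [orderOf_one] at hu
      omega
    obtain ⟨g, hg⟩ := toral_F4 ho hu1
    obtain ⟨b, hb⟩ := surj_F4 hg
    have hconj : IsConj u (th Nodes.KindF.isType b) := isConj_iff.2 ⟨g, hb.symm⟩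
    have hb2 : b * b = 1 := by
      apply inj_F4
      rw [map_mul, hb]
      have : g * u * g⁻¹ * (g * u * g⁻¹) = g * (u * u) * g⁻¹ := by group
      rw [this, hu1, mul_one, mul_inv_cancel]
    obtain ⟨m, hm', rfl⟩ := exists_sg hb2
    rcases Nat.eq_zero_or_pos m with h0 | h0
    · exfalso
      apply hu2
      subst h0
      rw [sg_zero, map_one] at hconj
      exact isConj_one_left.1 hconj
    · rcases lt_or_ge m 4 with h4 | h4
      · left
        exact hconj.trans ((D_TabB4.conj hcm p (K := K) (hB m h0 h4)).trans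
          (D_TabB4.conj hcm p (K := K) (hB 1 (by norm_num) (by norm_num))).symm)
      · right
        exact hconj.trans ((D_TabC3A1.conj hcm p (K := K) (hC m h4 hm')).trans
          (D_TabC3A1.conj hcm p (K := K) (hC 5 (by norm_num) (by norm_num))).symm)
  · rw [zz, card_centralizer_conj (D_TabB4.conj hcm p (K := K) (hB m h0 h4)),
      D_TabB4.card_cent hcm (K := K) p h2 inj_F4 hT]
    rw [← Nat.card_eq_fintype_card (α := K)]
    show Nat.card K ^ 16 * _ = _
    simp only [List.map_cons, List.map_nil, List.prod_cons, List.prod_nil]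
    ring
  · rw [zz, card_centralizer_conj (D_TabC3A1.conj hcm p (K := K) (hC m h0 h4)),
      D_TabC3A1.card_cent hcm (K := K) p h2 inj_F4 hT]
    rw [← Nat.card_eq_fintype_card (α := K)]
    show Nat.card K ^ 10 * _ = _
    simp only [List.map_cons, List.map_nil, List.prod_cons, List.prod_nil]
    ring

end Cfsg.Agent.H351.IF
end

-- part: H351/IF/HeisAbs
section
/-!
# Heisenberg groups from commutator relations (helper351)

* `HD Z X σ` : subgroups `X i` commuting with `Z`, `X i` commutes with `X j` for `j ≠ σ i`, and for `x ∈ X i`, `x ≠ 1`,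
  the commutator map `X (σ i) → Z`, `y ↦ [x, y]` is onto;
* `HD.sp` : then `Q = Z ⊔ ⨆ X i` satisfies `Sp Z Z Q`;
* `HD.card` : `|Q| = |Z| ∏ |X i|`.
-/

set_option autoImplicit false

namespace Cfsg.Agent.H351.IF

open Subgroup Cfsg.Agent.H255.IFK

/-- Heisenberg data. -/
structure HD {G : Type*} [Group G] (Z : Subgroup G) {ι : Type*} (X : ι → Subgroup G) (σ : ι → ι) : Prop where
  zz : ∀ a ∈ Z, ∀ b ∈ Z, a * b = b * a
  zx : ∀ i, ∀ z ∈ Z, ∀ x ∈ X i, x * z = z * x
  comm : ∀ i j, j ≠ σ i → ∀ x ∈ X i, ∀ y ∈ X j, x * y = y * x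
  mem : ∀ i, ∀ x ∈ X i, ∀ y ∈ X (σ i), x * y * x⁻¹ * y⁻¹ ∈ Z
  surj : ∀ i, ∀ x ∈ X i, x ≠ 1 → ∀ z ∈ Z, ∃ y ∈ X (σ i), x * y * x⁻¹ * y⁻¹ = z
  inv : ∀ i, σ (σ i) = i
  ne : ∃ z ∈ Z, z ≠ 1

variable {G : Type*} [Group G] {Z : Subgroup G} {ι : Type*} {X : ι → Subgroup G} {σ : ι → ι}

/-- the group -/
def HD.Q (_ : HD Z X σ) : Subgroup G := Z ⊔ ⨆ i, X i

variable (h : HD Z X σ)

include h

theorem HD.zQ : Z ≤ h.Q := le_sup_left

theorem HD.xQ (i : ι) : X i ≤ h.Q := (le_iSup X i).trans le_sup_right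

theorem HD.Q_le {K : Subgroup G} (hZ : Z ≤ K) (hX : ∀ i, X i ≤ K) : h.Q ≤ K := sup_le hZ (iSup_le hX)

theorem HD.central : ∀ z ∈ Z, ∀ x ∈ h.Q, x * z = z * x := by
  intro z hz x hx
  have h1 : h.Q ≤ centralizer ({z} : Set G) := by
    refine h.Q_le (fun a ha => ?_) (fun i a ha => ?_)
    · rw [mem_centralizer_singleton_iff]; exact h.zz a ha z hz
    · rw [mem_centralizer_singleton_iff]; exact h.zx i z hz a ha
  exact mem_centralizer_singleton_iff.1 (h1 hx)

theorem HD.cm_mul_left {g g' y : G} (hg : g ∈ h.Q) (hy : y ∈ h.Q) (hc : g' * y * g'⁻¹ * y⁻¹ ∈ Z) :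
    g * g' * y * (g * g')⁻¹ * y⁻¹ = (g * y * g⁻¹ * y⁻¹) * (g' * y * g'⁻¹ * y⁻¹) := by
  have h1 := h.central _ hc (y * g⁻¹ * y⁻¹) (mul_mem (mul_mem hy (inv_mem hg)) (inv_mem hy))
  calc g * g' * y * (g * g')⁻¹ * y⁻¹ = g * ((g' * y * g'⁻¹ * y⁻¹) * (y * g⁻¹ * y⁻¹)) := by group
    _ = g * ((y * g⁻¹ * y⁻¹) * (g' * y * g'⁻¹ * y⁻¹)) := by rw [h1]
    _ = _ := by group

theorem HD.cm_mul_right {g y y' : G} (hy : y ∈ h.Q) (hc : g * y' * g⁻¹ * y'⁻¹ ∈ Z) :
    g * (y * y') * g⁻¹ * (y * y')⁻¹ = (g * y * g⁻¹ * y⁻¹) * (g * y' * g⁻¹ * y'⁻¹) := by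
  have h1 := h.central _ hc y hy
  calc g * (y * y') * g⁻¹ * (y * y')⁻¹ = (g * y * g⁻¹ * y⁻¹) * (y * (g * y' * g⁻¹ * y'⁻¹)) * y⁻¹ := by group
    _ = (g * y * g⁻¹ * y⁻¹) * ((g * y' * g⁻¹ * y'⁻¹) * y) * y⁻¹ := by rw [h1]
    _ = _ := by group

/-- commutators of generators -/
theorem HD.cm_gen {i j : ι} {x y : G} (hx : x ∈ X i) (hy : y ∈ X j) : x * y * x⁻¹ * y⁻¹ ∈ Z := by
  by_cases hij : j = σ i
  · subst hij
    exact h.mem i x hx y hy
  · rw [h.comm i j hij x hx y hy, mul_inv_cancel_right, mul_inv_cancel]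
    exact one_mem _

theorem HD.comm_mem : ∀ x ∈ h.Q, ∀ y ∈ h.Q, x * y * x⁻¹ * y⁻¹ ∈ Z := by
  -- first `x` in a generating subgroup
  have key : ∀ (P : G → Prop), (∀ z ∈ Z, P z) → (∀ i, ∀ x ∈ X i, P x) →
      (∀ a ∈ h.Q, ∀ b ∈ h.Q, P a → P b → P (a * b)) → ∀ x ∈ h.Q, P x := by
    intro P h1 h2 h3
    let K : Set G := {x | x ∈ h.Q ∧ P x}
    have hsub : h.Q = _root_.Subgroup.closure ((Z : Set G) ∪ ⋃ i, (X i : Set G)) := by
      rw [Subgroup.closure_union, Subgroup.closure_eq, Subgroup.closure_iUnion]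
      simp only [Subgroup.closure_eq]
      rfl
    intro x hx
    have hx' := hx
    rw [hsub] at hx'
    refine (closure_induction'' (p := fun x _ => x ∈ h.Q ∧ P x) ?_ ?_ ⟨one_mem _, h1 1 (one_mem _)⟩ ?_ hx').2
    · rintro y (hy | hy)
      · exact ⟨h.zQ hy, h1 y hy⟩
      · obtain ⟨i, hi⟩ := Set.mem_iUnion.1 hy
        exact ⟨h.xQ i hi, h2 i y hi⟩
    · rintro y (hy | hy)
      · exact ⟨h.zQ (inv_mem hy), h1 _ (inv_mem hy)⟩
      · obtain ⟨i, hi⟩ := Set.mem_iUnion.1 hy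
        exact ⟨h.xQ i (inv_mem hi), h2 i _ (inv_mem hi)⟩
    · rintro a b - - ⟨ha, ha'⟩ ⟨hb, hb'⟩
      exact ⟨mul_mem ha hb, h3 a ha b hb ha' hb'⟩
  have hz : ∀ z ∈ Z, ∀ y ∈ h.Q, z * y * z⁻¹ * y⁻¹ = 1 := by
    intro z hz y hy
    rw [← h.central z hz y hy]; group
  have hz' : ∀ z ∈ Z, ∀ y ∈ h.Q, y * z * y⁻¹ * z⁻¹ = 1 := by
    intro z hz y hy
    rw [h.central z hz y hy]; group
  have s1 : ∀ i, ∀ x ∈ X i, ∀ y ∈ h.Q, x * y * x⁻¹ * y⁻¹ ∈ Z := by
    intro i x hx
    refine key _ (fun z hzz => ?_) (fun j y hy => h.cm_gen hx hy) (fun a ha b _ pa pb => ?_)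
    · rw [hz' z hzz x (h.xQ i hx)]; exact one_mem _
    · rw [h.cm_mul_right ha pb]; exact mul_mem pa pb
  intro x hx y hy
  refine key (fun x => x * y * x⁻¹ * y⁻¹ ∈ Z) (fun z hzz => ?_) (fun i x hx => s1 i x hx y hy)
    (fun a ha b _ pa pb => ?_) x hx
  · show z * y * z⁻¹ * y⁻¹ ∈ Z
    rw [hz z hzz y hy]; exact one_mem _
  · show a * b * y * (a * b)⁻¹ * y⁻¹ ∈ Z
    rw [h.cm_mul_left ha hy pb]; exact mul_mem pa pb

/-- induction over `Q` -/
theorem HD.ind {P : G → Prop} (h1 : ∀ z ∈ Z, P z) (h2 : ∀ i, ∀ x ∈ X i, P x)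
    (h3 : ∀ a ∈ h.Q, ∀ b ∈ h.Q, P a → P b → P (a * b)) : ∀ x ∈ h.Q, P x := by
  have hsub : h.Q = _root_.Subgroup.closure ((Z : Set G) ∪ ⋃ i, (X i : Set G)) := by
    rw [Subgroup.closure_union, Subgroup.closure_eq, Subgroup.closure_iUnion]
    simp only [Subgroup.closure_eq]
    rfl
  intro x hx
  have hx' := hx
  rw [hsub] at hx'
  refine (closure_induction'' (p := fun x _ => x ∈ h.Q ∧ P x) ?_ ?_ ⟨one_mem _, h1 1 (one_mem _)⟩ ?_ hx').2
  · rintro y (hy | hy)
    · exact ⟨h.zQ hy, h1 y hy⟩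
    · obtain ⟨i, hi⟩ := Set.mem_iUnion.1 hy
      exact ⟨h.xQ i hi, h2 i y hi⟩
  · rintro y (hy | hy)
    · exact ⟨h.zQ (inv_mem hy), h1 _ (inv_mem hy)⟩
    · obtain ⟨i, hi⟩ := Set.mem_iUnion.1 hy
      exact ⟨h.xQ i (inv_mem hi), h2 i _ (inv_mem hi)⟩
  · rintro a b - - ⟨ha, ha'⟩ ⟨hb, hb'⟩
    exact ⟨mul_mem ha hb, h3 a ha b hb ha' hb'⟩

omit h in
theorem zNormal {Z Q : Subgroup G} (hc : ∀ z ∈ Z, ∀ x ∈ Q, x * z = z * x) : (Z.subgroupOf Q).Normal := by
  constructor
  intro z hz g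
  rw [mem_subgroupOf] at hz ⊢
  have h1 : ((g * z * g⁻¹ : Q) : G) = z := by
    show (g : G) * z * (g : G)⁻¹ = z
    rw [hc _ hz g g.2]; group
  rw [h1]; exact hz

/-- **Coordinates in `Q`.** -/
theorem HD.coord [Fintype ι] [DecidableEq ι] : ∃ Ψ : h.Q → (∀ i, X i),
    (∀ q : h.Q, ∀ i, ∀ y ∈ X (σ i), (q : G) * y * (q : G)⁻¹ * y⁻¹ = (Ψ q i : G) * y * (Ψ q i : G)⁻¹ * y⁻¹) ∧
    (∀ q q' : h.Q, Ψ q = Ψ q' ↔ (q : G) * (q' : G)⁻¹ ∈ Z) ∧ Function.Surjective Ψ := by
  have hN := zNormal h.central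
  set Z' := Z.subgroupOf h.Q with hZ'
  have hcomm : ∀ a b : h.Q, Commute (QuotientGroup.mk' Z' a) (QuotientGroup.mk' Z' b) := by
    intro a b
    show QuotientGroup.mk' Z' a * QuotientGroup.mk' Z' b = QuotientGroup.mk' Z' b * QuotientGroup.mk' Z' a
    rw [← map_mul, ← map_mul]
    show ((a * b : h.Q) : h.Q ⧸ Z') = ((b * a : h.Q) : h.Q ⧸ Z')
    rw [QuotientGroup.eq, hZ', mem_subgroupOf]
    have h1 := h.comm_mem _ (inv_mem b.2) _ (inv_mem a.2)
    have h2 : (((a * b)⁻¹ * (b * a) : h.Q) : G) = (b : G)⁻¹ * (a : G)⁻¹ * ((b : G)⁻¹)⁻¹ * ((a : G)⁻¹)⁻¹ := by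
      simp only [mul_assoc, _root_.mul_inv_rev, _root_.Subgroup.coe_mul, _root_.InvMemClass.coe_inv, _root_.inv_inv]
    rw [h2]; exact h1
  let ϕ : ∀ i, X i →* h.Q ⧸ Z' := fun i => (QuotientGroup.mk' Z').comp (inclusion (h.xQ i))
  let Φ : (∀ i, X i) →* h.Q ⧸ Z' := MonoidHom.noncommPiCoprod ϕ fun i j _ x y => hcomm _ _
  have hΦ : ∀ i (x : X i), Φ (Pi.mulSingle i x) = QuotientGroup.mk' Z' ⟨x, h.xQ i x.2⟩ := fun i x =>
    MonoidHom.noncommPiCoprod_mulSingle _ _ _
  have hsurj : ∀ q ∈ h.Q, ∀ hq : q ∈ h.Q, ∃ x, Φ x = QuotientGroup.mk' Z' ⟨q, hq⟩ := by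
    refine h.ind (fun z hz hq => ⟨1, ?_⟩) (fun i x hx hq => ⟨Pi.mulSingle i ⟨x, hx⟩, hΦ i _⟩)
      (fun a ha b hb pa pb hq => ?_)
    · rw [map_one]
      symm
      show ((⟨z, hq⟩ : h.Q) : h.Q ⧸ Z') = 1
      rw [QuotientGroup.eq_one_iff, hZ', mem_subgroupOf]
      exact hz
    · obtain ⟨x, hx⟩ := pa ha
      obtain ⟨y, hy⟩ := pb hb
      refine ⟨x * y, ?_⟩
      rw [map_mul, hx, hy, ← map_mul]
      rfl
  -- the commutator with an element of `X (σ i)`
  have hcm : ∀ q : h.Q, ∀ x : (∀ i, X i), Φ x = QuotientGroup.mk' Z' q → ∀ i, ∀ y ∈ X (σ i),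
      (q : G) * y * (q : G)⁻¹ * y⁻¹ = (x i : G) * y * (x i : G)⁻¹ * y⁻¹ := by
    intro q x hx i y hy
    have hyQ := h.xQ (σ i) hy
    let A : h.Q →* Z :=
      { toFun := fun q => ⟨(q : G) * y * (q : G)⁻¹ * y⁻¹, h.comm_mem _ q.2 _ hyQ⟩
        map_one' := Subtype.ext (by simp only [_root_.OneMemClass.coe_one, _root_.one_mul, _root_.inv_one, _root_.mul_one, _root_.mul_inv_cancel])
        map_mul' := fun a b => Subtype.ext (h.cm_mul_left a.2 hyQ (h.comm_mem _ b.2 _ hyQ)) }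
    have hA : ∀ z ∈ Z', A z = 1 := by
      intro z hz
      rw [hZ', mem_subgroupOf] at hz
      apply Subtype.ext
      show (z : G) * y * (z : G)⁻¹ * y⁻¹ = 1
      rw [← h.central z hz y hyQ]; group
    let A' : h.Q ⧸ Z' →* Z := QuotientGroup.lift Z' A hA
    let B : (∀ i, X i) →* Z :=
      { toFun := fun x => ⟨(x i : G) * y * (x i : G)⁻¹ * y⁻¹, h.comm_mem _ (h.xQ i (x i).2) _ hyQ⟩
        map_one' := Subtype.ext (by simp only [_root_.Pi.one_apply, _root_.OneMemClass.coe_one, _root_.one_mul, _root_.inv_one, _root_.mul_one, _root_.mul_inv_cancel])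
        map_mul' := fun a b => Subtype.ext (h.cm_mul_left (h.xQ i (a i).2) hyQ (h.comm_mem _ (h.xQ i (b i).2) _ hyQ)) }
    have hAB : A'.comp Φ = B := by
      apply MonoidHom.pi_ext
      intro j a
      apply Subtype.ext
      show ((A' (Φ (Pi.mulSingle j a)) : Z) : G) = ((Pi.mulSingle j a : ∀ i, X i) i : G) * y *
        ((Pi.mulSingle j a : ∀ i, X i) i : G)⁻¹ * y⁻¹
      rw [hΦ]
      show (a : G) * y * (a : G)⁻¹ * y⁻¹ = _
      by_cases hij : i = j
      · subst hij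
        rw [Pi.mulSingle_eq_same]
      · rw [Pi.mulSingle_eq_of_ne hij]
        have hne : σ i ≠ σ j := fun e => hij (by rw [← h.inv i, e, h.inv])
        rw [h.comm j (σ i) hne a a.2 y hy]
        simp only [_root_.mul_inv_cancel_right, _root_.mul_inv_cancel, _root_.OneMemClass.coe_one, _root_.one_mul, _root_.inv_one, _root_.mul_one]
    have h1 : A' (Φ x) = B x := DFunLike.congr_fun hAB x
    rw [hx] at h1
    exact congrArg Subtype.val h1
  choose f hf using fun q : h.Q => hsurj q q.2 q.2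
  have hinj : Function.Injective Φ := by
    rw [injective_iff_map_eq_one]
    intro x hx
    obtain ⟨z, hz, hz1⟩ := h.ne
    funext i
    by_contra hne
    have hne' : (x i : G) ≠ 1 := fun e => hne (Subtype.ext e)
    obtain ⟨y, hy, e⟩ := h.surj i (x i) (x i).2 hne' z hz
    have h1 := hcm 1 x (by rw [hx, map_one]) i y hy
    rw [e] at h1
    apply hz1
    rw [← h1]
    simp only [_root_.OneMemClass.coe_one, _root_.one_mul, _root_.inv_one, _root_.mul_one, _root_.mul_inv_cancel]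
  refine ⟨f, fun q i y hy => hcm q (f q) (hf q) i y hy, fun q q' => ?_, fun x => ?_⟩
  · have h1 : f q = f q' ↔ Φ (f q) = Φ (f q') := ⟨fun e => by rw [e], fun e => hinj e⟩
    rw [h1, hf, hf]
    show ((q : h.Q) : h.Q ⧸ Z') = ((q' : h.Q) : h.Q ⧸ Z') ↔ _
    rw [QuotientGroup.eq, hZ', mem_subgroupOf]
    have h2 : (((q : h.Q)⁻¹ * q' : h.Q) : G) = (q : G)⁻¹ * q' := rfl
    rw [h2]
    constructor
    · intro e
      have h3 := h.central _ e _ q.2
      have h4 := inv_mem e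
      have h5 : (q : G) * (q' : G)⁻¹ = ((q : G)⁻¹ * q')⁻¹ := by
        rw [eq_inv_iff_mul_eq_one]
        calc (q : G) * (q' : G)⁻¹ * ((q : G)⁻¹ * q') = (q : G) * ((q' : G)⁻¹ * ((q : G)⁻¹ * q')) := by group
          _ = (q : G) * (((q : G)⁻¹ * q') * (q' : G)⁻¹) := by
            rw [h.central _ e _ (inv_mem q'.2)]
          _ = 1 := by group
      rw [h5]; exact h4
    · intro e
      have h5 : (q : G)⁻¹ * q' = ((q : G) * (q' : G)⁻¹)⁻¹ := by
        rw [eq_inv_iff_mul_eq_one]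
        calc (q : G)⁻¹ * q' * ((q : G) * (q' : G)⁻¹) = (q : G)⁻¹ * (q' * ((q : G) * (q' : G)⁻¹)) := by group
          _ = (q : G)⁻¹ * (((q : G) * (q' : G)⁻¹) * q') := by rw [h.central _ e _ q'.2]
          _ = 1 := by group
      rw [h5]; exact inv_mem e
  · obtain ⟨q, hq⟩ := QuotientGroup.mk'_surjective Z' (Φ x)
    exact ⟨q, hinj (by rw [hf, hq])⟩

theorem HD.sp [Finite ι] : Sp Z Z h.Q := by
  classical
  have := Fintype.ofFinite ι
  obtain ⟨Ψ, h1, h2, -⟩ := h.coord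
  refine ⟨le_rfl, h.zQ, h.central, h.comm_mem, fun q hq hqZ z hz => ?_⟩
  have h3 : Ψ ⟨q, hq⟩ ≠ Ψ 1 := by
    intro e
    rw [h2] at e
    apply hqZ
    simpa only [_root_.OneMemClass.coe_one, _root_.inv_one, _root_.mul_one] using e
  obtain ⟨i, hi⟩ := Function.ne_iff.1 h3
  have h4 : (Ψ 1 i : G) = 1 := by
    by_contra hne
    obtain ⟨z, hz, hz1⟩ := h.ne
    obtain ⟨y, hy, e⟩ := h.surj i (Ψ 1 i) (Ψ 1 i).2 hne z hz
    have h5 := h1 1 i y hy
    rw [e] at h5
    apply hz1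
    rw [← h5]
    simp only [_root_.OneMemClass.coe_one, _root_.one_mul, _root_.inv_one, _root_.mul_one, _root_.mul_inv_cancel]
  have h5 : (Ψ ⟨q, hq⟩ i : G) ≠ 1 := by
    intro e
    apply hi
    apply Subtype.ext
    rw [h4, e]
  obtain ⟨y, hy, e⟩ := h.surj i _ (Ψ ⟨q, hq⟩ i).2 h5 z hz
  refine ⟨y, h.xQ _ hy, ?_⟩
  rw [← e]
  exact h1 ⟨q, hq⟩ i y hy

theorem HD.card [Finite G] [Fintype ι] : Nat.card h.Q = Nat.card Z * ∏ i, Nat.card (X i) := by
  classical
  obtain ⟨Ψ, -, h2, h3⟩ := h.coord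
  have hN := zNormal h.central
  have h4 : Nat.card (h.Q ⧸ Z.subgroupOf h.Q) = Nat.card (∀ i, X i) := by
    refine Nat.card_congr (Equiv.ofBijective (Quotient.lift Ψ ?_) ⟨?_, ?_⟩)
    · intro a b hab
      have h5 : a⁻¹ * b ∈ Z.subgroupOf h.Q := QuotientGroup.leftRel_apply.1 hab
      rw [h2]
      have h6 := hN.mem_comm h5
      have h7 := inv_mem h6
      rw [mem_subgroupOf] at h7
      have h8 : (((b * a⁻¹)⁻¹ : h.Q) : G) = (a : G) * (b : G)⁻¹ := by simp only [_root_.mul_inv_rev, _root_.inv_inv, _root_.Subgroup.coe_mul, _root_.InvMemClass.coe_inv]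
      rwa [h8] at h7
    · intro a b
      induction a using QuotientGroup.induction_on with
      | H a =>
        induction b using QuotientGroup.induction_on with
        | H b =>
          intro hab
          have h5 : Ψ a = Ψ b := hab
          rw [h2] at h5
          rw [QuotientGroup.eq]
          have h6 : (b * a⁻¹ : h.Q) ∈ Z.subgroupOf h.Q := by
            have h7 := inv_mem h5
            rw [mem_subgroupOf]
            have h8 : (((b * a⁻¹) : h.Q) : G) = ((a : G) * (b : G)⁻¹)⁻¹ := by simp only [_root_.Subgroup.coe_mul, _root_.InvMemClass.coe_inv, _root_.mul_inv_rev, _root_.inv_inv]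
            rwa [h8]
          exact hN.mem_comm h6
    · intro x
      obtain ⟨q, hq⟩ := h3 x
      exact ⟨(q : h.Q ⧸ Z.subgroupOf h.Q), hq⟩
  rw [← card_mul_rel h.zQ]
  show Nat.card Z * Nat.card (h.Q ⧸ Z.subgroupOf h.Q) = _
  rw [h4, Nat.card_pi]

end Cfsg.Agent.H351.IF
end

-- part: H351/IF/F4Base
section
/-!
# S5719, `F₄(q)`, `q` odd (helper351): root groups

* `RG K r` : the root groups (`r < 48`), `mem_RG`, `card_RG`, `comm_RG`, `RG_gen`;
* `hdL α L = true` gives Heisenberg data `HD (RG K α) (fun i => RG K L[i]) Fin.rev`;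
* `zz_comm` : `zz K m` commutes with `RG K r` if `prz r m = true`;
* `nw j` : the Weyl element, `nw_RG`, `nw_zz`.
-/

set_option autoImplicit false

namespace Cfsg.Agent.H351.IF

open Cfsg.Lie Cfsg.Agent.ChevalleyStructure Cfsg.Agent.ChevalleyStructure.Elts
  Cfsg.Agent.ChevalleyStructure.CoxeterGeomTypes
  Cfsg.Agent.Nodes.RGDChev Cfsg.Agent.KFacts.RgdChevCoord Cfsg.Agent.OddHalf.NI.ModelChev
  Cfsg.Agent.H557.SignTorus Cfsg.Agent.H557.ToralTypes Cfsg.Agent.H557
  Cfsg.Agent.H934.HeisChev Cfsg.Agent.H934.HeisF4G2 Cfsg.Agent.H255.IFK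

universe u

variable {K : Type u} [Field K]

/-- the root group -/
noncomputable def RG (K : Type u) [Field K] (r : ℕ) : Subgroup ↥(chevF4.group K) where
  carrier := Set.range fun t : K => xe hF4 r t
  one_mem' := ⟨0, xe_zero hF4 r⟩
  mul_mem' := by
    rintro _ _ ⟨a, rfl⟩ ⟨b, rfl⟩
    exact ⟨a + b, xe_add hF4 r a b⟩
  inv_mem' := by
    rintro _ ⟨a, rfl⟩
    exact ⟨-a, xe_neg hF4 r a⟩

theorem xe_mem_RG (r : ℕ) (t : K) : xe hF4 r t ∈ RG K r := ⟨t, rfl⟩

theorem card_RG {r : ℕ} (hr : r < 48) : Nat.card (RG K r) = Nat.card K := by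
  refine (Nat.card_congr (Equiv.ofBijective (fun t : K => (⟨xe hF4 r t, t, rfl⟩ : RG K r)) ⟨fun a b hab => ?_, ?_⟩)).symm
  · have h1 : xe hF4 r a = xe hF4 r b := congrArg Subtype.val hab
    have h2 : xe hF4 r (a - b) = (1 : ↥(chevF4.group K)) := by
      rw [sub_eq_add_neg, xe_add, xe_neg, h1, mul_inv_cancel]
    exact sub_eq_zero.1 (xe_eq_one hF4 hr h2)
  · rintro ⟨_, t, rfl⟩
    exact ⟨t, rfl⟩

/-- the root groups commute -/
def cmB (r s : ℕ) : Bool :=
  Nat.blt r 48 && Nat.blt s 48 && (Nat.beq r s || (!(Nat.beq s (chevF4.neg r)) && (chevF4.commTerms r s).isEmpty))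

theorem comm_RG {r s : ℕ} (h : cmB r s = true) {x y : ↥(chevF4.group K)} (hx : x ∈ RG K r) (hy : y ∈ RG K s) :
    x * y = y * x := by
  obtain ⟨t, rfl⟩ := hx
  obtain ⟨u, rfl⟩ := hy
  unfold cmB at h
  simp only [Bool.and_eq_true, Bool.or_eq_true, Bool.not_eq_true', List.isEmpty_iff] at h
  obtain ⟨⟨hr, hs⟩, h⟩ := h
  have hr' : r < chevF4.nroots := Nat.le_of_ble_eq_true hr
  have hs' : s < chevF4.nroots := Nat.le_of_ble_eq_true hs
  by_cases hrs : s = r
  · subst hrs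
    show xe hF4 s t * xe hF4 s u = xe hF4 s u * xe hF4 s t
    rw [← xe_add, ← xe_add, add_comm]
  · rcases h with h | h
    · exact absurd (Nat.eq_of_beq_eq_true h).symm hrs
    · have hneg : s ≠ chevF4.neg r := fun e => by
        have := Nat.ne_of_beq_eq_false h.1
        exact this e
      exact (comm_nil hF4 hr' hs' hrs hneg h.2 t u).symm

/-- the commutator map of two root groups is onto the root group `m` (`q` odd) -/
def prB (r s m : ℕ) : Bool :=
  Nat.blt r 48 && Nat.blt s 48 && Nat.blt m 48 && !(Nat.beq s r) && !(Nat.beq s (chevF4.neg r)) &&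
    ([1, -1, 2, -2] : List ℤ).any fun c => decide (chevF4.commTerms r s = [(m, c, 1, 1)])

theorem pr_RG {r s m : ℕ} (h : prB r s m = true) (hrm : cmB r m = true) (hsm : cmB s m = true) (h2 : (2 : K) ≠ 0) :
    (∀ x ∈ RG K r, ∀ y ∈ RG K s, x * y * x⁻¹ * y⁻¹ ∈ RG K m) ∧
    ∀ x ∈ RG K r, x ≠ 1 → ∀ z ∈ RG K m, ∃ y ∈ RG K s, x * y * x⁻¹ * y⁻¹ = z := by
  unfold prB at h
  simp only [Bool.and_eq_true, Bool.not_eq_true', List.any_eq_true, decide_eq_true_eq] at h
  obtain ⟨⟨⟨⟨⟨hr, hs⟩, -⟩, hrs⟩, hneg⟩, c, hc, hct⟩ := h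
  have hr' : r < chevF4.nroots := Nat.le_of_ble_eq_true hr
  have hs' : s < chevF4.nroots := Nat.le_of_ble_eq_true hs
  have hrs' : s ≠ r := Nat.ne_of_beq_eq_false hrs
  have hneg' : s ≠ chevF4.neg r := Nat.ne_of_beq_eq_false hneg
  have hc0 : (c : K) ≠ 0 := by
    simp only [List.mem_cons, List.not_mem_nil, or_false] at hc
    rcases hc with rfl | rfl | rfl | rfl
    · simp
    · simp
    · simpa using h2
    · simpa using h2
  have key : ∀ t u : K, xe hF4 r t * xe hF4 s u * (xe hF4 r t)⁻¹ * (xe hF4 s u)⁻¹ = xe hF4 m ((c : K) * t * u) := by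
    intro t u
    have h1 := comm_single hF4 hr' hs' hrs' hneg' hct t u
    have h3 := comm_RG (K := K) hrm (xe_mem_RG r t) (xe_mem_RG m ((c : K) * t * u))
    have h4 := comm_RG (K := K) hsm (xe_mem_RG s u) (xe_mem_RG m ((c : K) * t * u))
    have h5 : xe hF4 m (-(c : K) * t * u) = (xe hF4 m ((c : K) * t * u))⁻¹ := by
      rw [← xe_neg]; congr 1; ring
    rw [h5] at h1
    set a := xe hF4 r t
    set b := xe hF4 s u
    set w := xe hF4 m ((c : K) * t * u)
    have h6 : b * a * w = a * b := by rw [h1, inv_mul_cancel_right]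
    rw [← h6]
    calc b * a * w * a⁻¹ * b⁻¹ = b * (a * w) * a⁻¹ * b⁻¹ := by group
      _ = b * (w * a) * a⁻¹ * b⁻¹ := by rw [h3]
      _ = (b * w) * b⁻¹ := by group
      _ = (w * b) * b⁻¹ := by rw [h4]
      _ = w := by group
  refine ⟨?_, ?_⟩
  · rintro _ ⟨t, rfl⟩ _ ⟨u, rfl⟩
    exact ⟨_, (key t u).symm⟩
  · rintro _ ⟨t, rfl⟩ hne _ ⟨v, rfl⟩
    have ht : t ≠ 0 := by
      rintro rfl
      exact hne (xe_zero hF4 r)
    refine ⟨xe hF4 s (v / (c * t)), xe_mem_RG _ _, ?_⟩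
    refine (key t _).trans ?_
    show xe hF4 m _ = xe hF4 m v
    congr 1
    field_simp

/-- check of Heisenberg data: the partner of `L[i]` is `L[n-1-i]` -/
def hdB (α : ℕ) (L : List ℕ) : Bool :=
  (List.range L.length).all fun i =>
    cmB (L.getD i 0) α && cmB α (L.getD i 0) && prB (L.getD i 0) (L.getD (L.length - 1 - i) 0) α &&
    (List.range L.length).all fun j => Nat.beq j (L.length - 1 - i) || cmB (L.getD i 0) (L.getD j 0)

theorem hd_of {α : ℕ} {L : List ℕ} {n : ℕ} (hn : L.length = n) (hα : α < 48) (h : hdB α L = true)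
    (h2 : (2 : K) ≠ 0) : HD (RG K α) (fun i : Fin n => RG K (L.getD i 0)) Fin.rev := by
  subst hn
  unfold hdB at h
  simp only [List.all_eq_true, List.mem_range, Bool.and_eq_true, Bool.or_eq_true] at h
  have hrev : ∀ i : Fin L.length, ((Fin.rev i : Fin L.length) : ℕ) = L.length - 1 - i := by
    intro i
    rw [Fin.val_rev]
    omega
  have hαα : cmB α α = true := by
    unfold cmB
    simp only [Bool.and_eq_true, Bool.or_eq_true]
    exact ⟨⟨Nat.ble_eq_true_of_le hα, Nat.ble_eq_true_of_le hα⟩, Or.inl (by simp)⟩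
  have hp : ∀ i : Fin L.length, _ := fun i => pr_RG (K := K) (h i i.2).1.2 (h i i.2).1.1.1
    (h (Fin.rev i : Fin L.length) (Fin.rev i).2 |> fun e => by rw [hrev] at e; exact e.1.1.1) h2
  refine ⟨fun a ha b hb => comm_RG hαα ha hb, fun i z hz x hx => comm_RG (h i i.2).1.1.1 hx hz, ?_, ?_, ?_,
    Fin.rev_rev, ?_⟩
  · intro i j hij x hx y hy
    rcases (h i i.2).2 j j.2 with e | e
    · exfalso
      apply hij
      apply Fin.ext
      rw [hrev]
      exact Nat.eq_of_beq_eq_true e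
    · exact comm_RG e hx hy
  · intro i x hx y hy
    have hy' : y ∈ RG K (L.getD (Fin.rev i : Fin L.length) 0) := hy
    rw [hrev] at hy'
    exact (hp i).1 x hx y hy'
  · intro i x hx hne z hz
    obtain ⟨y, hy, e⟩ := (hp i).2 x hx hne z hz
    refine ⟨y, ?_, e⟩
    show y ∈ RG K (L.getD (Fin.rev i : Fin L.length) 0)
    rw [hrev]
    exact hy
  · refine ⟨xe hF4 α 1, xe_mem_RG _ _, fun e => ?_⟩
    exact one_ne_zero (xe_eq_one hF4 hα e)

theorem hd_card [Finite K] {α : ℕ} {L : List ℕ} {n : ℕ} (hn : L.length = n) (hα : α < 48)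
    (hL : ∀ i < n, L.getD i 0 < 48) (h : hdB α L = true) (h2 : (2 : K) ≠ 0) :
    Nat.card (hd_of (K := K) hn hα h h2).Q = Nat.card K ^ (n + 1) := by
  have : Finite ↥(chevF4.group K) := Finite.of_injective _ Subtype.val_injective
  rw [HD.card, card_RG hα, Finset.prod_congr rfl fun (i : Fin n) _ => card_RG (K := K) (hL i.1 i.2), Finset.prod_const,
    Finset.card_univ, Fintype.card_fin, pow_succ, mul_comm]

/-- the root groups generate -/
theorem eq_top_of {A : Subgroup ↥(chevF4.group K)} (h : ∀ r < 48, RG K r ≤ A) : A = ⊤ := by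
  rw [eq_top_iff]
  rintro ⟨g, hg⟩ -
  have hg' := hg
  unfold ChevalleyDatum.group at hg'
  have key : ∀ hg : g ∈ chevF4.group K, (⟨g, hg⟩ : ↥(chevF4.group K)) ∈ A := by
    induction hg' using Subgroup.closure_induction with
    | mem x hx' =>
      obtain ⟨r, t, h'⟩ := hx'
      intro hx
      have h1 : (⟨x, hx⟩ : ↥(chevF4.group K)) = xe hF4 r t := by
        apply Subtype.ext
        apply Units.ext
        rw [h']
        have h2 := coe_xG (F := K) hF4 (r : ℕ) t
        refine Eq.trans ?_ h2.symm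
        unfold ChevalleyDatum.x
        rw [dif_pos r.2]
      rw [h1]
      exact h r r.2 (xe_mem_RG _ _)
    | one =>
      intro h1
      exact A.one_mem
    | mul x y hx' hy' ihx ihy =>
      intro hxy
      have e : (⟨x * y, hxy⟩ : ↥(chevF4.group K)) = ⟨x, hx'⟩ * ⟨y, hy'⟩ := rfl
      rw [e]
      exact A.mul_mem (ihx hx' hx') (ihy hy' hy')
    | inv x hx' ihx =>
      intro hxy
      have e : (⟨x⁻¹, hxy⟩ : ↥(chevF4.group K)) = (⟨x, hx'⟩ : ↥(chevF4.group K))⁻¹ := rfl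
      rw [e]
      exact A.inv_mem (ihx hx' hx')
  exact key hg

/-! ### the torus involutions and the Weyl elements -/

theorem xc_eq {r : ℕ} (hr : r < 48) (a : K) : xc Nodes.KindF.isType (vec chevF4 4 r) a = xe hF4 r a :=
  Subtype.ext (coe_xc Nodes.KindF.isType hr a)

/-- `zz K m` commutes with the root group `r` -/
def pzB (m r : ℕ) : Bool :=
  Nat.blt r 48 && decide ((((if m.testBit 0 then chevF4.cartan 0 r else 0) + (if m.testBit 1 then chevF4.cartan 1 r else 0) +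
    (if m.testBit 2 then chevF4.cartan 2 r else 0) + (if m.testBit 3 then chevF4.cartan 3 r else 0) : ℤ)) % 2 = 0)

theorem zz_comm {m r : ℕ} (h : pzB m r = true) {x : ↥(chevF4.group K)} (hx : x ∈ RG K r) :
    zz K m * x = x * zz K m := by
  obtain ⟨a, rfl⟩ := hx
  unfold pzB at h
  simp only [Bool.and_eq_true, decide_eq_true_eq] at h
  have hr : r < chevF4.nroots := Nat.le_of_ble_eq_true h.1
  have h1 := (act Nodes.KindF.isType hr (thT Nodes.KindF.isType (sg K 4 m)).2).2 a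
  have h2 := chH_thT Nodes.KindF.isType hr (sg K 4 m)
  have h3 : chH Nodes.KindF.isType hr (thT Nodes.KindF.isType (sg K 4 m)) =
    ch Nodes.KindF.isType (vec chevF4 4 r) (thT Nodes.KindF.isType (sg K 4 m) : ↥(chevF4.group K)) := rfl
  rw [← h3, h2] at h1
  have h4 : ∏ i : Fin 4, ((sg K 4 m i : Kˣ) : K) ^ chevF4.cartan i r = 1 := by
    rw [Fin.prod_univ_four]
    have e : ∀ k : Fin 4, ((sg K 4 m k : Kˣ) : K) ^ chevF4.cartan k r =
        (-1 : K) ^ (if m.testBit k then chevF4.cartan k r else 0) := by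
      intro k
      unfold sg
      by_cases hk : m.testBit k = true <;> simp [hk]
    rw [e, e, e, e, ← zpow_add₀ (by simp), ← zpow_add₀ (by simp), ← zpow_add₀ (by simp)]
    have h5 : Even ((if m.testBit 0 then chevF4.cartan 0 r else 0) + (if m.testBit 1 then chevF4.cartan 1 r else 0) +
      (if m.testBit 2 then chevF4.cartan 2 r else 0) + (if m.testBit 3 then chevF4.cartan 3 r else 0) : ℤ) :=
      Int.even_iff.2 h.2
    exact h5.neg_one_zpow
  rw [h4, one_mul, xc_eq hr] at h1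
  show zz K m * xe hF4 r a = xe hF4 r a * zz K m
  rw [← mul_inv_eq_iff_eq_mul]
  exact h1

/-- the Weyl elements -/
noncomputable def nw (K : Type u) [Field K] (j : Fin 4) : ↥(chevF4.group K) := nc Nodes.KindF.isType K j

theorem nw_RG (j : Fin 4) {r : ℕ} (hr : r < 48) {x : ↥(chevF4.group K)} (hx : x ∈ RG K r) :
    nw K j * x * (nw K j)⁻¹ ∈ RG K (chevF4.reflectRoot j r) := by
  obtain ⟨a, rfl⟩ := hx
  obtain ⟨c, -, hc⟩ := nact Nodes.KindF.isType (K := K) (i := j) (r := r) hr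
  have h1 := hc a
  rw [xc_eq hr, xc_eq (Cfsg.Agent.ChevalleyStructure.NPerm.reflectRoot_lt hF4 (i := j) j.2 hr)] at h1
  exact ⟨c * a, h1.symm⟩

theorem nw_zz (j : Fin 4) (m : ℕ) :
    nw K j * zz K m * (nw K j)⁻¹ = zz K (step 4 Cfsg.Agent.H557.OrbF4.cm j m) := by
  have h1 := Cfsg.Agent.H557.Toral.nc_th Nodes.KindF.isType (K := K) j (sg K 4 m)
  rw [sg_step Cfsg.Agent.H557.OrbF4.hcm] at h1
  exact h1

end Cfsg.Agent.H351.IF
end

private theorem dce_eca85dfa6d61 : _root_.True := by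
  try have : _root_.True := by simp only [_root_.Cfsg.Agent.H351.IF.zz.eq_1]
  try have : _root_.True := by simp only [_root_.Cfsg.Agent.H351.IF.HD.Q.congr_simp]
  exact _root_.True.intro
end

-- part: H917/IFG/Gen
section
prune_inst 0x7f0000000000000000000000000000000000000000000000000000000000000000000000000000000000000000000000000000000000000000000000000000000000000000000000000000000000000000000000000000000000000000000000000000000000
set_option linter.all false
open scoped Cfsg.Agent.FastGrp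

/-!
# Generation of `G₂(q)`, `³D₄(q)`, `q` odd (S5719, cells `g2`, `td4`)

Frame `HexGrp σ L` (project CIT), `L0 = K 1 ⊔ K 4`.

* `mul_mem_L0` : `|C(z) : K 1 K 4| ≤ 2`;
* `gen_V` : `K 1 K 4 (z_k) ≤ A` for the three involutions `z_k` of the torus implies `A = ⊤`;
* `gen_all` : `g (K 1 K 4) g⁻¹ ≤ A` for every involution `g z g⁻¹` of `A` implies `A = ⊤`;
* `gen9` : three of the four root groups over every involution of the torus implies `A = ⊤`.
-/

set_option autoImplicit false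

namespace Cfsg.Agent.Cit.HexBase

open Cfsg.Agent.SplitTwo Cfsg.Agent.TitsThree.RankTwoZ Cfsg.Agent.Lib.SL2Mat
  Cfsg.Agent.TitsThree.RankTwoIdx Cfsg.Agent.TitsThree.RankTwoRGD
open scoped commutatorElement Pointwise

namespace HexGrp

universe u

variable {E : Type*} [Field E] {σ : E ≃+* E} {L : Type u} [Group L] (c : HexGrp σ L)

/-- `K 1 K 4` -/
def L0 : Subgroup L := c.K1 ⊔ c.K4

theorem K1_le_L0 : c.K1 ≤ c.L0 := le_sup_left
theorem K4_le_L0 : c.K4 ≤ c.L0 := le_sup_right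

/-- `C(z)` normalises `K 1 K 4` -/
theorem conj_L0 [Finite E] (h2 : (2 : E) ≠ 0) {g x : L} (hg : g * c.z = c.z * g) (hx : x ∈ c.L0) :
    g * x * g⁻¹ ∈ c.L0 := by
  have hle : c.L0 ≤ c.L0.comap (MulAut.conj g).toMonoidHom := by
    refine sup_le ?_ ?_
    · rintro _ ⟨v, rfl⟩
      obtain ⟨v', hv'⟩ := c.CZ_pb h2 hg v
      change g * c.pb v * g⁻¹ ∈ c.L0
      rw [hv']
      exact c.K1_le_L0 ⟨v', rfl⟩
    · rintro _ ⟨v, rfl⟩
      obtain ⟨v', hv'⟩ := c.CZ_p4 h2 hg v
      change g * c.p4 v * g⁻¹ ∈ c.L0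
      rw [hv']
      exact c.K4_le_L0 ⟨v', rfl⟩
  exact hle hx

theorem conj_L0_iff [Finite E] (h2 : (2 : E) ≠ 0) {g x : L} (hg : g * c.z = c.z * g) :
    g * x * g⁻¹ ∈ c.L0 ↔ x ∈ c.L0 := by
  refine ⟨fun h => ?_, c.conj_L0 h2 hg⟩
  have hg' : g⁻¹ * c.z = c.z * g⁻¹ := by
    rw [inv_mul_eq_iff_eq_mul, ← mul_assoc, hg]; group
  have h1 := c.conj_L0 h2 hg' h
  have e : g⁻¹ * (g * x * g⁻¹) * g⁻¹⁻¹ = x := by group
  rwa [e] at h1

theorem pa_dg_mem_L0 {t : ↥(fx σ)} (ht : t ≠ 0) (h : IsSquare t) : c.pa (dg t ht) ∈ c.L0 := by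
  obtain ⟨a, rfl⟩ := h
  have ha : a ≠ 0 := fun h => ht (by rw [h, zero_mul])
  have e : dg (a * a) ht = dg (a ^ 2) (pow_ne_zero 2 ha) := by
    refine ext_ent ?_ ?_ ?_ ?_ <;> simp [pow_two]
  rw [e, c.pa_dg_sq a ha]
  exact mul_mem (inv_mem (c.K1_le_L0 ⟨_, rfl⟩)) (c.K4_le_L0 ⟨_, rfl⟩)

/-- **`|C(z) : K 1 K 4| ≤ 2`.** -/
theorem mul_mem_L0 [Finite E] (h2 : (2 : E) ≠ 0) {g h : L} (hg : g * c.z = c.z * g) (hh : h * c.z = c.z * h)
    (hg0 : g ∉ c.L0) (hh0 : h ∉ c.L0) : g * h ∈ c.L0 := by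
  obtain ⟨x, y, t, ht, eg⟩ := c.mem_CZ_form h2 hg
  obtain ⟨x', y', t', ht', eh⟩ := c.mem_CZ_form h2 hh
  have key : ∀ (g : L) (x : SL2 E) (y : SL2 ↥(fx σ)) (t : ↥(fx σ)) (ht : t ≠ 0),
      g = c.pb x * c.p4 y * c.pa (dg t ht) → g ∉ c.L0 → ¬ IsSquare t := by
    intro g x y t ht e hg hs
    apply hg
    rw [e]
    exact mul_mem (mul_mem (c.K1_le_L0 ⟨_, rfl⟩) (c.K4_le_L0 ⟨_, rfl⟩)) (c.pa_dg_mem_L0 ht hs)
  have k1 := key g x y t ht eg hg0
  have k2 := key h x' y' t' ht' eh hh0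
  have hs : IsSquare (t * t') := by
    classical
    have := Fintype.ofFinite ↥(fx σ)
    have hr : ringChar ↥(fx σ) ≠ 2 := by
      intro h
      apply h2
      have h3 := (ringChar.spec ↥(fx σ) 2).2 (by rw [h])
      have h4 : ((2 : ℕ) : ↥(fx σ)) = 0 := h3
      exact congrArg Subtype.val (show (2 : ↥(fx σ)) = 0 by exact_mod_cast h4)
    have q1 := (quadraticChar_neg_one_iff_not_isSquare (F := ↥(fx σ))).2 k1
    have q2 := (quadraticChar_neg_one_iff_not_isSquare (F := ↥(fx σ))).2 k2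
    rw [← quadraticChar_one_iff_isSquare (mul_ne_zero ht ht'), map_mul, q1, q2]
    norm_num
  have hT : c.pa (dg t ht) ∈ c.T0 := ⟨_, _, c.act_a t ht⟩
  have hTz : c.pa (dg t ht) * c.z = c.z * c.pa (dg t ht) := c.T0_comm hT c.z_mem_T0
  have e : g * h = c.pb x * c.p4 y * (c.pa (dg t ht) * (c.pb x' * c.p4 y') * (c.pa (dg t ht))⁻¹) *
      c.pa (dg (t * t') (mul_ne_zero ht ht')) := by
    rw [eg, eh, ← dg_mul_dg t t' ht ht', map_mul]
    group
  rw [e]
  exact mul_mem (mul_mem (mul_mem (c.K1_le_L0 ⟨_, rfl⟩) (c.K4_le_L0 ⟨_, rfl⟩))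
    (c.conj_L0 h2 hTz (mul_mem (c.K1_le_L0 ⟨_, rfl⟩) (c.K4_le_L0 ⟨_, rfl⟩)))) (c.pa_dg_mem_L0 _ hs)

/-! ### The involution `v = (n1 n6)³` -/

omit c in
theorem wm_sq {K : Type*} [Field K] : wm (1 : K) one_ne_zero * wm 1 one_ne_zero =
    dg (-1) (neg_ne_zero.2 one_ne_zero) := by
  refine ext_ent ?_ ?_ ?_ ?_ <;> simp [ent_mul]

theorem n1_mul_n1 : c.n1 * c.n1 = c.z := by rw [n1, z, ← map_mul, wm_sq]
theorem n4_mul_n4 : c.n4 * c.n4 = c.z := by rw [n4, z_eq_p4, ← map_mul, wm_sq]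
theorem n6_mul_n6 : c.n6 * c.n6 = c.z0 := by rw [n6, z0, ← map_mul, wm_sq]

/-- the third involution of the torus -/
def z3 : L := c.z0 * c.z

theorem act_z3 : c.Act c.z3 (-1) (-1) := by
  refine (c.act_z0.mul c.act_z).congr rfl ?_ ?_
  · rw [mul_one]
  · rw [one_mul]

theorem z0_mem_T0 : c.z0 ∈ c.T0 := ⟨_, _, c.act_z0⟩

/-- conjugation by `n6 n1` -/
theorem conj_z : c.n6 * c.n1 * c.z * (c.n6 * c.n1)⁻¹ = c.z3 := by
  refine (c.act_z.rot').unique (c.act_z3.congr rfl ?_ ?_)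
  · rw [nrm_one, inv_one, mul_one, mul_one]
  · rw [nrm_one, mul_one, inv_neg, inv_one]

theorem conj_z0 : c.n6 * c.n1 * c.z0 * (c.n6 * c.n1)⁻¹ = c.z := by
  refine (c.act_z0.rot').unique (c.act_z.congr rfl ?_ ?_)
  · rw [nrm_neg, nrm_one, inv_neg, inv_one, one_mul, neg_mul_neg, one_mul]
  · rw [nrm_neg, nrm_one, one_mul, inv_neg, inv_one]

theorem conj_z3 : c.n6 * c.n1 * c.z3 * (c.n6 * c.n1)⁻¹ = c.z0 := by
  refine (c.act_z3.rot').unique (c.act_z0.congr rfl ?_ ?_)
  · rw [nrm_neg, nrm_one, inv_neg, inv_one]; ring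
  · rw [nrm_neg, nrm_one]; norm_num

/-- `v = (n6 n1)³` -/
def v : L := c.n6 * c.n1 * (c.n6 * c.n1) * (c.n6 * c.n1)

theorem v_comm : c.n6 * c.n1 * c.v = c.v * (c.n6 * c.n1) := by
  rw [v]; group

theorem n14 : c.n1 * c.n4 = c.n4 * c.n1 := c.comm_pb_p4 _ _
theorem n1z : c.n1 * c.z = c.z * c.n1 := (c.z_pb _).symm
theorem n4z : c.n4 * c.z = c.z * c.n4 := (c.z_p4 _).symm

/-- `v = n4 n1 z` up to the order -/
theorem v_eq : c.v = c.n4 * c.z * c.n1 := by
  have h1 : c.v = c.n4 * (c.n6 * (c.n1 * c.n1) * c.n6⁻¹) * (c.n6 * c.n6) * c.n1 := by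
    rw [n4_eq, v]; group
  have h3 : c.n6 * (c.n1 * c.n1) * c.n6⁻¹ * (c.n6 * c.n6) = c.z := by
    rw [n1_mul_n1, n6_mul_n6]
    have h4 := c.act_z.n6.mul c.act_z0
    refine h4.unique (c.act_z.congr rfl ?_ ?_)
    · ring
    · rw [inv_neg, inv_one, mul_one]
  rw [h1, mul_assoc c.n4, h3]

theorem v_mem_L0 : c.v ∈ c.L0 := by
  rw [v_eq]
  exact mul_mem (mul_mem (c.K4_le_L0 c.n4_mem_K4) (c.K4_le_L0 c.z_mem_K4)) (c.K1_le_L0 c.n1_mem_K1)

theorem v_sq : c.v * c.v = 1 := by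
  rw [v_eq]
  calc c.n4 * c.z * c.n1 * (c.n4 * c.z * c.n1) = c.n4 * c.z * (c.n1 * c.n4) * c.z * c.n1 := by group
    _ = c.n4 * (c.z * c.n4) * (c.n1 * c.z) * c.n1 := by rw [n14]; group
    _ = (c.n4 * c.n4) * c.z * c.z * (c.n1 * c.n1) := by rw [n1z, ← n4z]; group
    _ = 1 := by rw [n4_mul_n4, n1_mul_n1, c.z_sq, one_mul, c.z_sq]

theorem v_maps : Maps c.X c.v (fun k => k + 6) := by
  have h : Maps c.X (c.n6 * c.n1) (fun k => k - 2) := c.maps_g
  refine ((h.mul h).mul h).congr fun k => ?_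
  simp only [Function.comp]
  have : (12 : ZMod (2 * 6)) = 0 := by decide
  linear_combination (-1 : ZMod (2 * 6)) * this

theorem x1one_ne : c.x1 1 ≠ 1 := fun h => one_ne_zero (c.x1_inj (by rw [h, c.x1_zero]))

theorem v_ne : c.v ≠ 1 := by
  intro h
  have h1 : c.v * c.x1 1 * c.v⁻¹ ∈ c.X 7 := maps_mem c.v_maps (c.mem1 1) (by decide)
  rw [h, one_mul, inv_one, mul_one] at h1
  exact c.x1one_ne (c.eq_one_of_ne (by decide) (c.mem1 1) h1)

/-- the root groups over the conjugates of `z` by the powers of `n6 n1` -/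
theorem X_le_of_conj {A : Subgroup L} {n : L} {f : ZMod (2 * 6) → ZMod (2 * 6)} (hn : Maps c.X n f)
    (h : ∀ x ∈ c.L0, n * x * n⁻¹ ∈ A) : ∀ k ∈ ({1, 4, 7, 10} : Finset (ZMod (2 * 6))), c.X (f k) ≤ A := by
  intro k hk x hx
  have hk0 : c.X k ≤ c.L0 := by
    fin_cases hk
    · exact c.X1_le_K1.trans c.K1_le_L0
    · exact c.X4_le_K4.trans c.K4_le_L0
    · exact c.X7_le_K1.trans c.K1_le_L0
    · exact c.X10_le_K4.trans c.K4_le_L0
  have h1 := h _ (hk0 (maps_mem' hn hx rfl))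
  have e : n * (n⁻¹ * x * n) * n⁻¹ = x := by group
  rwa [e] at h1

omit c in
theorem idx3 : ∀ k : ZMod (2 * 6), (∃ j ∈ ({1, 4, 7, 10} : Finset (ZMod (2 * 6))), k = j) ∨
    (∃ j ∈ ({1, 4, 7, 10} : Finset (ZMod (2 * 6))), k = j - 2) ∨
    (∃ j ∈ ({1, 4, 7, 10} : Finset (ZMod (2 * 6))), k = j - 2 - 2) := by decide +kernel

/-- **`K 1 K 4 (z_k) ≤ A` for the three involutions `z_k` of the torus implies `A = ⊤`.** -/
theorem gen_V {A : Subgroup L} (h1 : c.L0 ≤ A) (h2 : ∀ x ∈ c.L0, c.n6 * c.n1 * x * (c.n6 * c.n1)⁻¹ ∈ A)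
    (h3 : ∀ x ∈ c.L0, c.n6 * c.n1 * (c.n6 * c.n1) * x * (c.n6 * c.n1 * (c.n6 * c.n1))⁻¹ ∈ A) : A = ⊤ := by
  rw [eq_top_iff, ← c.gen]
  refine iSup_le fun k => ?_
  have hg : Maps c.X (c.n6 * c.n1) (fun k => k - 2) := c.maps_g
  rcases idx3 k with ⟨j, hj, rfl⟩ | ⟨j, hj, rfl⟩ | ⟨j, hj, rfl⟩
  · exact c.X_le_of_conj (f := id) (Maps.one (X := c.X)) (fun x hx => by
      rw [one_mul, inv_one, mul_one]; exact h1 hx) k hj
  · exact c.X_le_of_conj hg h2 j hj
  · exact c.X_le_of_conj (hg.mul hg) h3 j hj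

/-- the three involutions of the torus lie in `K 1 K 4` of the involution `v` -/
theorem V_le_of_conj [Finite E] (h2 : (2 : E) ≠ 0) {g : L} (hg : g * c.z * g⁻¹ = c.v) :
    g⁻¹ * c.z * g ∈ c.L0 ∧ g⁻¹ * c.z0 * g ∈ c.L0 ∧ g⁻¹ * c.z3 * g ∈ c.L0 := by
  -- `n = n6 n1` centralises `v`
  obtain ⟨m, hm⟩ : ∃ m, m = g⁻¹ * (c.n6 * c.n1) * g := ⟨_, rfl⟩
  have hmz : m * c.z = c.z * m := by
    have e1 : c.z = g⁻¹ * c.v * g := by rw [← hg]; group
    rw [e1, hm]
    calc g⁻¹ * (c.n6 * c.n1) * g * (g⁻¹ * c.v * g) = g⁻¹ * (c.n6 * c.n1 * c.v) * g := by group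
      _ = g⁻¹ * (c.v * (c.n6 * c.n1)) * g := by rw [c.v_comm]
      _ = _ := by group
  have hT : ∀ t ∈ ({c.z, c.z0, c.z3} : Set L), (g⁻¹ * t * g) * c.z = c.z * (g⁻¹ * t * g) := by
    intro t ht
    have hvt : c.v * t = t * c.v := by
      have hn : ∀ t, t * t = 1 → t ∈ c.T0 → c.v * t = t * c.v := by
        intro t ht hT
        -- `v = n4 z n1`
        obtain ⟨c1, c6, hA⟩ := hT
        have e : c.v * t * c.v⁻¹ = t⁻¹ := by
          have h3 := hA.rot'.rot'.rot'
          have h5 := hA.alt2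
          refine (h5.congr ?_ rfl rfl).unique hA.inv
          rw [v]
          simp only [alt]
          group
        rw [inv_eq_of_mul_eq_one_right ht] at e
        exact mul_inv_eq_iff_eq_mul.1 e
      rcases ht with rfl | rfl | rfl
      · exact hn _ c.z_sq c.z_mem_T0
      · exact hn _ c.z0_sq c.z0_mem_T0
      · refine hn _ ?_ ⟨_, _, c.act_z3⟩
        have h := c.act_z3.mul c.act_z3
        rw [neg_mul_neg, one_mul] at h
        exact h.eq_one
    have e1 : c.z = g⁻¹ * c.v * g := by rw [← hg]; group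
    rw [e1]
    calc g⁻¹ * t * g * (g⁻¹ * c.v * g) = g⁻¹ * (t * c.v) * g := by group
      _ = g⁻¹ * (c.v * t) * g := by rw [hvt]
      _ = _ := by group
  have hz := hT c.z (by simp)
  have hz0 := hT c.z0 (by simp)
  have hz3 := hT c.z3 (by simp)
  -- `m` permutes the three involutions
  have m1 : m * (g⁻¹ * c.z * g) * m⁻¹ = g⁻¹ * c.z3 * g := by rw [hm, ← c.conj_z]; group
  have m2 : m * (g⁻¹ * c.z0 * g) * m⁻¹ = g⁻¹ * c.z * g := by
    have := c.conj_z0
    calc m * (g⁻¹ * c.z0 * g) * m⁻¹ = g⁻¹ * (c.n6 * c.n1 * c.z0 * (c.n6 * c.n1)⁻¹) * g := by rw [hm]; group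
      _ = _ := by rw [this]
  have i1 : g⁻¹ * c.z3 * g ∈ c.L0 ↔ g⁻¹ * c.z * g ∈ c.L0 := by rw [← m1]; exact c.conj_L0_iff h2 hmz
  have i2 : g⁻¹ * c.z * g ∈ c.L0 ↔ g⁻¹ * c.z0 * g ∈ c.L0 := by rw [← m2]; exact c.conj_L0_iff h2 hmz
  have e3 : g⁻¹ * c.z3 * g = (g⁻¹ * c.z0 * g) * (g⁻¹ * c.z * g) := by rw [z3]; group
  have key : g⁻¹ * c.z * g ∈ c.L0 := by
    by_contra hn
    have hn0 : g⁻¹ * c.z0 * g ∉ c.L0 := fun h => hn (i2.2 h)
    have h3 := c.mul_mem_L0 h2 hz0 hz hn0 hn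
    rw [← e3] at h3
    exact hn (i1.1 h3)
  exact ⟨key, i2.1 key, i1.2 key⟩

/-- **`g (K 1 K 4) g⁻¹ ≤ A` for every involution `g z g⁻¹` of `A` implies `A = ⊤`.** -/
theorem gen_all [Finite E] [Finite L] (h2 : (2 : E) ≠ 0) {A : Subgroup L} (hA : ∃ t ∈ A, t * t = 1 ∧ t ≠ 1)
    (h : ∀ g, g * c.z * g⁻¹ ∈ A → ∀ x ∈ c.L0, g * x * g⁻¹ ∈ A) : A = ⊤ := by
  -- first the case `z ∈ A`
  have key : ∀ A : Subgroup L, c.z ∈ A → (∀ g, g * c.z * g⁻¹ ∈ A → ∀ x ∈ c.L0, g * x * g⁻¹ ∈ A) → A = ⊤ := by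
    intro A hz h
    have hL : c.L0 ≤ A := fun x hx => by
      have := h 1 (by rw [one_mul, inv_one, mul_one]; exact hz) x hx
      rwa [one_mul, inv_one, mul_one] at this
    obtain ⟨g, hg⟩ := isConj_iff.1 (c.isConj_invol h2 c.z_sq (c.z_ne h2) c.v_sq c.v_ne)
    have hvA : ∀ x ∈ c.L0, g * x * g⁻¹ ∈ A := h g (by rw [hg]; exact hL c.v_mem_L0)
    obtain ⟨-, k0, k3⟩ := c.V_le_of_conj h2 hg
    have m0 : c.z0 ∈ A := by
      have := hvA _ k0
      have e : g * (g⁻¹ * c.z0 * g) * g⁻¹ = c.z0 := by group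
      rwa [e] at this
    have m3 : c.z3 ∈ A := by
      have := hvA _ k3
      have e : g * (g⁻¹ * c.z3 * g) * g⁻¹ = c.z3 := by group
      rwa [e] at this
    refine c.gen_V hL (h _ (by rw [c.conj_z]; exact m3)) (h _ ?_)
    have e : c.n6 * c.n1 * (c.n6 * c.n1) * c.z * (c.n6 * c.n1 * (c.n6 * c.n1))⁻¹ =
        c.n6 * c.n1 * (c.n6 * c.n1 * c.z * (c.n6 * c.n1)⁻¹) * (c.n6 * c.n1)⁻¹ := by group
    rw [e, c.conj_z, c.conj_z3]
    exact m0
  obtain ⟨t, htA, ht, ht1⟩ := hA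
  obtain ⟨w, hw⟩ := isConj_iff.1 (c.isConj_z h2 ht ht1)
  have h1 := key (A.map (MulAut.conj w).toMonoidHom) ⟨t, htA, hw⟩ (fun g hg x hx => by
    obtain ⟨a, ha, e⟩ := hg
    have e' : w * a * w⁻¹ = g * c.z * g⁻¹ := e
    refine ⟨(w⁻¹ * g) * x * (w⁻¹ * g)⁻¹, h (w⁻¹ * g) ?_ x hx, ?_⟩
    · have : w⁻¹ * g * c.z * (w⁻¹ * g)⁻¹ = a := by
        calc w⁻¹ * g * c.z * (w⁻¹ * g)⁻¹ = w⁻¹ * (g * c.z * g⁻¹) * w := by group
          _ = a := by rw [← e']; group
      rw [this]
      exact ha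
    · change w * (w⁻¹ * g * x * (w⁻¹ * g)⁻¹) * w⁻¹ = g * x * g⁻¹
      group)
  rw [eq_top_iff]
  intro x _
  have hx : w * x * w⁻¹ ∈ A.map (MulAut.conj w).toMonoidHom := by rw [h1]; exact Subgroup.mem_top _
  obtain ⟨a, ha, e⟩ := hx
  have e' : w * a * w⁻¹ = w * x * w⁻¹ := e
  have : a = x := mul_left_cancel (mul_right_cancel e')
  rwa [← this]

end HexGrp

end Cfsg.Agent.Cit.HexBase

private theorem dce_05e7fba38cdf : _root_.True := by
  try have : _root_.True := by simp only [_root_.Cfsg.Agent.Cit.HexBase.HexGrp.z3.eq_1]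
  try have : _root_.True := by simp only [_root_.Cfsg.Agent.Cit.HexBase.HexGrp.v.eq_1]
  try have : _root_.True := by simp only [_root_.Cfsg.Agent.Cit.HexBase.HexGrp.n4.eq_1]
  exact _root_.True.intro
end

-- part: H276/IF/Mid
section
prune_inst 0x7f0317069044400020000000014c0001c64fe0001020008040004a10f4206c8ee684902a061a89025135802800400300000125c00000040000004000000011d04a1900002008148a008800089000000000000000000000000000000000000000000200000000
set_option linter.all false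
open scoped Cfsg.Agent.FastGrp

/-!
# S5719, orthogonal groups, `q` odd: the middle step (helper276)

`z` a fundamental involution with `π z ∈ A`, `W` its `(-1)`-space, `dim V ≥ 11`. Then `E(W⊥) ≤ π⁻¹ A`: `E(W⊥)` contains a
fundamental involution `s` of `π⁻¹ A`, and (E4) for `(z, s)` with `|s^{C(z)}| ≥ q⁹` gives `f(z) < q^(dim V - 6)`.
-/

set_option autoImplicit false
set_option maxHeartbeats 400000
set_option linter.unusedSectionVars false
set_option linter.unusedSimpArgs false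

namespace Cfsg.Agent.H276.IF

open QuadraticMap Cfsg.Agent.LieClassical Cfsg.Agent.LieClassical.OrthCore Cfsg.Agent.LieClassical.OrthTrans
  Cfsg.Agent.LieClassical.OrthSimple Cfsg.Agent.AutOrth.SemiSim Cfsg.Agent.AutOrth.Gen
  Cfsg.Agent.H989.Gs.Gen Cfsg.Agent.H989.Fx
open Cfsg.Agent.UGT.U2.FOne.Orth (Four)

variable {F V : Type*} [Field F] [AddCommGroup V] [Module F V] {Q : QuadraticForm F V}

/-! ### Nondegenerate subspaces -/

/-- the space orthogonal to a vector -/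
def P1 (Q : QuadraticForm F V) (y : V) : Submodule F V := LinearMap.ker (polarBilin Q y)

/-- `D` is nondegenerate -/
def Ns (Q : QuadraticForm F V) (D : Submodule F V) : Prop := ∀ x ∈ D, (∀ y ∈ D, polar Q x y = 0) → x = 0

theorem ns_top (hQ : Nondeg Q) : Ns Q ⊤ := fun x _ h => hQ x fun y => h y Submodule.mem_top

theorem Ns.exists_ne {D : Submodule F V} (hD : Ns Q D) (h0 : D ≠ ⊥) : ∃ y ∈ D, Q y ≠ 0 := by
  by_contra hcon
  push Not at hcon
  obtain ⟨x, hx, hx0⟩ := (Submodule.ne_bot_iff _).1 h0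
  apply hx0
  apply hD x hx
  intro y hy
  have h1 := Q_add (Q := Q) x y
  rw [hcon _ (D.add_mem hx hy), hcon _ hx, hcon _ hy, zero_add, zero_add] at h1
  exact h1.symm

theorem Ns.inf (h2 : (2 : F) ≠ 0) {D : Submodule F V} (hD : Ns Q D) {y : V} (hy : y ∈ D) (hQy : Q y ≠ 0) :
    Ns Q (D ⊓ P1 Q y) := by
  rintro x ⟨hx, hxy⟩ h
  apply hD x hx
  intro w hw
  have hyx : polar Q x y = 0 := by rw [polar_comm]; exact hxy
  have h3 : w - (polar Q y w / (2 * Q y)) • y ∈ D ⊓ P1 Q y := by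
    refine ⟨D.sub_mem hw (D.smul_mem _ hy), ?_⟩
    show polar Q y _ = 0
    rw [polar_sub_right, polar_smul_right, polar_self', smul_eq_mul, div_mul_cancel₀ _ (mul_ne_zero h2 hQy), sub_self]
  have h4 := h _ h3
  rw [polar_sub_right, polar_smul_right, hyx, smul_zero, sub_zero] at h4
  exact h4

theorem Ns.inf_hyp {D : Submodule F V} (hD : Ns Q D) {e f : V} (h : Hyp Q e f) (he : e ∈ D) (hf : f ∈ D) :
    Ns Q (D ⊓ P1 Q e ⊓ P1 Q f) := by
  rintro x ⟨⟨hx, hxe⟩, hxf⟩ h1
  apply hD x hx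
  intro w hw
  have hxe' : polar Q x e = 0 := by rw [polar_comm]; exact hxe
  have hxf' : polar Q x f = 0 := by rw [polar_comm]; exact hxf
  have h3 : w - polar Q f w • e - polar Q e w • f ∈ D ⊓ P1 Q e ⊓ P1 Q f := by
    refine ⟨⟨D.sub_mem (D.sub_mem hw (D.smul_mem _ he)) (D.smul_mem _ hf), ?_⟩, ?_⟩
    · show polar Q e _ = 0
      rw [polar_sub_right, polar_sub_right, polar_smul_right, polar_smul_right, h.polar_left, h.pair]
      simp
    · show polar Q f _ = 0
      rw [polar_sub_right, polar_sub_right, polar_smul_right, polar_smul_right, h.polar_right, h.pair']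
      simp
  have h4 := h1 _ h3
  rw [polar_sub_right, polar_sub_right, polar_smul_right, polar_smul_right, hxe', hxf'] at h4
  simpa using h4

theorem finrank_inf [FiniteDimensional F V] (D : Submodule F V) (y : V) :
    Module.finrank F D ≤ Module.finrank F (D ⊓ P1 Q y : Submodule F V) + 1 := by
  have h1 := Submodule.finrank_sup_add_finrank_inf_eq D (P1 Q y)
  have h2 := LinearMap.finrank_range_add_finrank_ker (polarBilin Q y)
  have h3 : Module.finrank F (LinearMap.range (polarBilin Q y)) ≤ 1 := by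
    have := Submodule.finrank_le (LinearMap.range (polarBilin Q y))
    rwa [Module.finrank_self] at this
  have h4 : Module.finrank F (D ⊔ P1 Q y : Submodule F V) ≤ Module.finrank F V := Submodule.finrank_le _
  have h5 : Module.finrank F (P1 Q y) = Module.finrank F (LinearMap.ker (polarBilin Q y)) := rfl
  omega

/-- the space orthogonal to two hyperbolic pairs -/
def P4 (Q : QuadraticForm F V) (e₁ f₁ e₂ f₂ : V) : Submodule F V := P1 Q e₁ ⊓ P1 Q f₁ ⊓ P1 Q e₂ ⊓ P1 Q f₂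

theorem mem_P4 {e₁ f₁ e₂ f₂ v : V} :
    v ∈ P4 Q e₁ f₁ e₂ f₂ ↔ polar Q e₁ v = 0 ∧ polar Q f₁ v = 0 ∧ polar Q e₂ v = 0 ∧ polar Q f₂ v = 0 := by
  constructor
  · rintro ⟨⟨⟨a, b⟩, c⟩, d⟩
    exact ⟨a, b, c, d⟩
  · rintro ⟨a, b, c, d⟩
    exact ⟨⟨⟨a, b⟩, c⟩, d⟩

theorem Ns.inf_four {D : Submodule F V} (hD : Ns Q D) {e₁ f₁ e₂ f₂ : V} (h : Four Q e₁ f₁ e₂ f₂) (he₁ : e₁ ∈ D)
    (hf₁ : f₁ ∈ D) (he₂ : e₂ ∈ D) (hf₂ : f₂ ∈ D) : Ns Q (D ⊓ P4 Q e₁ f₁ e₂ f₂) := by
  have h1 := (hD.inf_hyp h.h1 he₁ hf₁).inf_hyp h.h2 ⟨⟨he₂, h.ee⟩, h.fe⟩ ⟨⟨hf₂, h.ef⟩, h.ff⟩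
  have h2 : D ⊓ P4 Q e₁ f₁ e₂ f₂ = D ⊓ P1 Q e₁ ⊓ P1 Q f₁ ⊓ P1 Q e₂ ⊓ P1 Q f₂ := by
    unfold P4
    simp only [inf_assoc]
  rw [h2]
  exact h1

theorem finrank_inf_four [FiniteDimensional F V] (D : Submodule F V) (e₁ f₁ e₂ f₂ : V) :
    Module.finrank F D ≤ Module.finrank F (D ⊓ P4 Q e₁ f₁ e₂ f₂ : Submodule F V) + 4 := by
  have h2 : D ⊓ P4 Q e₁ f₁ e₂ f₂ = D ⊓ P1 Q e₁ ⊓ P1 Q f₁ ⊓ P1 Q e₂ ⊓ P1 Q f₂ := by
    unfold P4
    simp only [inf_assoc]
  rw [h2]
  have h3 := finrank_inf (Q := Q) D e₁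
  have h4 := finrank_inf (Q := Q) (D ⊓ P1 Q e₁) f₁
  have h5 := finrank_inf (Q := Q) (D ⊓ P1 Q e₁ ⊓ P1 Q f₁) e₂
  have h6 := finrank_inf (Q := Q) (D ⊓ P1 Q e₁ ⊓ P1 Q f₁ ⊓ P1 Q e₂) f₂
  omega

/-- three pairwise orthogonal nonsingular vectors in a nondegenerate space of dimension at least 3 -/
theorem Ns.exists_three [FiniteDimensional F V] (h2 : (2 : F) ≠ 0) {D : Submodule F V} (hD : Ns Q D)
    (h3 : 3 ≤ Module.finrank F D) :
    ∃ b₁ ∈ D, ∃ b₂ ∈ D, ∃ b₃ ∈ D, Q b₁ ≠ 0 ∧ Q b₂ ≠ 0 ∧ Q b₃ ≠ 0 ∧ polar Q b₁ b₂ = 0 ∧ polar Q b₁ b₃ = 0 ∧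
      polar Q b₂ b₃ = 0 := by
  have hne : ∀ D' : Submodule F V, 1 ≤ Module.finrank F D' → D' ≠ ⊥ := by
    rintro D' h rfl
    rw [finrank_bot] at h
    omega
  obtain ⟨b₁, hb₁, hq₁⟩ := hD.exists_ne (hne _ (by omega))
  have hD1 := hD.inf h2 hb₁ hq₁
  have hf1 := finrank_inf (Q := Q) D b₁
  obtain ⟨b₂, hb₂, hq₂⟩ := hD1.exists_ne (hne _ (by omega))
  have hD2 := hD1.inf h2 hb₂ hq₂
  have hf2 := finrank_inf (Q := Q) (D ⊓ P1 Q b₁) b₂
  obtain ⟨b₃, hb₃, hq₃⟩ := hD2.exists_ne (hne _ (by omega))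
  exact ⟨b₁, hb₁, b₂, hb₂.1, b₃, hb₃.1.1, hq₁, hq₂, hq₃, hb₂.2, hb₃.1.2, hb₃.2⟩

/-- three pairwise orthogonal vectors with given nonzero norms in a hyperbolic 4-space -/
theorem exists_three_four [Finite F] (h2 : (2 : F) ≠ 0) {e₁ f₁ e₂ f₂ : V} (h : Four Q e₁ f₁ e₂ f₂) {c₁ c₂ c₃ : F}
    (h1 : c₁ ≠ 0) (h2' : c₂ ≠ 0) :
    ∃ a₁ ∈ Submodule.span F {e₁, f₁, e₂, f₂}, ∃ a₂ ∈ Submodule.span F {e₁, f₁, e₂, f₂},
      ∃ a₃ ∈ Submodule.span F {e₁, f₁, e₂, f₂}, Q a₁ = c₁ ∧ Q a₂ = c₂ ∧ Q a₃ = c₃ ∧ polar Q a₁ a₂ = 0 ∧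
        polar Q a₁ a₃ = 0 ∧ polar Q a₂ a₃ = 0 := by
  cases nonempty_fintype F
  have hchar : ringChar F ≠ 2 := by
    intro h3
    apply h2
    have := ringChar.Nat.cast_ringChar (R := F)
    rw [h3] at this
    exact_mod_cast this
  have he₁ : e₁ ∈ Submodule.span F {e₁, f₁, e₂, f₂} := Submodule.subset_span (by simp)
  have hf₁ : f₁ ∈ Submodule.span F {e₁, f₁, e₂, f₂} := Submodule.subset_span (by simp)
  have he₂ : e₂ ∈ Submodule.span F {e₁, f₁, e₂, f₂} := Submodule.subset_span (by simp)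
  have hf₂ : f₂ ∈ Submodule.span F {e₁, f₁, e₂, f₂} := Submodule.subset_span (by simp)
  obtain ⟨p1, p2, p3, p4, p5, p6, p7, p8, p9, p10, p11, p12, p13, p14, p15, p16⟩ := h.pols
  -- the binary form represents `c₃`
  obtain ⟨a, b, hab⟩ := FiniteField.exists_root_sum_quadratic (R := F)
    (f := Polynomial.C (-c₁) * Polynomial.X ^ 2 + Polynomial.C 0 * Polynomial.X + Polynomial.C (-c₃))
    (g := Polynomial.C (-c₂) * Polynomial.X ^ 2 + Polynomial.C 0 * Polynomial.X + Polynomial.C 0)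
    (Polynomial.degree_quadratic (neg_ne_zero.2 h1)) (Polynomial.degree_quadratic (neg_ne_zero.2 h2'))
    (by
      rw [← Nat.card_eq_fintype_card]
      have := FiniteField.odd_card_of_char_ne_two hchar
      rw [Nat.card_eq_fintype_card]
      exact this)
  simp only [Polynomial.eval_add, Polynomial.eval_mul, Polynomial.eval_pow, Polynomial.eval_C, Polynomial.eval_X] at hab
  refine ⟨e₁ + c₁ • f₁, Submodule.add_mem _ he₁ (Submodule.smul_mem _ _ hf₁), e₂ + c₂ • f₂,
    Submodule.add_mem _ he₂ (Submodule.smul_mem _ _ hf₂), a • (e₁ - c₁ • f₁) + b • (e₂ - c₂ • f₂),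
    Submodule.add_mem _ (Submodule.smul_mem _ _ (Submodule.sub_mem _ he₁ (Submodule.smul_mem _ _ hf₁)))
      (Submodule.smul_mem _ _ (Submodule.sub_mem _ he₂ (Submodule.smul_mem _ _ hf₂))), ?_, ?_, ?_, ?_, ?_, ?_⟩
  · rw [Q_add, QuadraticMap.map_smul, h.h1.left, h.h1.right, polar_smul_right, p5]
    simp
  · rw [Q_add, QuadraticMap.map_smul, h.h2.left, h.h2.right, polar_smul_right, p7]
    simp
  · have k1 : Q (e₁ - c₁ • f₁) = -c₁ := by
      rw [sub_eq_add_neg, ← neg_smul, Q_add, QuadraticMap.map_smul, h.h1.left, h.h1.right, polar_smul_right, p5]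
      simp
    have k2 : Q (e₂ - c₂ • f₂) = -c₂ := by
      rw [sub_eq_add_neg, ← neg_smul, Q_add, QuadraticMap.map_smul, h.h2.left, h.h2.right, polar_smul_right, p7]
      simp
    rw [Q_add, QuadraticMap.map_smul, QuadraticMap.map_smul, k1, k2, polar_smul_left, polar_smul_right, polar_sub_left,
      polar_sub_right, polar_sub_right, polar_smul_left, polar_smul_left, polar_smul_right, polar_smul_right, p9, p11,
      p13, p15]
    simp only [smul_eq_mul]
    linear_combination hab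
  · rw [polar_add_left, polar_add_right, polar_add_right, polar_smul_left, polar_smul_left, polar_smul_right,
      polar_smul_right, p9, p11, p13, p15]
    simp
  · simp only [polar_add_left, polar_add_right, polar_sub_right, polar_smul_left, polar_smul_right, smul_eq_mul, p1, p2,
      p5, p6, p9, p11, p13, p15]
    ring
  · simp only [polar_add_left, polar_add_right, polar_sub_right, polar_smul_left, polar_smul_right, smul_eq_mul, p3, p4,
      p7, p8, p10, p12, p14, p16]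
    ring

/-! ### Three singular vectors -/

theorem reg {v w x x' : V} (hv : Q v = 0) (hvw : polar Q v w ≠ 0) (hx : polar Q v x = 0) (hwx : polar Q w x = 0)
    (hx' : polar Q v x' = 0) (hwx' : polar Q w x' = 0) (H : ap (S Q v x) w = ap (S Q v x') w) : x = x' := by
  rw [S_ap hv hx, S_ap hv hx', polar_comm Q x w, polar_comm Q x' w, hwx, hwx'] at H
  have h1 : polar Q v w • (x - x') = ((Q x - Q x') * polar Q v w) • v := by
    have h2 : polar Q v w • (x - x') = (w + polar Q v w • x - (0 : F) • v - (Q x * polar Q v w) • v) -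
        (w + polar Q v w • x' - (0 : F) • v - (Q x' * polar Q v w) • v) + ((Q x - Q x') * polar Q v w) • v := by
      module
    rw [h2, H]
    module
  have h2 : x - x' = (Q x - Q x') • v := by
    have h3 : polar Q v w • (x - x') = polar Q v w • ((Q x - Q x') • v) := by
      rw [h1, smul_smul, mul_comm]
    exact smul_right_injective _ hvw h3
  have h3 : polar Q w (x - x') = 0 := by rw [polar_sub_right, hwx, hwx', sub_zero]
  rw [h2, polar_smul_right, smul_eq_mul, mul_eq_zero] at h3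
  rcases h3 with h3 | h3
  · rw [h3, zero_smul] at h2
    exact sub_eq_zero.1 h2
  · exact absurd (by rw [polar_comm]; exact h3) hvw

theorem step {v w x x' : V} {k k' : ↥(E Q)} (hv : Q v = 0) (hvw : polar Q v w ≠ 0) (hx : polar Q v x = 0)
    (hwx : polar Q w x = 0) (hx' : polar Q v x' = 0) (hwx' : polar Q w x' = 0) (hk : ap k w = w) (hk' : ap k' w = w)
    (hd : ap ((S Q v x * k)⁻¹ * (S Q v x' * k')) w = w) :
    x = x' ∧ (S Q v x * k)⁻¹ * (S Q v x' * k') = k⁻¹ * k' := by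
  have h1 : ap (S Q v x') w = ap (S Q v x) w := by
    have h2 := congrArg (ap (S Q v x * k)) hd
    rw [← ap_mul, mul_inv_cancel_left, ap_mul, ap_mul, hk, hk'] at h2
    exact h2
  have h2 := reg hv hvw hx hwx hx' hwx' h1.symm
  refine ⟨h2, ?_⟩
  rw [h2]
  group

/-- three singular vectors `v i`, with `w i = s (v i)`: three orthogonal hyperbolic planes -/
structure Tri (Q : QuadraticForm F V) (D : Submodule F V) (s : ↥(E Q)) (v w : Fin 3 → V) : Prop where
  mem : ∀ i, v i ∈ D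
  mem' : ∀ i, w i ∈ D
  sv : ∀ i, ap s (v i) = w i
  q : ∀ i, Q (v i) = 0
  c : ∀ i, polar Q (v i) (w i) ≠ 0
  vv : ∀ i j, i ≠ j → polar Q (v i) (v j) = 0
  vw : ∀ i j, i ≠ j → polar Q (v i) (w j) = 0

/-- **existence** -/
theorem exists_tri [Finite F] [FiniteDimensional F V] (h2 : (2 : F) ≠ 0) {D : Submodule F V} {s : ↥(E Q)}
    {e₁ f₁ e₂ f₂ : V} (h : Four Q e₁ f₁ e₂ f₂) (h1 : ap s e₁ = -e₁) (hf1 : ap s f₁ = -f₁) (h2' : ap s e₂ = -e₂)
    (hf2 : ap s f₂ = -f₂)
    (h5 : ∀ v, polar Q e₁ v = 0 → polar Q f₁ v = 0 → polar Q e₂ v = 0 → polar Q f₂ v = 0 → ap s v = v)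
    (hD : Ns Q D) (he₁ : e₁ ∈ D) (hf₁ : f₁ ∈ D) (he₂ : e₂ ∈ D) (hf₂ : f₂ ∈ D) (hd : 7 ≤ Module.finrank F D) :
    ∃ v w : Fin 3 → V, Tri Q D s v w := by
  have hf := finrank_inf_four (Q := Q) D e₁ f₁ e₂ f₂
  obtain ⟨b₁, hb₁, b₂, hb₂, b₃, hb₃, k1, k2, k3, k12, k13, k23⟩ :=
    (hD.inf_four h he₁ hf₁ he₂ hf₂).exists_three h2 (by omega)
  obtain ⟨a₁, ha₁, a₂, ha₂, a₃, ha₃, l1, l2, l3, l12, l13, l23⟩ :=
    exists_three_four (c₁ := -Q b₁) (c₂ := -Q b₂) (c₃ := -Q b₃) h2 h (neg_ne_zero.2 k1) (neg_ne_zero.2 k2)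
  have hspan : Submodule.span F {e₁, f₁, e₂, f₂} ≤ D := by
    rw [Submodule.span_le]
    rintro x (rfl | rfl | rfl | rfl)
    exacts [he₁, hf₁, he₂, hf₂]
  have hneg : ∀ a ∈ Submodule.span F {e₁, f₁, e₂, f₂}, ap s a = -a := by
    intro a ha
    induction ha using Submodule.span_induction with
    | mem x hx =>
      rcases hx with rfl | rfl | rfl | rfl
      exacts [h1, hf1, h2', hf2]
    | zero => rw [neg_zero]; exact map_zero _
    | add x y _ _ hx hy => rw [ap_add, hx, hy, neg_add]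
    | smul c x _ hx => rw [ap_smul, hx, smul_neg]
  have hfix : ∀ b ∈ D ⊓ P4 Q e₁ f₁ e₂ f₂, ap s b = b := by
    rintro b ⟨-, hb⟩
    obtain ⟨m1, m2, m3, m4⟩ := mem_P4.1 hb
    exact h5 b m1 m2 m3 m4
  have hab : ∀ a ∈ Submodule.span F {e₁, f₁, e₂, f₂}, ∀ b ∈ D ⊓ P4 Q e₁ f₁ e₂ f₂, polar Q a b = 0 := by
    rintro a ha b ⟨-, hb⟩
    obtain ⟨m1, m2, m3, m4⟩ := mem_P4.1 hb
    induction ha using Submodule.span_induction with
    | mem x hx =>
      rcases hx with rfl | rfl | rfl | rfl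
      exacts [m1, m2, m3, m4]
    | zero => exact polar_zero_left _ _
    | add x y _ _ hx hy => rw [polar_add_left, hx, hy, add_zero]
    | smul c x _ hx => rw [polar_smul_left, hx, smul_zero]
  let a : Fin 3 → V := ![a₁, a₂, a₃]
  let b : Fin 3 → V := ![b₁, b₂, b₃]
  have ha : ∀ i, a i ∈ Submodule.span F {e₁, f₁, e₂, f₂} := by
    intro i
    fin_cases i
    exacts [ha₁, ha₂, ha₃]
  have hb : ∀ i, b i ∈ D ⊓ P4 Q e₁ f₁ e₂ f₂ := by
    intro i
    fin_cases i
    exacts [hb₁, hb₂, hb₃]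
  have hq : ∀ i, Q (a i) = -Q (b i) := by
    intro i
    fin_cases i
    exacts [l1, l2, l3]
  have hq0 : ∀ i, Q (b i) ≠ 0 := by
    intro i
    fin_cases i
    exacts [k1, k2, k3]
  have haa : ∀ i j, i ≠ j → polar Q (a i) (a j) = 0 := by
    intro i j hij
    fin_cases i <;> fin_cases j
    · exact absurd rfl hij
    · exact l12
    · exact l13
    · exact (polar_comm Q _ _).trans l12
    · exact absurd rfl hij
    · exact l23
    · exact (polar_comm Q _ _).trans l13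
    · exact (polar_comm Q _ _).trans l23
    · exact absurd rfl hij
  have hbb : ∀ i j, i ≠ j → polar Q (b i) (b j) = 0 := by
    intro i j hij
    fin_cases i <;> fin_cases j
    · exact absurd rfl hij
    · exact k12
    · exact k13
    · exact (polar_comm Q _ _).trans k12
    · exact absurd rfl hij
    · exact k23
    · exact (polar_comm Q _ _).trans k13
    · exact (polar_comm Q _ _).trans k23
    · exact absurd rfl hij
  have hAB : ∀ i j, polar Q (a i) (b j) = 0 := fun i j => hab _ (ha i) _ (hb j)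
  have hBA : ∀ i j, polar Q (b i) (a j) = 0 := fun i j => (polar_comm Q _ _).trans (hAB j i)
  refine ⟨fun i => a i + b i, fun i => -a i + b i, fun i => D.add_mem (hspan (ha i)) (hb i).1,
    fun i => D.add_mem (D.neg_mem (hspan (ha i))) (hb i).1, fun i => ?_, fun i => ?_, fun i => ?_, fun i j hij => ?_,
    fun i j hij => ?_⟩
  · show ap s (a i + b i) = -a i + b i
    rw [ap_add, hneg _ (ha i), hfix _ (hb i)]
  · show Q (a i + b i) = 0
    rw [Q_add, hq, hAB]
    ring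
  · show polar Q (a i + b i) (-a i + b i) ≠ 0
    rw [polar_add_left, polar_add_right, polar_add_right, polar_neg_right, polar_neg_right, polar_self', polar_self',
      hAB, hBA, hq]
    have h6 : -(2 * -Q (b i)) + 0 + (-0 + 2 * Q (b i)) = 2 * (2 * Q (b i)) := by ring
    rw [h6]
    exact mul_ne_zero h2 (mul_ne_zero h2 (hq0 i))
  · show polar Q (a i + b i) (a j + b j) = 0
    rw [polar_add_left, polar_add_right, polar_add_right, haa i j hij, hbb i j hij, hAB, hBA]
    ring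
  · show polar Q (a i + b i) (-a j + b j) = 0
    rw [polar_add_left, polar_add_right, polar_add_right, polar_neg_right, polar_neg_right, haa i j hij, hbb i j hij,
      hAB, hBA]
    ring


section count

variable {D : Submodule F V} {s : ↥(E Q)} {v w : Fin 3 → V}

/-- the spaces of the parameters -/
def D1 (Q : QuadraticForm F V) (D : Submodule F V) (v w : Fin 3 → V) : Submodule F V :=
  D ⊓ P1 Q (v 0) ⊓ P1 Q (w 0)

def D2 (Q : QuadraticForm F V) (D : Submodule F V) (v w : Fin 3 → V) : Submodule F V :=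
  D1 Q D v w ⊓ P1 Q (v 1) ⊓ P1 Q (w 1)

def D3 (Q : QuadraticForm F V) (D : Submodule F V) (v w : Fin 3 → V) : Submodule F V :=
  D2 Q D v w ⊓ P1 Q (v 2) ⊓ P1 Q (w 2)

/-- the conjugating element -/
noncomputable def gg (Q : QuadraticForm F V) (v : Fin 3 → V) (x y z : V) : ↥(E Q) :=
  S Q (v 0) x * (S Q (v 1) y * S Q (v 2) z)

/-- **the conjugates `gg s gg⁻¹` are distinct, even modulo scalars** -/
theorem Tri.inj (h : Tri Q D s v w) {x y z x' y' z' : V} (hx : x ∈ D1 Q D v w)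
    (hy : y ∈ D2 Q D v w) (hz : z ∈ D3 Q D v w) (hx' : x' ∈ D1 Q D v w) (hy' : y' ∈ D2 Q D v w) (hz' : z' ∈ D3 Q D v w)
    {ε : F} (H : ∀ t, ap ((gg Q v x y z)⁻¹ * gg Q v x' y' z') (ap s t) =
      ε • ap s (ap ((gg Q v x y z)⁻¹ * gg Q v x' y' z') t)) : x = x' ∧ y = y' ∧ z = z' := by
  obtain ⟨⟨hxD, hx0⟩, hx0'⟩ := hx
  obtain ⟨⟨hx'D, hx'0⟩, hx'0'⟩ := hx'
  obtain ⟨⟨⟨⟨hyD, hy0⟩, hy0'⟩, hy1⟩, hy1'⟩ := hy
  obtain ⟨⟨⟨⟨hy'D, hy'0⟩, hy'0'⟩, hy'1⟩, hy'1'⟩ := hy'
  obtain ⟨⟨⟨⟨⟨⟨hzD, hz0⟩, hz0'⟩, hz1⟩, hz1'⟩, hz2⟩, hz2'⟩ := hz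
  obtain ⟨⟨⟨⟨⟨⟨hz'D, hz'0⟩, hz'0'⟩, hz'1⟩, hz'1'⟩, hz'2⟩, hz'2'⟩ := hz'
  change polar Q _ _ = 0 at hx0 hx0' hx'0 hx'0' hy0 hy0' hy1 hy1' hy'0 hy'0' hy'1 hy'1' hz0 hz0' hz1 hz1' hz2 hz2'
  change polar Q _ _ = 0 at hz'0 hz'0' hz'1 hz'1' hz'2 hz'2'
  have d01 : (0 : Fin 3) ≠ 1 := by decide
  have d02 : (0 : Fin 3) ≠ 2 := by decide
  have d12 : (1 : Fin 3) ≠ 2 := by decide
  have c : ∀ {a b : V}, polar Q a b = 0 → polar Q b a = 0 := fun hab => by rw [polar_comm]; exact hab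
  have self : ∀ i, polar Q (v i) (v i) = 0 := fun i => polar_self_of_sing (h.q i)
  have e00 := self 0
  have e11 := self 1
  have e22 := self 2
  have e01 := h.vv 0 1 d01
  have e02 := h.vv 0 2 d02
  have e12 := h.vv 1 2 d12
  have e10 := h.vv 1 0 d01.symm
  have e20 := h.vv 2 0 d02.symm
  have e21 := h.vv 2 1 d12.symm
  have w10 := h.vw 1 0 d01.symm
  have w20 := h.vw 2 0 d02.symm
  have w21 := h.vw 2 1 d12.symm
  -- what the factors fix
  have fix : ∀ (i : Fin 3) (p : V), polar Q (v i) p = 0 → ∀ t, polar Q (v i) t = 0 → polar Q t p = 0 →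
      ap (S Q (v i) p) t = t := fun i p hp t h1 h2 => S_fix (h.q i) hp h1 (c h2)
  have gv0 : ∀ {x y z : V}, polar Q (v 0) x = 0 → polar Q (v 1) y = 0 → polar Q (v 0) y = 0 → polar Q (v 0) z = 0 →
      polar Q (v 2) z = 0 → ap (gg Q v x y z) (v 0) = v 0 := by
    intro x y z a1 a2 a3 a4 a5
    rw [gg, ap_mul, ap_mul, fix 2 z a5 (v 0) e20 a4, fix 1 y a2 (v 0) e10 a3, fix 0 x a1 (v 0) e00 a1]
  have hd0 : ap ((gg Q v x y z)⁻¹ * gg Q v x' y' z') (v 0) = v 0 := by
    rw [ap_mul, gv0 hx'0 hy'1 hy'0 hz'0 hz'2]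
    exact ap_inv_of (gv0 hx0 hy1 hy0 hz0 hz2)
  have hε : ε = 1 := by
    have h1 := congrArg (polar Q (v 0)) (H (v 0))
    rw [hd0, h.sv 0, polar_smul_right, smul_eq_mul] at h1
    have h2 := polar_ap ((gg Q v x y z)⁻¹ * gg Q v x' y' z') (v 0) (w 0)
    rw [hd0, h1] at h2
    exact mul_right_cancel₀ (h.c 0) (h2.trans (one_mul _).symm)
  have Hw : ∀ i, ap ((gg Q v x y z)⁻¹ * gg Q v x' y' z') (v i) = v i →
      ap ((gg Q v x y z)⁻¹ * gg Q v x' y' z') (w i) = w i := by
    intro i hi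
    have h1 := H (v i)
    rw [hi, h.sv i, hε, one_smul] at h1
    exact h1
  -- the first step
  have hw0 := Hw 0 hd0
  have kw0 : ∀ {y z : V}, polar Q (v 1) y = 0 → polar Q (w 0) y = 0 → polar Q (v 2) z = 0 → polar Q (w 0) z = 0 →
      ap (S Q (v 1) y * S Q (v 2) z) (w 0) = w 0 := by
    intro y z a1 a2 a3 a4
    rw [ap_mul, fix 2 z a3 (w 0) w20 a4, fix 1 y a1 (w 0) w10 a2]
  obtain ⟨hxx, hd⟩ := step (h.q 0) (h.c 0) hx0 hx0' hx'0 hx'0' (kw0 hy1 hy0' hz2 hz0') (kw0 hy'1 hy'0' hz'2 hz'0') hw0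
  -- the second step
  have hd' : (gg Q v x y z)⁻¹ * gg Q v x' y' z' =
      (S Q (v 1) y * S Q (v 2) z)⁻¹ * (S Q (v 1) y' * S Q (v 2) z') := hd
  have kv1 : ∀ {y z : V}, polar Q (v 1) y = 0 → polar Q (v 1) z = 0 → polar Q (v 2) z = 0 →
      ap (S Q (v 1) y * S Q (v 2) z) (v 1) = v 1 := by
    intro y z a1 a2 a3
    rw [ap_mul, fix 2 z a3 (v 1) e21 a2, fix 1 y a1 (v 1) e11 a1]
  have hw1 := Hw 1 (by
    rw [hd', ap_mul, kv1 hy'1 hz'1 hz'2]
    exact ap_inv_of (kv1 hy1 hz1 hz2))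
  rw [hd'] at hw1
  obtain ⟨hyy, hd2⟩ := step (h.q 1) (h.c 1) hy1 hy1' hy'1 hy'1' (fix 2 z hz2 (w 1) w21 hz1')
    (fix 2 z' hz'2 (w 1) w21 hz'1') hw1
  -- the third step
  have hw2 := Hw 2 (by
    rw [hd', hd2, ap_mul, fix 2 z' hz'2 (v 2) e22 hz'2]
    exact ap_inv_of (fix 2 z hz2 (v 2) e22 hz2))
  rw [hd', hd2] at hw2
  have h3 : S Q (v 2) z * 1 = S Q (v 2) z := mul_one _
  have h3' : S Q (v 2) z' * 1 = S Q (v 2) z' := mul_one _
  rw [← h3, ← h3'] at hw2
  exact ⟨hxx, hyy, (step (h.q 2) (h.c 2) hz2 hz2' hz'2 hz'2' (ap_one _) (ap_one _) hw2).1⟩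

theorem finrank_D1 [FiniteDimensional F V] (Q : QuadraticForm F V) (D : Submodule F V) (v w : Fin 3 → V) :
    Module.finrank F D ≤ Module.finrank F (D1 Q D v w) + 2 := by
  have h1 := finrank_inf (Q := Q) D (v 0)
  have h2 := finrank_inf (Q := Q) (D ⊓ P1 Q (v 0)) (w 0)
  have h3 : Module.finrank F (D1 Q D v w) = Module.finrank F (D ⊓ P1 Q (v 0) ⊓ P1 Q (w 0) : Submodule F V) := rfl
  omega

theorem finrank_D2 [FiniteDimensional F V] (Q : QuadraticForm F V) (D : Submodule F V) (v w : Fin 3 → V) :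
    Module.finrank F D ≤ Module.finrank F (D2 Q D v w) + 4 := by
  have h0 := finrank_D1 Q D v w
  have h1 := finrank_inf (Q := Q) (D1 Q D v w) (v 1)
  have h2 := finrank_inf (Q := Q) (D1 Q D v w ⊓ P1 Q (v 1)) (w 1)
  have h3 : Module.finrank F (D2 Q D v w) =
    Module.finrank F (D1 Q D v w ⊓ P1 Q (v 1) ⊓ P1 Q (w 1) : Submodule F V) := rfl
  omega

theorem finrank_D3 [FiniteDimensional F V] (Q : QuadraticForm F V) (D : Submodule F V) (v w : Fin 3 → V) :
    Module.finrank F D ≤ Module.finrank F (D3 Q D v w) + 6 := by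
  have h0 := finrank_D2 Q D v w
  have h1 := finrank_inf (Q := Q) (D2 Q D v w) (v 2)
  have h2 := finrank_inf (Q := Q) (D2 Q D v w ⊓ P1 Q (v 2)) (w 2)
  have h3 : Module.finrank F (D3 Q D v w) =
    Module.finrank F (D2 Q D v w ⊓ P1 Q (v 2) ⊓ P1 Q (w 2) : Submodule F V) := rfl
  omega

theorem card_D [Finite F] [FiniteDimensional F V] (Q : QuadraticForm F V) (D : Submodule F V) (v w : Fin 3 → V)
    {a : ℕ} (ha : a + 12 ≤ 3 * Module.finrank F D) :
    Nat.card F ^ a ≤ Nat.card (D1 Q D v w × D2 Q D v w × D3 Q D v w) := by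
  rw [Nat.card_prod, Nat.card_prod, Module.natCard_eq_pow_finrank (K := F) (V := D1 Q D v w),
    Module.natCard_eq_pow_finrank (K := F) (V := D2 Q D v w), Module.natCard_eq_pow_finrank (K := F) (V := D3 Q D v w), ← pow_add, ← pow_add]
  have h1 := finrank_D1 Q D v w
  have h2 := finrank_D2 Q D v w
  have h3 := finrank_D3 Q D v w
  exact Nat.pow_le_pow_right Nat.card_pos (by omega)

variable {T : Type*} [Group T] [Finite T] {pi : ↥(E Q) →* T}

theorem scalar_comm (hk : KerScalar pi) {s d : ↥(E Q)} (h : pi (d * s) = pi (s * d)) :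
    ∃ ε : F, ∀ t, ap d (ap s t) = ε • ap s (ap d t) := scalar_of_eq hk h

/-- **the number of conjugates** -/
theorem Tri.count [Finite F] [FiniteDimensional F V] (h : Tri Q D s v w) (hk : KerScalar pi) {z : ↥(E Q)}
    (hz : ∀ u ∈ D, ap z u = u) :
    Nat.card (D1 Q D v w × D2 Q D v w × D3 Q D v w) ≤
      (Subgroup.centralizer ({pi s} : Set T)).relIndex (Subgroup.centralizer ({pi z} : Set T)) := by
  have hc : ∀ p : D1 Q D v w × D2 Q D v w × D3 Q D v w, z * gg Q v p.1 p.2.1 p.2.2 = gg Q v p.1 p.2.1 p.2.2 * z := by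
    rintro ⟨x, y, t⟩
    have k1 : ∀ i, ∀ a ∈ D, z * S Q (v i) a = S Q (v i) a * z := fun i a ha => S_comm (hz _ (h.mem i)) (hz _ ha)
    have k2 := k1 0 x x.2.1.1
    have k3 := k1 1 y y.2.1.1.1.1
    have k4 := k1 2 t t.2.1.1.1.1.1.1
    show z * (S Q (v 0) x * (S Q (v 1) y * S Q (v 2) t)) = S Q (v 0) x * (S Q (v 1) y * S Q (v 2) t) * z
    rw [← mul_assoc, k2, mul_assoc, ← mul_assoc z, k3, mul_assoc (S Q (v 1) (y : V)), k4]
    simp only [mul_assoc]
  have hmem : ∀ p : D1 Q D v w × D2 Q D v w × D3 Q D v w,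
      pi (gg Q v p.1 p.2.1 p.2.2) ∈ Subgroup.centralizer ({pi z} : Set T) := by
    intro p
    rw [Subgroup.mem_centralizer_singleton_iff, ← map_mul, ← map_mul, hc p]
  rw [Subgroup.relIndex, Subgroup.index]
  let φ : D1 Q D v w × D2 Q D v w × D3 Q D v w → (Subgroup.centralizer ({pi z} : Set T)) ⧸
      (Subgroup.centralizer ({pi s} : Set T)).subgroupOf (Subgroup.centralizer ({pi z} : Set T)) :=
    fun p => QuotientGroup.mk ⟨_, hmem p⟩
  refine Nat.card_le_card_of_injective φ ?_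
  intro p p' hpp
  have h0 := QuotientGroup.eq.1 hpp
  rw [Subgroup.mem_subgroupOf] at h0
  have h1 : (pi (gg Q v p.1 p.2.1 p.2.2))⁻¹ * pi (gg Q v p'.1 p'.2.1 p'.2.2) ∈
      Subgroup.centralizer ({pi s} : Set T) := h0
  rw [Subgroup.mem_centralizer_singleton_iff, ← map_inv, ← map_mul, ← map_mul, ← map_mul] at h1
  obtain ⟨ε, hε⟩ := scalar_comm hk h1
  obtain ⟨k1, k2, k3⟩ := h.inj p.1.2 p.2.1.2 p.2.2.2 p'.1.2 p'.2.1.2 p'.2.2.2 hε
  exact Prod.ext (Subtype.ext k1) (Prod.ext (Subtype.ext k2) (Subtype.ext k3))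

end count

/-! ### The group of a nondegenerate subspace -/

section sub

open Cfsg.Agent.H112.Row2.OrthExt (ext extE ext_left ext_right ext_siegel QU polar_QU coe_extE)

/-- the group generated by the Siegel elements of a subspace -/
def EB (Q : QuadraticForm F V) (D : Submodule F V) : Subgroup ↥(E Q) :=
  Subgroup.closure {g : ↥(E Q) | ∃ u ∈ D, ∃ w ∈ D, Q u = 0 ∧ polar Q u w = 0 ∧ g = S Q u w}

theorem nondeg_QU {D : Submodule F V} (hD : Ns Q D) : Nondeg (QU Q D) := by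
  intro x hx
  apply Subtype.ext
  apply hD x x.2
  intro y hy
  have h1 := hx ⟨y, hy⟩
  rwa [polar_QU] at h1

theorem ns_P4 (hQ : Nondeg Q) {e₁ f₁ e₂ f₂ : V} (h : Four Q e₁ f₁ e₂ f₂) : Ns Q (P4 Q e₁ f₁ e₂ f₂) := by
  have h1 := (ns_top hQ).inf_four h Submodule.mem_top Submodule.mem_top Submodule.mem_top Submodule.mem_top
  rwa [top_inf_eq] at h1

theorem finrank_P4 [FiniteDimensional F V] (e₁ f₁ e₂ f₂ : V) :
    Module.finrank F V ≤ Module.finrank F (P4 Q e₁ f₁ e₂ f₂) + 4 := by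
  have h1 := finrank_inf_four (Q := Q) ⊤ e₁ f₁ e₂ f₂
  rwa [top_inf_eq, finrank_top] at h1

theorem orth_P4 {e₁ f₁ e₂ f₂ : V} : ∀ u ∈ P4 Q e₁ f₁ e₂ f₂, ∀ w ∈ Submodule.span F {e₁, f₁, e₂, f₂}, polar Q u w = 0 := by
  intro u hu w hw
  obtain ⟨m1, m2, m3, m4⟩ := mem_P4.1 hu
  induction hw using Submodule.span_induction with
  | mem x hx =>
    rw [polar_comm]
    rcases hx with rfl | rfl | rfl | rfl
    exacts [m1, m2, m3, m4]
  | zero => exact polar_zero_right _ _
  | add x y _ _ hx hy => rw [polar_add_right, hx, hy, add_zero]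
  | smul c x _ hx => rw [polar_smul_right, hx, smul_zero]

theorem isCompl_P4 {e₁ f₁ e₂ f₂ : V} (h : Four Q e₁ f₁ e₂ f₂) :
    IsCompl (P4 Q e₁ f₁ e₂ f₂) (Submodule.span F {e₁, f₁, e₂, f₂}) := by
  obtain ⟨p1, p2, p3, p4, p5, p6, p7, p8, p9, p10, p11, p12, p13, p14, p15, p16⟩ := h.pols
  have he₁ : e₁ ∈ Submodule.span F {e₁, f₁, e₂, f₂} := Submodule.subset_span (by simp)
  have hf₁ : f₁ ∈ Submodule.span F {e₁, f₁, e₂, f₂} := Submodule.subset_span (by simp)
  have he₂ : e₂ ∈ Submodule.span F {e₁, f₁, e₂, f₂} := Submodule.subset_span (by simp)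
  have hf₂ : f₂ ∈ Submodule.span F {e₁, f₁, e₂, f₂} := Submodule.subset_span (by simp)
  have key : ∀ v : V, v - (polar Q f₁ v • e₁ + polar Q e₁ v • f₁ + (polar Q f₂ v • e₂ + polar Q e₂ v • f₂)) ∈
      P4 Q e₁ f₁ e₂ f₂ := by
    intro v
    rw [mem_P4]
    refine ⟨?_, ?_, ?_, ?_⟩
    · simp only [polar_sub_right, polar_add_right, polar_smul_right, smul_eq_mul, p1, p5, p9, p11]
      ring
    · simp only [polar_sub_right, polar_add_right, polar_smul_right, smul_eq_mul, p2, p6, p13, p15]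
      ring
    · simp only [polar_sub_right, polar_add_right, polar_smul_right, smul_eq_mul, p3, p7, p10, p14]
      ring
    · simp only [polar_sub_right, polar_add_right, polar_smul_right, smul_eq_mul, p4, p8, p12, p16]
      ring
  have hmem : ∀ v : V, polar Q f₁ v • e₁ + polar Q e₁ v • f₁ + (polar Q f₂ v • e₂ + polar Q e₂ v • f₂) ∈
      Submodule.span F {e₁, f₁, e₂, f₂} := fun v =>
    Submodule.add_mem _ (Submodule.add_mem _ (Submodule.smul_mem _ _ he₁) (Submodule.smul_mem _ _ hf₁))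
      (Submodule.add_mem _ (Submodule.smul_mem _ _ he₂) (Submodule.smul_mem _ _ hf₂))
  constructor
  · rw [Submodule.disjoint_def]
    intro x hx hx'
    obtain ⟨m1, m2, m3, m4⟩ := mem_P4.1 hx
    -- `x` is in the span, so it equals its component
    have h1 : x = polar Q f₁ x • e₁ + polar Q e₁ x • f₁ + (polar Q f₂ x • e₂ + polar Q e₂ x • f₂) := by
      clear hx m1 m2 m3 m4
      induction hx' using Submodule.span_induction with
      | mem x hx =>
        rcases hx with rfl | rfl | rfl | rfl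
        · rw [p1, p6, p10, p12]
          simp
        · rw [p2, p5, p14, p16]
          simp
        · rw [p3, p8, p9, p13]
          simp
        · rw [p4, p7, p11, p15]
          simp
      | zero => simp
      | add x y _ _ hx hy =>
        simp only [polar_add_right]
        nth_rewrite 1 [hx, hy]
        module
      | smul c x _ hx =>
        simp only [polar_smul_right, smul_eq_mul]
        nth_rewrite 1 [hx]
        module
    rw [h1, m1, m2, m3, m4]
    simp
  · rw [codisjoint_iff, eq_top_iff]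
    intro v _
    rw [Submodule.mem_sup]
    exact ⟨_, key v, _, hmem v, sub_add_cancel _ _⟩

/-- the extensions of `E(D)` -/
theorem extE_mem {U W : Submodule F V} (h : IsCompl U W) (ho : ∀ u ∈ U, ∀ w ∈ W, polar Q u w = 0)
    (A : ↥(E (QU Q U))) : extE h ho A ∈ EB Q U := by
  have h1 : E (QU Q U) ≤ ((EB Q U).map (E Q).subtype).comap (ext h) := by
    rw [E, Subgroup.closure_le]
    rintro _ ⟨u, v, hu, hv, rfl⟩
    have hu' : Q (u : V) = 0 := hu
    have hv' : polar Q (u : V) v = 0 := by rw [← polar_QU]; exact hv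
    refine ⟨S Q (u : V) v, Subgroup.subset_closure ⟨u, u.2, v, v.2, hu', hv', rfl⟩, ?_⟩
    rw [ext_siegel h ho hu hv hu' hv', S_eq hu' hv']
    rfl
  obtain ⟨k, hk, hk'⟩ := h1 A.2
  have h2 : extE h ho A = k := Subtype.ext hk'.symm
  rw [h2]
  exact hk

theorem range_extE {U W : Submodule F V} (h : IsCompl U W) (ho : ∀ u ∈ U, ∀ w ∈ W, polar Q u w = 0) :
    (extE h ho).range = EB Q U := by
  apply le_antisymm
  · rintro _ ⟨A, rfl⟩
    exact extE_mem h ho A
  · rw [EB, Subgroup.closure_le]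
    rintro _ ⟨u, hu, w, hw, hQu, hp, rfl⟩
    have hu' : QU Q U ⟨u, hu⟩ = 0 := hQu
    have hp' : polar (QU Q U) ⟨u, hu⟩ ⟨w, hw⟩ = 0 := by rw [polar_QU]; exact hp
    refine ⟨⟨siegel (QU Q U) ⟨u, hu⟩ ⟨w, hw⟩ hu' hp', siegel_mem_E hu' hp'⟩, ?_⟩
    apply Subtype.ext
    rw [coe_extE, ext_siegel h ho hu' hp' hQu hp, S_eq hQu hp]
    rfl

/-- `E(D)` is contained in `X` or has large index -/
theorem EB_le_of {D W : Submodule F V} (hc : IsCompl D W) (ho : ∀ u ∈ D, ∀ w ∈ W, polar Q u w = 0) {m : ℕ}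
    (hmin : ∀ H : Subgroup ↥(E (QU Q D)), H ≠ ⊤ → m ≤ H.index) {X : Subgroup ↥(E Q)} (hX : X.relIndex (EB Q D) < m) :
    EB Q D ≤ X := by
  rw [← range_extE hc ho, ← Subgroup.index_comap] at hX
  have h1 : X.comap (extE hc ho) = ⊤ := by
    by_contra hcon
    exact absurd (hmin _ hcon) (not_le.2 hX)
  rw [← range_extE hc ho]
  rintro _ ⟨A, rfl⟩
  have h2 : A ∈ X.comap (extE hc ho) := by rw [h1]; exact Subgroup.mem_top _
  exact h2

/-- an element fixing the vectors of `D` commutes with `E(D)` -/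
theorem EB_comm {D : Submodule F V} {z : ↥(E Q)} (hz : ∀ u ∈ D, ap z u = u) : ∀ b ∈ EB Q D, z * b = b * z := by
  have h1 : EB Q D ≤ Subgroup.centralizer ({z} : Set ↥(E Q)) := by
    rw [EB, Subgroup.closure_le]
    rintro _ ⟨u, hu, w, hw, -, -, rfl⟩
    rw [SetLike.mem_coe, Subgroup.mem_centralizer_singleton_iff]
    exact (S_comm (hz u hu) (hz w hw)).symm
  intro b hb
  exact (Subgroup.mem_centralizer_singleton_iff.1 (h1 hb)).symm

/-- `E(D)` fixes the vectors orthogonal to `D` -/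
theorem EB_fix {D : Submodule F V} {x : V} (hx : ∀ u ∈ D, polar Q u x = 0) : ∀ b ∈ EB Q D, ap b x = x := by
  intro b hb
  induction hb using Subgroup.closure_induction with
  | mem g hg =>
    obtain ⟨u, hu, w, hw, hQu, hp, rfl⟩ := hg
    exact S_fix hQu hp (hx u hu) (hx w hw)
  | one => exact ap_one x
  | mul a b _ _ ha hb => rw [ap_mul, hb, ha]
  | inv a _ ha => exact ap_inv_of ha

end sub

/-! ### The middle step -/

section mid

open Subgroup Cfsg.Agent.H209.Fxy Cfsg.Agent.H112.Row2.OrthExt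

variable {T : Type*} [Group T] [Finite T]

/-- a scalar does not fix one vector and move another one -/
theorem pi_ne_one {pi : ↥(E Q) →* T} (hk : KerScalar pi) {s : ↥(E Q)} {v : V} (hv : Q v = 0)
    (h : polar Q v (ap s v) ≠ 0) : pi s ≠ 1 := by
  intro h1
  obtain ⟨c, hc⟩ := hk s h1
  have h2 : ap s v = c • v := hc v
  rw [h2, polar_smul_right, polar_self_of_sing hv, smul_zero] at h
  exact h rfl

theorem pi_ne {pi : ↥(E Q) →* T} (hk : KerScalar pi) {s z : ↥(E Q)} {v : V} (hv : Q v = 0)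
    (h : polar Q v (ap s v) ≠ 0) (hz : ap z v = v) : pi s ≠ pi z := by
  intro h1
  obtain ⟨c, hc⟩ := scalar_of_eq hk h1
  have h2 : ap s v = c • ap z v := hc v
  rw [h2, hz, polar_smul_right, polar_self_of_sing hv, smul_zero] at h
  exact h rfl

theorem orderOf_pi {pi : ↥(E Q) →* T} {s : ↥(E Q)} (hs : s * s = 1) (h1 : pi s ≠ 1) : orderOf (pi s) = 2 := by
  apply orderOf_eq_prime _ h1
  rw [pow_two, ← map_mul, hs, map_one]

theorem finite_E [Finite F] [FiniteDimensional F V] (Q : QuadraticForm F V) : Finite ↥(E Q) := by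
  have h1 : Finite V := Module.finite_of_finite F
  have h3 : Finite (V ≃ₗ[F] V) := Finite.of_injective (fun e => (e : V → V)) DFunLike.coe_injective
  infer_instance

/-- **the middle step**: `S Q u w ∈ π⁻¹ A` for all `u, w` fixed by `z` -/
theorem mid_step [Finite F] [FiniteDimensional F V] (h2 : (2 : F) ≠ 0) (hQ : Nondeg Q)
    (hN : 11 ≤ Module.finrank F V) [IsSimpleGroup T] (hna : ∃ a b : T, a * b ≠ b * a) {A : Subgroup T}
    {Γ : Subgroup (MulAut T)} (h : IF A Γ) (pi : ↥(E Q) →* T) (hpi : Function.Surjective pi) (hk : KerScalar pi)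
    (hcl : ∀ z : ↥(E Q), Fund Q z →
      (centralizer ({z} : Set ↥(E Q))).index ≤ Nat.card F ^ (4 * (Module.finrank F V - 4) + 1))
    (hphi : ∀ D : Submodule F V, Ns Q D → Module.finrank F V ≤ Module.finrank F D + 4 →
      ∀ X : Subgroup ↥(E Q), (∀ z ∈ X, ¬ Fund Q z) →
        Nat.card F ^ (4 * (Module.finrank F V - 4) + 1) ≤ X.relIndex (EB Q D) ^ 5)
    (hmin : ∀ D : Submodule F V, Ns Q D → Module.finrank F V ≤ Module.finrank F D + 4 →
      ∀ H : Subgroup ↥(E (QU Q D)), H ≠ ⊤ → Nat.card F ^ (Module.finrank F V - 6) ≤ H.index)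
    {z : ↥(E Q)} (hz : Fund Q z) (hzA : z ∈ A.comap pi) :
    ∀ u w : V, Q u = 0 → polar Q u w = 0 → ap z u = u → ap z w = w → S Q u w ∈ A.comap pi := by
  have hfin := finite_E Q
  have hz' := hz
  obtain ⟨e₁, f₁, e₂, f₂, hF, a1, a2, a3, a4, a5⟩ := hz
  obtain ⟨p1, p2, p3, p4, p5, p6, p7, p8, p9, p10, p11, p12, p13, p14, p15, p16⟩ := hF.pols
  set D := P4 Q e₁ f₁ e₂ f₂ with hDdef
  have hD : Ns Q D := ns_P4 hQ hF
  have hfr : Module.finrank F V ≤ Module.finrank F D + 4 := finrank_P4 e₁ f₁ e₂ f₂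
  have hfixD : ∀ u ∈ D, ap z u = u := by
    intro u hu
    obtain ⟨m1, m2, m3, m4⟩ := mem_P4.1 hu
    exact a5 u m1 m2 m3 m4
  have horth : ∀ x y : V, ap z x = -x → ap z y = y → polar Q x y = 0 := by
    intro x y hx hy
    have h1 := polar_ap z x y
    rw [hx, hy, polar_neg_left] at h1
    have h3 : (2 : F) * polar Q x y = 0 := by linear_combination -h1
    exact (mul_eq_zero.1 h3).resolve_left h2
  have hmemD : ∀ u : V, ap z u = u → u ∈ D := fun u hu =>
    mem_P4.2 ⟨horth _ _ a1 hu, horth _ _ a2 hu, horth _ _ a3 hu, horth _ _ a4 hu⟩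
  have he0 : e₁ ≠ 0 := hF.h1.left_ne
  -- `π z` is an involution
  have hD0 : D ≠ ⊥ := by
    intro h0
    rw [h0, finrank_bot] at hfr
    omega
  obtain ⟨x0, hx0, hx00⟩ := (Submodule.ne_bot_iff _).1 hD0
  have hz1 : pi z ≠ 1 := by
    intro h1
    obtain ⟨c, hc⟩ := hk z h1
    have k1 : ap z x0 = c • x0 := hc x0
    have k2 : ap z e₁ = c • e₁ := hc e₁
    rw [hfixD x0 hx0] at k1
    have k3 : (c - 1) • x0 = 0 := by rw [sub_smul, ← k1, one_smul, sub_self]
    have k4 : c = 1 := sub_eq_zero.1 ((smul_eq_zero.1 k3).resolve_right hx00)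
    rw [a1, k4, one_smul] at k2
    have k5 : (2 : F) • e₁ = 0 := by rw [two_smul]; nth_rewrite 1 [← k2]; exact neg_add_cancel e₁
    exact he0 ((smul_eq_zero.1 k5).resolve_left h2)
  have hoz : orderOf (pi z) = 2 := orderOf_pi hz'.sq hz1
  have hcomm := EB_comm (Q := Q) hfixD
  -- a fundamental involution in `E(D) ∩ X`
  obtain ⟨s, hsX, hsB, hsF⟩ : ∃ s ∈ A.comap pi, s ∈ EB Q D ∧ Fund Q s := by
    by_contra hcon
    push Not at hcon
    have h3 := hphi D hD hfr (A.comap pi ⊓ EB Q D) (fun s hs => hcon s hs.1 hs.2)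
    rw [inf_relIndex_right] at h3
    have h4 := Cfsg.Agent.H847.IF.lift_E2 h hna pi hpi (t := z) hzA hz1 (by rw [hz'.sq, map_one]) (B := EB Q D)
      (fun b hb => by rw [hcomm b hb])
    exact absurd (lt_of_le_of_lt h3 h4) (not_lt.2 (hcl z hz'))
  obtain ⟨e₁', f₁', e₂', f₂', hF', b1, b2, b3, b4, b5⟩ := hsF
  have hsF : Fund Q s := ⟨e₁', f₁', e₂', f₂', hF', b1, b2, b3, b4, b5⟩
  -- `s` fixes the quadruple of `z`
  have hsfix : ∀ x : V, (∀ u ∈ D, polar Q u x = 0) → ap s x = x := fun x hx => EB_fix hx s hsB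
  have hin : ∀ x : V, ap s x = -x → x ∈ D := by
    intro x hx
    have k : ∀ y : V, (∀ u ∈ D, polar Q u y = 0) → polar Q y x = 0 := by
      intro y hy
      have h1 := polar_ap s y x
      rw [hsfix y hy, hx, polar_neg_right] at h1
      have h3 : (2 : F) * polar Q y x = 0 := by linear_combination -h1
      exact (mul_eq_zero.1 h3).resolve_left h2
    refine mem_P4.2 ⟨k _ fun u hu => ?_, k _ fun u hu => ?_, k _ fun u hu => ?_, k _ fun u hu => ?_⟩
    · rw [polar_comm]; exact (mem_P4.1 hu).1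
    · rw [polar_comm]; exact (mem_P4.1 hu).2.1
    · rw [polar_comm]; exact (mem_P4.1 hu).2.2.1
    · rw [polar_comm]; exact (mem_P4.1 hu).2.2.2
  obtain ⟨v, w, htri⟩ := exists_tri h2 hF' b1 b2 b3 b4 b5 hD (hin _ b1) (hin _ b2) (hin _ b3) (hin _ b4) (by omega)
  have hc0 : polar Q (v 0) (ap s (v 0)) ≠ 0 := by rw [htri.sv 0]; exact htri.c 0
  have hs1 : pi s ≠ 1 := pi_ne_one hk (htri.q 0) hc0
  have hos : orderOf (pi s) = 2 := orderOf_pi hsF.sq hs1
  have hsz : pi s ≠ pi z := pi_ne hk (htri.q 0) hc0 (hfixD _ (htri.mem 0))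
  have hszc : pi s * pi z = pi z * pi s := by rw [← map_mul, ← map_mul, hcomm s hsB]
  obtain ⟨-, -, h5, -⟩ := Cfsg.Agent.H809.IFC.IF.E4 h hna hsX hzA hos hoz hsz hszc
  have h6 : Nat.card F ^ 9 ≤ (centralizer ({pi s} : Set T)).relIndex (centralizer ({pi z} : Set T)) :=
    (card_D Q D v w (by omega)).trans (htri.count hk hfixD)
  have h7 : (centralizer ({pi s} : Set T)).index ≤ Nat.card F ^ (4 * (Module.finrank F V - 4) + 1) := by
    refine le_trans ?_ (hcl s hsF)
    rw [← index_comap_of_surjective _ hpi]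
    refine Nat.le_of_dvd (Nat.pos_of_ne_zero index_ne_zero_of_finite) (index_dvd_of_le ?_)
    intro x hx
    rw [mem_centralizer_singleton_iff] at hx
    rw [mem_comap, mem_centralizer_singleton_iff, ← map_mul, hx, map_mul]
  have hq0 : 0 < Nat.card F := Nat.card_pos
  -- the arithmetic
  have h8 : fx A (MulAut.conj (pi z)) ^ 4 * Nat.card F ^ 9 < (Nat.card F ^ (Module.finrank F V - 6)) ^ 4 * Nat.card F ^ 9 := by
    calc fx A (MulAut.conj (pi z)) ^ 4 * Nat.card F ^ 9
        ≤ fx A (MulAut.conj (pi z)) ^ 4 * (centralizer ({pi s} : Set T)).relIndex (centralizer ({pi z} : Set T)) :=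
          Nat.mul_le_mul_left _ h6
      _ < _ := h5
      _ ≤ _ := h7
      _ = _ := by
        rw [← pow_mul, ← pow_add]
        congr 1
        omega
  have h9 : fx A (MulAut.conj (pi z)) < Nat.card F ^ (Module.finrank F V - 6) :=
    lt_of_pow_lt_pow_left₀ 4 (Nat.zero_le _) (lt_of_mul_lt_mul_right h8 (Nat.zero_le _))
  -- `E(D)` acts on the fixed points of `z`
  have h10 : (A.comap pi).relIndex (EB Q D) < Nat.card F ^ (Module.finrank F V - 6) := by
    refine lt_of_le_of_lt ?_ h9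
    rw [relIndex_comap]
    refine (Cfsg.Agent.H999.IFB.IF.E1 h ((h.conj _).2 hzA) (by
      rw [Cfsg.Agent.H999.IFB.orderOf_conj hna, hoz]) ?_).1
    rintro _ ⟨b, hb, rfl⟩
    rw [MulAut.conj_apply, ← map_mul, hcomm b hb, map_mul, mul_inv_cancel_right]
  have h11 : EB Q D ≤ A.comap pi :=
    EB_le_of (isCompl_P4 hF) orth_P4 (hmin D hD hfr) h10
  intro u w hu huw hzu hzw
  exact h11 (Subgroup.subset_closure ⟨u, hmemD u hzu, w, hmemD w hzw, hu, huw, rfl⟩)

end mid

end Cfsg.Agent.H276.IF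

private theorem dce_c9e200f6c698 : _root_.True := by
  try have : _root_.True := by simp only [_root_.Cfsg.Agent.H276.IF.EB.eq_1]
  try have : _root_.True := by simp only [_root_.Cfsg.Agent.H276.IF.gg.eq_1]
  exact _root_.True.intro
end

-- part: H276/IF/Kill
section
set_option linter.all false
open scoped Cfsg.Agent.FastGrp

/-!
# S5719, orthogonal groups, `q` odd, dimension at least 11: no counterexample with |A| even (helper276)
-/

set_option autoImplicit false
set_option maxHeartbeats 400000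
set_option linter.unusedSectionVars false

namespace Cfsg.Agent.H276.IF

open QuadraticMap Cfsg.Agent.LieClassical Cfsg.Agent.LieClassical.OrthCore Cfsg.Agent.LieClassical.OrthTrans
  Cfsg.Agent.LieClassical.OrthSimple Cfsg.Agent.AutOrth.SemiSim Cfsg.Agent.AutOrth.Gen
  Cfsg.Agent.H989.Gs.Gen Cfsg.Agent.H989.Fx
open Cfsg.Agent.UGT.U2.FOne.Orth (Four)
open Subgroup Cfsg.Agent.H209.Fxy Cfsg.Agent.H112.Row2.OrthExt

variable {F V T : Type*} [Field F] [AddCommGroup V] [Module F V] {Q : QuadraticForm F V}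

/-- the class of a fundamental involution -/
theorem class_fund [Finite F] [FiniteDimensional F V] (h2 : (2 : F) ≠ 0) (hQ : Nondeg Q)
    (hN : 8 ≤ Module.finrank F V) {z : ↥(E Q)} (hz : Fund Q z) :
    (centralizer ({z} : Set ↥(E Q))).index ≤ Nat.card F ^ (4 * (Module.finrank F V - 4) + 1) := by
  have hzz := hz.sq
  obtain ⟨e₁, f₁, e₂, f₂, hF, a1, a2, a3, a4, a5⟩ := hz
  have hc := isCompl_P4 hF
  have hneg : ∀ a ∈ Submodule.span F {e₁, f₁, e₂, f₂}, ap z a = -a := by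
    intro a ha
    induction ha using Submodule.span_induction with
    | mem x hx =>
      rcases hx with rfl | rfl | rfl | rfl
      exacts [a1, a2, a3, a4]
    | zero => rw [neg_zero]; exact map_zero _
    | add x y _ _ hx hy => rw [ap_add, hx, hy, neg_add]
    | smul c x _ hx => rw [ap_smul, hx, smul_neg]
  have hVm : ∀ v, v ∈ Submodule.span F {e₁, f₁, e₂, f₂} ↔ ap z v = -v := by
    intro v
    refine ⟨hneg v, fun hv => ?_⟩
    have h1 : v ∈ P4 Q e₁ f₁ e₂ f₂ ⊔ Submodule.span F {e₁, f₁, e₂, f₂} := by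
      rw [hc.sup_eq_top]; exact Submodule.mem_top
    obtain ⟨d, hd, a, ha, rfl⟩ := Submodule.mem_sup.1 h1
    obtain ⟨m1, m2, m3, m4⟩ := mem_P4.1 hd
    rw [ap_add, hneg a ha, a5 d m1 m2 m3 m4, neg_add] at hv
    have h3 : d = -d := add_right_cancel hv
    have h4 : (2 : F) • d = 0 := by rw [two_smul]; nth_rewrite 2 [h3]; exact add_neg_cancel d
    rw [(smul_eq_zero.1 h4).resolve_left h2, zero_add]
    exact ha
  have h1 := Cfsg.Agent.H237.IF.class_sq_one h2 hQ z hzz _ hVm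
  refine h1.trans (Nat.pow_le_pow_right Nat.card_pos ?_)
  have h3 := Submodule.finrank_add_eq_of_isCompl hc
  have h4 := finrank_P4 (Q := Q) e₁ f₁ e₂ f₂
  have h5 : Module.finrank F (Submodule.span F {e₁, f₁, e₂, f₂}) ≤ 4 := by omega
  generalize Module.finrank F (Submodule.span F {e₁, f₁, e₂, f₂}) = k at h5 ⊢
  interval_cases k <;> omega

open Cfsg.Agent.H786.IF (psi) in
theorem psi_ge : ∀ n : ℕ, 7 ≤ n → 4 * n + 1 ≤ 5 * psi n := by
  intro n
  induction n using Nat.strong_induction_on with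
  | _ n ih =>
    intro hn
    match n, ih, hn with
    | 7, _, _ => decide
    | 8, _, _ => decide
    | (m + 9), ih, _ =>
      have h1 := ih (m + 7) (by omega) (by omega)
      have h2 : psi (m + 9) = m + 5 + psi (m + 7) := rfl
      omega

theorem phi_EB [Finite F] [FiniteDimensional F V] (h2 : (2 : F) ≠ 0) (hN : 11 ≤ Module.finrank F V)
    (D : Submodule F V) (hD : Ns Q D) (hfr : Module.finrank F V ≤ Module.finrank F D + 4) (X : Subgroup ↥(E Q))
    (hX : ∀ z ∈ X, ¬ Fund Q z) :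
    Nat.card F ^ (4 * (Module.finrank F V - 4) + 1) ≤ X.relIndex (EB Q D) ^ 5 := by
  have hfin := finite_E Q
  have h1 := Cfsg.Agent.H786.IF.phi h2 (Module.finrank F D) (EB Q D) D hD rfl (by
    intro g hg
    induction hg using Subgroup.closure_induction with
    | mem g hg =>
      obtain ⟨u, hu, w, hw, hQu, hp, rfl⟩ := hg
      intro x hx
      rw [S_ap hQu hp]
      exact D.sub_mem (D.sub_mem (D.add_mem hx (D.smul_mem _ hw)) (D.smul_mem _ hu)) (D.smul_mem _ hu)
    | one => intro x hx; exact hx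
    | mul a b _ _ ha hb => intro x hx; rw [ap_mul]; exact ha _ (hb _ hx)
    | inv a _ ha =>
      intro x hx
      -- `a` maps `D` onto `D`
      have hsurj : Function.Surjective (fun y : D => (⟨ap a y, ha y y.2⟩ : D)) := by
        have hfD : Finite D := Module.finite_of_finite F
        apply Finite.surjective_of_injective
        intro y y' hyy
        have h3 : ap a y = ap a y' := congrArg Subtype.val hyy
        have h4 := congrArg (ap a⁻¹) h3
        rw [ap_inv_ap, ap_inv_ap] at h4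
        exact Subtype.ext h4
      obtain ⟨y, hy⟩ := hsurj ⟨x, hx⟩
      have h3 : ap a y = x := congrArg Subtype.val hy
      rw [ap_inv_of h3]
      exact y.2)
    (fun u hu w hw hQu hp => Subgroup.subset_closure ⟨u, hu, w, hw, hQu, hp, rfl⟩) 1
    (fun Y _ => Nat.one_le_iff_ne_zero.2 index_ne_zero_of_finite) X hX
  rw [mul_one] at h1
  refine le_trans ?_ (Nat.pow_le_pow_left h1 5)
  rw [← pow_mul]
  apply Nat.pow_le_pow_right Nat.card_pos
  have h3 := psi_ge (Module.finrank F D) (by omega)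
  omega

/-- the kill, from the use of PHI (`huse`) and the minimal index theorem (`hmin`) -/
theorem kill_of [Finite F] [FiniteDimensional F V] (h2 : (2 : F) ≠ 0) (hQ : Nondeg Q)
    (hN : 11 ≤ Module.finrank F V) [Group T] [Finite T] [IsSimpleGroup T] (hna : ∃ a b : T, a * b ≠ b * a)
    {A : Subgroup T} {Γ : Subgroup (MulAut T)} (h : IF A Γ) (pi : ↥(E Q) →* T) (hpi : Function.Surjective pi)
    (hk : KerScalar pi) (huse : ∃ z : ↥(E Q), Fund Q z ∧ pi z ∈ A)
    (hmin : ∀ D : Submodule F V, Ns Q D → 7 ≤ Module.finrank F D → ∀ H : Subgroup ↥(E (QU Q D)), H ≠ ⊤ →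
      Nat.card F ^ (Module.finrank F D - 2) ≤ H.index) : False := by
  obtain ⟨z, hz, hzA⟩ := huse
  have h1 : A.comap pi = ⊤ := by
    refine Cfsg.Agent.H198.IF.end_game hQ hN (A.comap pi) z hz hzA ?_
    intro z hz hzA
    refine mid_step h2 hQ hN hna h pi hpi hk (fun z hz => class_fund h2 hQ (by omega) hz)
      (fun D hD hfr X hX => phi_EB h2 hN D hD hfr X hX) (fun D hD hfr H hH => ?_) hz hzA
    refine le_trans (Nat.pow_le_pow_right Nat.card_pos (by omega)) (hmin D hD (by omega) H hH)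
  apply h.ne_top
  rw [← map_comap_eq_self_of_surjective hpi A, h1, ← MonoidHom.range_eq_map]
  exact MonoidHom.range_eq_top.2 hpi

end Cfsg.Agent.H276.IF
end

-- part: H829/IF/Final
section
prune_inst 0x7f010204900440002000000001080000000780004020040040024a10902004860688902a040088000135802000000000020124c00000000000000000000000004011000100001400008820088000000000000000000000000000000000000000000200000000
set_option linter.all false
open scoped Cfsg.Agent.FastGrp

-- part: H908/IFE/Equiv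
section
/-!
# The even-dimensional orthogonal groups in characteristic two: transfer

`equiv_plus`, `equiv_minus`: for the explicit quadratic forms `plusForm m F`, `minusForm (m - 1) F a b` in characteristic
two the group `E Q` generated by the Siegel transformations is isomorphic to `POmega`; the form has type `±`, and a proper
subgroup of `E Q` has index at least `q ^ (2 m - 2) + q ^ (2 m - 3) + q ^ (2 m - 4)`.
-/

set_option autoImplicit false
set_option linter.unusedSectionVars false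

namespace Cfsg.Agent.H908.IFE

open QuadraticMap Module Subgroup Cfsg Cfsg.Agent.LieClassical.OrthCore Cfsg.Agent.LieClassical.OrthTrans
  Cfsg.Agent.LieClassical.OrthForms Cfsg.Agent.H122.OrthTy

section general

variable {F V : Type*} [Field F] [AddCommGroup V] [Module F V] {Q : QuadraticForm F V}

theorem center_eq_bot [CharP F 2] (hG : Good Q) : Subgroup.center ↥(E Q) = ⊥ := by
  rw [eq_bot_iff]
  intro z hz
  obtain ⟨c, hc⟩ := Cfsg.Agent.H75.OrthIdx.center_scalar hG hz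
  obtain ⟨x, y, hxy⟩ := hG.exists_hyp
  have h1 : polar Q ((z : V ≃ₗ[F] V) x) ((z : V ≃ₗ[F] V) y) = polar Q x y :=
    polar_map (E_le_O z.2) x y
  rw [hc, hc, polar_smul_left, polar_smul_right, hxy.pair, smul_eq_mul, smul_eq_mul, mul_one] at h1
  have h2 : c = 1 := by
    have e2 : (2 : F) = 0 := CharP.cast_eq_zero F 2
    have e1 : (c - 1) * (c - 1) = 0 := by
      have : (c - 1) * (c - 1) = c * c - 2 * c + 1 := by ring
      rw [this, h1, e2, zero_mul, sub_zero, one_add_one_eq_two, e2]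
    exact sub_eq_zero.1 (mul_self_eq_zero.1 e1)
  rw [Subgroup.mem_bot]
  apply Subtype.ext
  ext v
  rw [hc, h2, one_smul]
  rfl

theorem index_transfer {b : ℕ} {c : ℕ}
    (h : ∀ H : Subgroup (V ≃ₗ[F] V), H ≤ E Q → ¬ E Q ≤ H → b ≤ c * H.relIndex (E Q)) :
    ∀ H : Subgroup ↥(E Q), H ≠ ⊤ → b ≤ c * H.index := by
  intro H hH
  have h2 : (H.map (E Q).subtype).subgroupOf (E Q) = H := by
    rw [Subgroup.subgroupOf, Subgroup.comap_map_eq_self_of_injective (Subgroup.subtype_injective _)]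
  have h3 := h (H.map (E Q).subtype) (by
    rintro _ ⟨x, -, rfl⟩
    exact x.2) (by
    intro hle
    apply hH
    rw [eq_top_iff]
    intro x _
    obtain ⟨y, hy, hyx⟩ := hle x.2
    have : y = x := Subtype.ext hyx
    rw [← this]; exact hy)
  rw [Subgroup.relIndex, h2] at h3
  exact h3

end general

section iso

variable {F ι : Type} [Field F] [Fintype F] [Fintype ι] [DecidableEq ι]

theorem nonempty_equiv [CharP F 2] {Q : QuadraticForm F (ι → F)} (hG : Good Q) :
    Nonempty (↥(E Q) ≃* POmega F ⇑Q) := by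
  have h := center_eq_bot hG
  refine ⟨((Cfsg.Agent.ClassicalGeometry.OrthSemiForms.pomegaEquiv hG).trans ?_).symm⟩
  exact (QuotientGroup.quotientMulEquivOfEq h).trans QuotientGroup.quotientBot

end iso

/-- the arithmetic of the minus type -/
theorem arith {q m : ℕ} (hq : 2 ≤ q) (hm : 4 ≤ m) :
    (q - 1) * (q ^ (2 * m - 2) + q ^ (2 * m - 3) + q ^ (2 * m - 4)) ≤ (q ^ m + 1) * (q ^ (m - 1) - 1) := by
  obtain ⟨k, rfl⟩ : ∃ k, m = k + 4 := ⟨m - 4, by omega⟩
  obtain ⟨r, rfl⟩ : ∃ r, q = r + 2 := ⟨q - 2, by omega⟩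
  set z := (r + 2) ^ (k + 1) with hz
  have hz1 : r + 2 ≤ z := by
    rw [hz]; exact Nat.le_self_pow (by omega) _
  have e1 : (r + 2) ^ (k + 4 - 1) = (r + 2) ^ 2 * z := by
    rw [hz, ← pow_add]; congr 1; omega
  have e2 : (r + 2) ^ (k + 4) = (r + 2) ^ 3 * z := by
    rw [hz, ← pow_add]; congr 1; omega
  have e3 : (r + 2) ^ (2 * (k + 4) - 2) = (r + 2) ^ 4 * (z * z) := by
    rw [hz, ← pow_add, ← pow_add]; congr 1; omega
  have e4 : (r + 2) ^ (2 * (k + 4) - 3) = (r + 2) ^ 3 * (z * z) := by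
    rw [hz, ← pow_add, ← pow_add]; congr 1; omega
  have e5 : (r + 2) ^ (2 * (k + 4) - 4) = (r + 2) ^ 2 * (z * z) := by
    rw [hz, ← pow_add, ← pow_add]; congr 1; omega
  rw [e1, e2, e3, e4, e5]
  have hpos : 1 ≤ (r + 2) ^ 2 * z := Nat.succ_le_of_lt (by (clear * -; positivity))
  have h1 : r + 2 - 1 = r + 1 := by omega
  rw [h1]
  zify [hpos]
  have hz' : (r : ℤ) + 2 ≤ z := by exact_mod_cast hz1
  have hr : (0 : ℤ) ≤ r := by (clear * -; positivity)
  have hz0 : (0 : ℤ) ≤ z := by (clear * -; positivity)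
  have key : ((r : ℤ) + 2) ^ 3 * z * (r + 2) ^ 2 * z - ((r : ℤ) + 2) ^ 2 * (z * z)
      = (r + 1) * ((r + 2) ^ 4 * (z * z) + (r + 2) ^ 3 * (z * z) + (r + 2) ^ 2 * (z * z)) := by ring
  rw [← key]
  have h2 : ((r : ℤ) + 2) ^ 2 * z * (r + 2) ≤ (r + 2) ^ 2 * z * z :=
    mul_le_mul_of_nonneg_left hz' (by (clear * -; positivity))
  have h3 : (1 : ℤ) ≤ (r + 2) ^ 2 * z := by exact_mod_cast hpos
  linarith only [hpos, h2]

theorem arith_plus {q m : ℕ} (hq : 2 ≤ q) (hm : 4 ≤ m) :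
    (q - 1) * (q ^ (2 * m - 2) + q ^ (2 * m - 3) + q ^ (2 * m - 4)) ≤ (q ^ m - 1) * (q ^ (m - 1) + 1) := by
  refine (arith hq hm).trans ?_
  have h1 : q ^ (m - 1) ≤ q ^ m := Nat.pow_le_pow_right (by omega) (by omega)
  have h2 : 1 ≤ q ^ (m - 1) := Nat.one_le_pow _ _ (by omega)
  generalize q ^ (m - 1) = x at *
  generalize q ^ m = y at *
  obtain ⟨x', rfl⟩ : ∃ x', x = x' + 1 := ⟨x - 1, by omega⟩
  obtain ⟨y', rfl⟩ : ∃ y', y = y' + 1 := ⟨y - 1, by omega⟩
  rw [Nat.add_sub_cancel, Nat.add_sub_cancel]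
  linarith only [h1]

/-- EV8. transfer, plus type -/
theorem equiv_plus {F : Type} [Field F] [Fintype F] [CharP F 2] {m : ℕ} (hm : 4 ≤ m) :
    Good (plusForm m F) ∧ Ty 1 m (plusForm m F) ∧ Nonempty (↥(E (plusForm m F)) ≃* POmega F (quadFormPlus m F)) ∧
    (4 ≤ Fintype.card F → ∀ H : Subgroup ↥(E (plusForm m F)), H ≠ ⊤ →
      Fintype.card F ^ (2 * m - 2) + Fintype.card F ^ (2 * m - 3) + Fintype.card F ^ (2 * m - 4) ≤ H.index) := by
  classical
  have hG := Cfsg.Agent.H75.OrthIdx.good_plusForm (F := F) m hm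
  have hC := Cfsg.Agent.H75.OrthIdx.plus_count (F := F) m hm
  refine ⟨hG, Cfsg.Agent.H122.OrthIso.ty_plus m, ?_, ?_⟩
  · rw [← coe_plusForm]
    exact nonempty_equiv hG
  · intro h4 H hH
    rw [← Nat.card_eq_fintype_card] at h4
    have h1 := index_transfer (fun K hK hne => Cfsg.Agent.H75.OrthIdx.plus_lower hG hC h4 hK hne) H hH
    rw [Nat.card_eq_fintype_card] at h1 h4
    exact Nat.le_of_mul_le_mul_left ((arith_plus (by omega) hm).trans h1) (by omega)

/-- EV8. transfer, minus type -/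
theorem equiv_minus {F : Type} [Field F] [Fintype F] [CharP F 2] {m : ℕ} (hm : 4 ≤ m) (a b : F)
    (hz : ∀ z₁ z₂ : F, z₁ ^ 2 + a * z₁ * z₂ + b * z₂ ^ 2 = 0 → z₁ = 0 ∧ z₂ = 0) :
    Good (minusForm (m - 1) F a b) ∧ Ty (-1) m (minusForm (m - 1) F a b) ∧
    Nonempty (↥(E (minusForm (m - 1) F a b)) ≃* POmega F (quadFormMinus (m - 1) F a b)) ∧
    (4 ≤ Fintype.card F → ∀ H : Subgroup ↥(E (minusForm (m - 1) F a b)), H ≠ ⊤ →
      Fintype.card F ^ (2 * m - 2) + Fintype.card F ^ (2 * m - 3) + Fintype.card F ^ (2 * m - 4) ≤ H.index) := by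
  classical
  have hG := Cfsg.Agent.H76.Num.good_minusForm hz (m - 1) (by omega)
  have hC := Cfsg.Agent.H76.Num.minusCount hz (m - 1) (by omega)
  have hT := Cfsg.Agent.H122.OrthIso.ty_minus a b hz (m - 1)
  rw [Nat.sub_add_cancel (by omega : 1 ≤ m)] at hC hT
  refine ⟨hG, hT, ?_, ?_⟩
  · rw [← coe_minusForm]
    exact nonempty_equiv hG
  · intro h4 H hH
    have h1 := index_transfer (fun K hK hne => Cfsg.Agent.H76.MainFour.lower hG hC hm hK hne) H hH
    rw [Nat.card_eq_fintype_card, Cfsg.Agent.H76.Lower.bd] at h1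
    exact Nat.le_of_mul_le_mul_left ((arith (by omega) hm).trans h1) (by omega)

end Cfsg.Agent.H908.IFE
end

-- part: H829/IF/Cell
section
set_option autoImplicit false
set_option linter.unusedSectionVars false

namespace Cfsg.Agent.H829.IFE

open QuadraticMap Module Subgroup Cfsg Cfsg.Agent.LieClassical.OrthCore Cfsg.Agent.LieClassical.OrthTrans
  Cfsg.Agent.LieClassical.OrthForms Cfsg.Agent.H122.OrthTy Cfsg.Agent.H209.Fxy

theorem charP_two_of_even {F : Type*} [Field F] [Fintype F] (h : Even (Fintype.card F)) : CharP F 2 := by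
  obtain ⟨p, hp⟩ := CharP.exists F
  obtain ⟨n, hpp, hc⟩ := FiniteField.card F p
  have h1 : p = 2 := by
    rw [hc, Nat.even_pow] at h
    exact (hpp.even_iff).1 h.1
  rwa [h1] at hp

/-- The abstract statement. -/
def Abs : Prop := ∀ (F V : Type) [Field F] [Fintype F] [CharP F 2] [AddCommGroup V] [Module F V] [Fintype V]
    (Q : QuadraticForm F V) (_ : Good Q) (l : ℕ) (_ : 4 ≤ l) (_ : finrank F V = 2 * l) [IsSimpleGroup ↥(E Q)]
    (_ : ∃ a b : ↥(E Q), a * b ≠ b * a), KillE ↥(E Q)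

theorem hna_of {F V : Type*} [Field F] [AddCommGroup V] [Module F V] {Q : QuadraticForm F V} (hG : Good Q) :
    ∃ a b : ↥(E Q), a * b ≠ b * a := by
  by_contra hcon
  push Not at hcon
  obtain ⟨g, hg, hg1⟩ := Cfsg.Agent.LieClassical.OrthSimple.good_E_ne_bot hG
  apply hg1
  have h1 : ⁅E Q, E Q⁆ = (⊥ : Subgroup (V ≃ₗ[F] V)) := by
    rw [Subgroup.commutator_eq_bot_iff_le_centralizer]
    intro x hx
    rw [Subgroup.mem_centralizer_iff]
    intro y hy
    exact congrArg Subtype.val (hcon ⟨y, hy⟩ ⟨x, hx⟩)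
  rw [hG.E_perfect] at h1
  rw [h1] at hg
  exact hg

theorem killE_congr {T T' : Type*} [Group T] [Group T'] (e : T ≃* T') (h : KillE T) : KillE T' := by
  intro A Γ hI ⟨t, ht, ho⟩
  refine h _ _ (hI.map e.symm) ⟨e.symm t, ⟨t, ht, rfl⟩, ?_⟩
  rw [← ho]
  exact MulEquiv.orderOf_eq e.symm t

theorem plus_even_of (hA : Abs) (F : Type) [Field F] [Fintype F] (m : ℕ) (hev : Even (Fintype.card F)) (hm : 4 ≤ m)
    (hs : IsSimpleGroup (POmega F (quadFormPlus m F))) : KillE (POmega F (quadFormPlus m F)) := by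
  have := charP_two_of_even hev
  have : Fintype (Fin m ⊕ Fin m → F) := Fintype.ofFinite _
  obtain ⟨hG, -, ⟨e⟩, -⟩ := Cfsg.Agent.H908.IFE.equiv_plus (F := F) hm
  have : IsSimpleGroup ↥(E (plusForm m F)) := (MulEquiv.isSimpleGroup_congr e).2 hs
  refine killE_congr e (hA F _ (plusForm m F) hG m hm ?_ (hna_of hG))
  rw [Module.finrank_fintype_fun_eq_card, Fintype.card_sum, Fintype.card_fin]
  omega

theorem minus_even_of (hA : Abs) (F : Type) [Field F] [Fintype F] (m : ℕ) (a b : F) (hev : Even (Fintype.card F))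
    (hm : 4 ≤ m) (hz : ∀ z₁ z₂ : F, z₁ ^ 2 + a * z₁ * z₂ + b * z₂ ^ 2 = 0 → z₁ = 0 ∧ z₂ = 0)
    (hs : IsSimpleGroup (POmega F (quadFormMinus (m - 1) F a b))) : KillE (POmega F (quadFormMinus (m - 1) F a b)) := by
  have := charP_two_of_even hev
  have : Fintype ((Fin (m - 1) ⊕ Fin (m - 1)) ⊕ Fin 2 → F) := Fintype.ofFinite _
  obtain ⟨hG, -, ⟨e⟩, -⟩ := Cfsg.Agent.H908.IFE.equiv_minus (F := F) hm a b hz
  have : IsSimpleGroup ↥(E (minusForm (m - 1) F a b)) := (MulEquiv.isSimpleGroup_congr e).2 hs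
  refine killE_congr e (hA F _ (minusForm (m - 1) F a b) hG m hm ?_ (hna_of hG))
  rw [Module.finrank_fintype_fun_eq_card, Fintype.card_sum, Fintype.card_sum, Fintype.card_fin, Fintype.card_fin]
  omega

end Cfsg.Agent.H829.IFE
end

-- part: H237/IFE/Class
section
/-!
# S5719, orthogonal groups, `q` even: the class bound (helper237, EV1 of helper829)

`class_bound` : an involution of `E Q` of rank `k` has at most `4 q^(k(m-k))` conjugates.
-/

set_option autoImplicit false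

namespace Cfsg.Agent.H237.IFE

open QuadraticMap Module Subgroup Cfsg.Agent.LieClassical.OrthCore Cfsg.Agent.H989.Gs.Gen
open Cfsg.Agent.H237.IF (index_le_of_inj)

variable {F V : Type*} [Field F] [AddCommGroup V] [Module F V]

/-! ### Numbers -/

theorem four_prod (q : ℕ) (hq : 2 ≤ q) (k : ℕ) (hk : 1 ≤ k) :
    q ^ (k * k) * (q ^ k + 2) ≤ 4 * (q ^ k * ∏ i : Fin k, (q ^ k - q ^ (i : ℕ))) := by
  induction k with
  | zero => omega
  | succ k ih =>
    have e1 : ∏ i : Fin (k + 1), (q ^ (k + 1) - q ^ (i : ℕ)) =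
        (q ^ (k + 1) - 1) * (q ^ k * ∏ i : Fin k, (q ^ k - q ^ (i : ℕ))) := by
      rw [Fin.prod_univ_succ]
      congr 1
      have e2 : ∀ i : Fin k, q ^ (k + 1) - q ^ ((i.succ : Fin (k + 1)) : ℕ) = q * (q ^ k - q ^ (i : ℕ)) := by
        intro i
        rw [Fin.val_succ, pow_succ', pow_succ', Nat.mul_sub]
      rw [Finset.prod_congr rfl fun i _ => e2 i, Finset.prod_mul_distrib, Finset.prod_const, Finset.card_univ,
        Fintype.card_fin]
    rcases Nat.eq_zero_or_pos k with h0 | h0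
    · subst h0
      rw [e1]
      obtain ⟨A, rfl⟩ : ∃ A, q = A + 2 := ⟨q - 2, by omega⟩
      simp only [_root_.zero_add, _root_.mul_one, _root_.pow_one, _root_.Nat.add_one_sub_one, _root_.pow_zero, _root_.Finset.univ_eq_empty, _root_.Finset.prod_empty, _root_.ge_iff_le]
      nlinarith only []
    have ih := ih h0
    rw [e1]
    set P := q ^ k * ∏ i : Fin k, (q ^ k - q ^ (i : ℕ)) with hP
    obtain ⟨A, hA⟩ : ∃ A, q ^ (k + 1) = A + 1 := ⟨q ^ (k + 1) - 1, by
      have : 0 < q ^ (k + 1) := Nat.pow_pos (by omega)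
      omega⟩
    have hA' : q ^ (k + 1) - 1 = A := by omega
    have e3 : q ^ ((k + 1) * (k + 1)) = q ^ (k * k) * q ^ k * q ^ (k + 1) := by
      rw [← pow_add, ← pow_add]; congr 1; ring
    have h1 : 2 ≤ q ^ k := by
      calc 2 ≤ q := hq
        _ = q ^ 1 := (pow_one q).symm
        _ ≤ q ^ k := Nat.pow_le_pow_right (by omega) h0
    have h2 : q ^ k * (q ^ (k + 1) + 2) ≤ A * (q ^ k + 2) := by
      have h3 : q ^ (k + 1) = q * q ^ k := pow_succ' q k
      have h4 : 2 * q ^ k ≤ q ^ (k + 1) := by rw [h3]; exact Nat.mul_le_mul_right _ hq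
      nlinarith only [hA, h1, h4]
    rw [hA', e3]
    calc q ^ (k * k) * q ^ k * q ^ (k + 1) * (q ^ (k + 1) + 2)
        = q ^ (k * k) * q ^ (k + 1) * (q ^ k * (q ^ (k + 1) + 2)) := by ring
      _ ≤ q ^ (k * k) * q ^ (k + 1) * (A * (q ^ k + 2)) := Nat.mul_le_mul_left _ h2
      _ = q ^ (k + 1) * A * (q ^ (k * k) * (q ^ k + 2)) := by ring
      _ ≤ q ^ (k + 1) * A * (4 * P) := Nat.mul_le_mul_left _ ih
      _ = 4 * (q ^ (k + 1) * (A * P)) := by ring

theorem four_prod' (q : ℕ) (hq : 2 ≤ q) (k : ℕ) :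
    q ^ (k * k) ≤ 4 * ∏ i : Fin k, (q ^ k - q ^ (i : ℕ)) := by
  rcases Nat.eq_zero_or_pos k with h0 | h0
  · subst h0; simp only [_root_.MulZeroClass.mul_zero, _root_.pow_zero, _root_.Finset.univ_eq_empty, _root_.Finset.prod_empty, _root_.mul_one, _root_.Nat.one_le_ofNat]
  have h1 := four_prod q hq k h0
  have h2 : q ^ k * q ^ (k * k) ≤ q ^ k * (4 * ∏ i : Fin k, (q ^ k - q ^ (i : ℕ))) := by
    calc q ^ k * q ^ (k * k) ≤ q ^ (k * k) * (q ^ k + 2) := by
          rw [mul_comm]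
          exact Nat.mul_le_mul_left _ (by omega)
      _ ≤ 4 * (q ^ k * ∏ i : Fin k, (q ^ k - q ^ (i : ℕ))) := h1
      _ = _ := by ring
  exact Nat.le_of_mul_le_mul_left h2 (Nat.pow_pos (by omega))

/-! ### Isotropic tuples -/

/-- independent pairwise orthogonal tuples -/
abbrev Iso (Q : QuadraticForm F V) (k : ℕ) : Type _ :=
  {u : Fin k → V // LinearIndependent F u ∧ ∀ i j, i ≠ j → polar Q (u i) (u j) = 0}

variable {Q : QuadraticForm F V}

theorem card_perp [Finite F] [Finite V] (hQ : Nondeg Q) {k : ℕ} {u : Fin k → V} (hu : LinearIndependent F u) :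
    Nat.card {x : V // ∀ i, polar Q (u i) x = 0} = Nat.card F ^ (finrank F V - k) := by
  classical
  have hfd : FiniteDimensional F V := Module.Finite.of_finite
  let φ : V →ₗ[F] (Fin k → F) := LinearMap.pi fun i => Q.polarBilin (u i)
  have hφ : ∀ x i, φ x i = polar Q (u i) x := fun x i => rfl
  have hs : LinearMap.range φ = ⊤ := by
    by_contra hne
    obtain ⟨f, hf0, hf⟩ := Submodule.exists_le_ker_of_lt_top _ (lt_top_iff_ne_top.2 hne)
    apply hf0
    have h1 : ∀ c : Fin k → F, f c = ∑ i, c i * f (Pi.single i 1) := by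
      intro c
      conv_lhs => rw [← Finset.univ_sum_single c]
      rw [map_sum]
      refine Finset.sum_congr rfl fun i _ => ?_
      have : (Pi.single i (c i) : Fin k → F) = c i • Pi.single i 1 := by
        rw [← Pi.single_smul, smul_eq_mul, mul_one]
      rw [this, map_smul, smul_eq_mul]
    have h2 : ∑ i, f (Pi.single i 1) • u i = 0 := by
      apply hQ
      intro y
      have h3 : f (φ y) = 0 := LinearMap.mem_ker.1 (hf ⟨y, rfl⟩)
      rw [h1] at h3
      have h4 : polar Q (∑ i, f (Pi.single i 1) • u i) y = ∑ i, f (Pi.single i 1) * polar Q (u i) y := by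
        have h5 : polar Q (∑ i, f (Pi.single i 1) • u i) y = Q.polarBilin (∑ i, f (Pi.single i 1) • u i) y := rfl
        rw [h5, map_sum, LinearMap.sum_apply]
        refine Finset.sum_congr rfl fun i _ => ?_
        rw [map_smul, LinearMap.smul_apply, smul_eq_mul]
        rfl
      rw [h4, ← h3]
      exact Finset.sum_congr rfl fun i _ => by rw [hφ, mul_comm]
    have h3 := Fintype.linearIndependent_iff.1 hu (fun i => f (Pi.single i 1)) h2
    apply LinearMap.ext
    intro c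
    rw [h1]
    simp only [h3, _root_.MulZeroClass.mul_zero, _root_.Finset.sum_const_zero, _root_.LinearMap.zero_apply]
  have h1 := LinearMap.finrank_range_add_finrank_ker φ
  rw [hs, finrank_top, Module.finrank_fin_fun] at h1
  have h2 : Nat.card {x : V // ∀ i, polar Q (u i) x = 0} = Nat.card (LinearMap.ker φ) := by
    refine Nat.card_congr (Equiv.subtypeEquivRight fun x => ?_)
    rw [LinearMap.mem_ker]
    constructor
    · intro h; funext i; exact h i
    · intro h i; rw [← hφ, h]; rfl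
  rw [h2, Module.natCard_eq_pow_finrank (K := F)]
  congr 1
  omega

theorem card_Iso [Finite F] [Finite V] (hQ : Nondeg Q) (k : ℕ) :
    Nat.card (Iso Q k) ≤ Nat.card F ^ (∑ j ∈ Finset.range k, (finrank F V - j)) := by
  classical
  induction k with
  | zero =>
    rw [Finset.range_zero, Finset.sum_empty, pow_zero]
    have : Subsingleton (Iso Q 0) := ⟨fun a b => Subtype.ext (funext fun i => i.elim0)⟩
    exact Finite.card_le_one_iff_subsingleton.2 this
  | succ k ih =>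
    have hfi : Finite (Iso Q k) := Subtype.finite
    have hfi2 : Fintype (Iso Q k) := Fintype.ofFinite _
    have h1 : Nat.card (Iso Q (k + 1)) ≤ Nat.card (Σ u : Iso Q k, {x : V // ∀ i, polar Q (u.1 i) x = 0}) := by
      refine Nat.card_le_card_of_injective (fun u => ⟨⟨fun i => u.1 i.castSucc, ?_, ?_⟩, ⟨u.1 (Fin.last k), ?_⟩⟩) ?_
      · exact u.2.1.comp _ (Fin.castSucc_injective k)
      · intro i j hij
        exact u.2.2 _ _ fun h => hij (Fin.castSucc_injective k h)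
      · intro i
        exact u.2.2 _ _ (Fin.castSucc_lt_last i).ne
      · intro u u' h
        rw [Sigma.mk.injEq] at h
        obtain ⟨h1, h2⟩ := h
        have h3 : ∀ i : Fin k, u.1 i.castSucc = u'.1 i.castSucc := fun i => congrFun (congrArg Subtype.val h1) i
        have h4 : u.1 (Fin.last k) = u'.1 (Fin.last k) := by
          have e : (fun i : Fin k => u.1 i.castSucc) = fun i => u'.1 i.castSucc := funext h3
          have key : ∀ (a b : Iso Q k) (x : {x : V // ∀ i, polar Q (a.1 i) x = 0})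
              (y : {x : V // ∀ i, polar Q (b.1 i) x = 0}), a = b → HEq x y → (x : V) = y := by
            rintro a b x y rfl hxy
            rw [eq_of_heq hxy]
          exact key _ _ _ _ h1 h2
        apply Subtype.ext
        funext i
        refine Fin.lastCases ?_ (fun i => ?_) i
        · exact h4
        · exact h3 i
    rw [Nat.card_sigma] at h1
    have h2 : ∑ u : Iso Q k, Nat.card {x : V // ∀ i, polar Q (u.1 i) x = 0} =
        Nat.card (Iso Q k) * Nat.card F ^ (finrank F V - k) := by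
      rw [Finset.sum_congr rfl fun u _ => card_perp hQ u.2.1, Finset.sum_const, Finset.card_univ, smul_eq_mul,
        Nat.card_eq_fintype_card (α := Iso Q k)]
    rw [h2] at h1
    rw [Finset.sum_range_succ, pow_add]
    exact h1.trans (Nat.mul_le_mul_right _ ih)

/-! ### Square zero maps -/

/-- the maps `t - 1`, `t` an involution of rank `k` -/
abbrev TT (Q : QuadraticForm F V) (k : ℕ) : Type _ :=
  {N : V →ₗ[F] V // (∀ v w, polar Q (N v) w = polar Q v (N w)) ∧ (∀ v, N (N v) = 0) ∧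
    (∀ v, polar Q v (N v) = Q (N v)) ∧ finrank F (LinearMap.range N) = k}

/-- a basis of the range and the Gram matrix determine the map -/
theorem eq_of_gram (hQ : Nondeg Q) {N N' : V →ₗ[F] V}
    (h1 : ∀ v w, polar Q (N v) w = polar Q v (N w)) (h1' : ∀ v w, polar Q (N' v) w = polar Q v (N' w))
    (hr : LinearMap.range N = LinearMap.range N') {k : ℕ} {u v v' : Fin k → V}
    (hu : Submodule.span F (Set.range u) = LinearMap.range N) (hv : ∀ i, N (v i) = u i) (hv' : ∀ i, N' (v' i) = u i)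
    (hG : ∀ i j, polar Q (v i) (u j) = polar Q (v' i) (u j)) : N = N' := by
  have hmem : ∀ x ∈ LinearMap.range N, (∀ j, polar Q x (v j) = 0) → x = 0 := by
    rintro _ ⟨y, rfl⟩ h
    apply hQ
    intro w
    rw [h1, polar_comm]
    have h2 : N w ∈ Submodule.span F (Set.range u) := by rw [hu]; exact ⟨w, rfl⟩
    refine Submodule.span_induction (p := fun z _ => polar Q z y = 0) ?_ ?_ ?_ ?_ h2
    · rintro _ ⟨j, rfl⟩
      rw [← hv j, polar_comm, ← h1]
      exact h j
    · exact polar_zero_left Q y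
    · intro a b _ _ ha hb
      rw [polar_add_left, ha, hb, add_zero]
    · intro c a _ ha
      rw [polar_smul_left, ha, smul_zero]
  have hcomm : ∀ z ∈ LinearMap.range N, ∀ j, polar Q z (v j) = polar Q z (v' j) := by
    intro z hz j
    rw [← hu] at hz
    refine Submodule.span_induction (p := fun z _ => polar Q z (v j) = polar Q z (v' j)) ?_ ?_ ?_ ?_ hz
    · rintro _ ⟨i, rfl⟩
      rw [polar_comm Q (u i), polar_comm Q (u i)]
      exact hG j i
    · rw [polar_zero_left, polar_zero_left]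
    · intro a b _ _ ha hb
      rw [polar_add_left, polar_add_left, ha, hb]
    · intro c a _ ha
      rw [polar_smul_left, polar_smul_left, ha]
  apply LinearMap.ext
  intro x
  rw [← sub_eq_zero]
  apply hmem
  · exact Submodule.sub_mem _ ⟨x, rfl⟩ (by rw [hr]; exact ⟨x, rfl⟩)
  · intro j
    rw [polar_sub_left, hcomm (N' x) (by rw [hr]; exact ⟨x, rfl⟩) j, h1, h1', hv, hv', sub_self]

theorem card_TT [Finite F] [Finite V] (hQ : Nondeg Q) (k : ℕ) (hk : k ≤ finrank F V) :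
    Nat.card (TT Q k) * ∏ i : Fin k, (Nat.card F ^ k - Nat.card F ^ (i : ℕ)) ≤ Nat.card F ^ (k * finrank F V) := by
  classical
  have hfd : FiniteDimensional F V := Module.Finite.of_finite
  have hF : Fintype F := Fintype.ofFinite F
  have hfV : Finite (V →ₗ[F] V) := Finite.of_injective (fun f : V →ₗ[F] V => (f : V → V)) DFunLike.coe_injective
  have hft : Finite (TT Q k) := Subtype.finite
  have hft2 : Fintype (TT Q k) := Fintype.ofFinite _
  have hfi : Finite (Iso Q k) := Subtype.finite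
  set q := Nat.card F with hq
  have hfr : ∀ N : TT Q k, Nat.card {s : Fin k → LinearMap.range N.1 // LinearIndependent F s} =
      ∏ i : Fin k, (q ^ k - q ^ (i : ℕ)) := by
    intro N
    have h1 := card_linearIndependent (K := F) (V := LinearMap.range N.1) (k := k) (le_of_eq N.2.2.2.2.symm)
    rw [h1, N.2.2.2.2, hq, Nat.card_eq_fintype_card]
  have e1 : Nat.card (Σ N : TT Q k, {s : Fin k → LinearMap.range N.1 // LinearIndependent F s}) =
      Nat.card (TT Q k) * ∏ i : Fin k, (q ^ k - q ^ (i : ℕ)) := by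
    rw [Nat.card_sigma, Finset.sum_congr rfl fun N _ => hfr N, Finset.sum_const, Finset.card_univ, smul_eq_mul,
      Nat.card_eq_fintype_card]
  rw [← e1]
  -- preimages
  have hpre : ∀ a : (Σ N : TT Q k, {s : Fin k → LinearMap.range N.1 // LinearIndependent F s}),
      ∃ v : Fin k → V, ∀ i, a.1.1 (v i) = (a.2.1 i : V) := by
    intro a
    choose v hv using fun i => (a.2.1 i).2
    exact ⟨v, hv⟩
  choose pv hpv using hpre
  have e2 : Nat.card (Iso Q k × ((Σ j : Fin k, Fin j) → F)) ≤ q ^ (k * finrank F V) := by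
    rw [Nat.card_prod, Nat.card_fun, Nat.card_eq_fintype_card (α := (Σ j : Fin k, Fin j)), Fintype.card_sigma]
    simp only [Fintype.card_fin]
    rw [Fin.sum_univ_eq_sum_range (fun j => j) k, ← hq]
    refine (Nat.mul_le_mul_right _ (card_Iso hQ k)).trans ?_
    rw [← pow_add, ← Finset.sum_add_distrib]
    refine le_of_eq ?_
    congr 1
    rw [Finset.sum_congr rfl (g := fun _ => finrank F V) fun j hj => by
      rw [Finset.mem_range] at hj; omega, Finset.sum_const, Finset.card_range, smul_eq_mul]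
  refine le_trans ?_ e2
  have hfp : Finite (Iso Q k × ((Σ j : Fin k, Fin j) → F)) := inferInstance
  have hperp : ∀ (a : (Σ N : TT Q k, {s : Fin k → LinearMap.range N.1 // LinearIndependent F s})) i j,
      polar Q (a.2.1 i : V) (a.2.1 j : V) = 0 := by
    intro a i j
    rw [← hpv a i, ← hpv a j, a.1.2.1, a.1.2.2.1, polar_zero_right]
  refine Nat.card_le_card_of_injective (fun a => (⟨fun i => (a.2.1 i : V), ?_, fun i j _ => hperp a i j⟩,
    fun p => polar Q (pv a p.1) (a.2.1 ⟨p.2, p.2.2.trans p.1.2⟩ : V))) ?_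
  · exact (a.2.2.map' _ (Submodule.ker_subtype _) :)
  · intro a b hab
    rw [Prod.mk.injEq] at hab
    obtain ⟨h1, h2⟩ := hab
    have hu : ∀ i, (a.2.1 i : V) = (b.2.1 i : V) := fun i => congrFun (congrArg Subtype.val h1) i
    have hspan : ∀ (a : (Σ N : TT Q k, {s : Fin k → LinearMap.range N.1 // LinearIndependent F s})),
        Submodule.span F (Set.range fun i => (a.2.1 i : V)) = LinearMap.range a.1.1 := by
      intro a
      have h2 : Submodule.span F (Set.range a.2.1) = ⊤ :=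
        a.2.2.span_eq_top_of_card_eq_finrank' (by rw [Fintype.card_fin, a.1.2.2.2.2])
      have h3 : Set.range (fun i => (a.2.1 i : V)) = (LinearMap.range a.1.1).subtype '' Set.range a.2.1 := by
        rw [← Set.range_comp]; rfl
      rw [h3, Submodule.span_image, h2, Submodule.map_top, Submodule.range_subtype]
    have hr : LinearMap.range a.1.1 = LinearMap.range b.1.1 := by
      rw [← hspan a, ← hspan b]
      congr 2
      exact funext hu
    have hsym : ∀ (a : (Σ N : TT Q k, {s : Fin k → LinearMap.range N.1 // LinearIndependent F s})) i j,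
        polar Q (pv a i) (a.2.1 j : V) = polar Q (pv a j) (a.2.1 i : V) := by
      intro a i j
      rw [← hpv a j, ← a.1.2.1, hpv a i, polar_comm]
    have hdiag : ∀ (a : (Σ N : TT Q k, {s : Fin k → LinearMap.range N.1 // LinearIndependent F s})) i,
        polar Q (pv a i) (a.2.1 i : V) = Q (a.2.1 i : V) := by
      intro a i
      rw [← hpv a i]
      exact a.1.2.2.2.1 _
    have hlt : ∀ i j : Fin k, j < i → polar Q (pv a i) (a.2.1 j : V) = polar Q (pv b i) (b.2.1 j : V) := by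
      intro i j hij
      exact congrFun h2 ⟨i, ⟨j, hij⟩⟩
    have hG : ∀ i j, polar Q (pv a i) (a.2.1 j : V) = polar Q (pv b i) (b.2.1 j : V) := by
      intro i j
      rcases lt_trichotomy i j with h | h | h
      · rw [hsym a, hsym b]
        exact hlt j i h
      · subst h
        rw [hdiag, hdiag, hu]
      · exact hlt i j h
    have hN : a.1.1 = b.1.1 := by
      refine eq_of_gram hQ a.1.2.1 b.1.2.1 hr (hspan a) (hpv a) (v' := pv b) (fun i => ?_) (fun i j => ?_)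
      · rw [hpv b, hu]
      · rw [hG, hu]
    obtain ⟨N, s⟩ := a
    obtain ⟨N', s'⟩ := b
    have hN2 : N = N' := Subtype.ext hN
    subst hN2
    congr 1
    apply Subtype.ext
    funext i
    apply Subtype.ext
    exact hu i

/-- **EV1**, with the constant four -/
theorem class_bound4 [Finite F] [CharP F 2] [Finite V]
    (hQ : Nondeg Q) {m k : ℕ} (hm : finrank F V = m) {t : ↥(E Q)}
    (ht : ∀ v, (t : V ≃ₗ[F] V) ((t : V ≃ₗ[F] V) v) = v)
    (hk : finrank F (LinearMap.range ((t : V ≃ₗ[F] V).toLinearMap - LinearMap.id)) = k) :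
    (centralizer ({t} : Set ↥(E Q))).index ≤ 4 * Nat.card F ^ (k * (m - k)) := by
  have hfd : FiniteDimensional F V := Module.Finite.of_finite
  have hfV : Finite (V →ₗ[F] V) := Finite.of_injective (fun f : V →ₗ[F] V => (f : V → V)) DFunLike.coe_injective
  have hft : Finite (TT Q k) := Subtype.finite
  have h2 : (2 : F) = 0 := by exact_mod_cast CharP.cast_eq_zero F 2
  have hss : ∀ g : ↥(E Q), ∀ v, ap (g * t * g⁻¹) (ap (g * t * g⁻¹) v) = v := by
    intro g v
    simp only [ap_mul]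
    rw [ap_inv_ap]
    have : ap t (ap t (ap g⁻¹ v)) = ap g⁻¹ v := ht _
    rw [this, ap_ap_inv]
  have hpol : ∀ (g : ↥(E Q)) x y, polar Q (ap g x) (ap g y) = polar Q x y := fun g x y => polar_map (E_le_O g.2) x y
  have hself : ∀ v, polar Q v v = 0 := fun v => by
    rw [polar_self, two_smul, ← two_mul, h2, zero_mul]
  have hneg : ∀ a : F, -a = a := fun a => by linear_combination (-a) * h2
  have hnegV : ∀ v : V, -v = v := fun v => by
    have : (2 : F) • v = 0 := by rw [h2, zero_smul]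
    rw [two_smul] at this
    exact (eq_neg_of_add_eq_zero_left this).symm
  have hkm : k ≤ finrank F V := by
    rw [← hk]
    exact Submodule.finrank_le _
  have h1 : (centralizer ({t} : Set ↥(E Q))).index ≤ Nat.card (TT Q k) := by
    refine index_le_of_inj t (fun g => ⟨((g * t * g⁻¹ : ↥(E Q)) : V ≃ₗ[F] V).toLinearMap - LinearMap.id, ?_, ?_, ?_, ?_⟩) ?_
    · intro v w
      show polar Q (ap (g * t * g⁻¹) v - v) w = polar Q v (ap (g * t * g⁻¹) w - w)
      rw [polar_sub_left, polar_sub_right]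
      congr 1
      have := hpol (g * t * g⁻¹) (ap (g * t * g⁻¹) v) w
      rw [hss] at this
      exact this.symm
    · intro v
      show ap (g * t * g⁻¹) (ap (g * t * g⁻¹) v - v) - (ap (g * t * g⁻¹) v - v) = 0
      rw [ap_sub, hss]
      have h3 : v - ap (g * t * g⁻¹) v = -(ap (g * t * g⁻¹) v - v) := by abel
      rw [h3, hnegV, sub_self]
    · intro v
      show polar Q v (ap (g * t * g⁻¹) v - v) = Q (ap (g * t * g⁻¹) v - v)
      have h3 : Q (ap (g * t * g⁻¹) v - v) = Q (ap (g * t * g⁻¹) v) + Q v - polar Q (ap (g * t * g⁻¹) v) v := by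
        rw [sub_eq_add_neg, QuadraticMap.map_add (⇑Q), QuadraticMap.map_neg, polar_neg_right, sub_eq_add_neg]
      rw [h3, Q_ap, polar_sub_right, hself, polar_comm Q (ap (g * t * g⁻¹) v) v]
      linear_combination (polar Q v (ap (g * t * g⁻¹) v) - Q v) * h2
    · have h3 : LinearMap.range (((g * t * g⁻¹ : ↥(E Q)) : V ≃ₗ[F] V).toLinearMap - LinearMap.id) =
          (LinearMap.range ((t : V ≃ₗ[F] V).toLinearMap - LinearMap.id)).map ((g : V ≃ₗ[F] V) : V →ₗ[F] V) := by
        ext x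
        rw [Submodule.mem_map]
        constructor
        · rintro ⟨y, rfl⟩
          refine ⟨ap t (ap g⁻¹ y) - ap g⁻¹ y, ⟨ap g⁻¹ y, rfl⟩, ?_⟩
          show ap g (ap t (ap g⁻¹ y) - ap g⁻¹ y) = ap (g * t * g⁻¹) y - y
          rw [ap_sub, ap_ap_inv, ap_mul, ap_mul]
        · rintro ⟨_, ⟨y, rfl⟩, rfl⟩
          refine ⟨ap g y, ?_⟩
          show ap (g * t * g⁻¹) (ap g y) - ap g y = ap g (ap t y - y)
          rw [ap_sub, ap_mul, ap_mul, ap_inv_ap]
      rw [h3, LinearEquiv.finrank_map_eq, hk]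
    · intro g h hgh
      have h3 := congrArg Subtype.val hgh
      apply Subtype.ext
      apply LinearEquiv.toLinearMap_injective
      exact sub_left_injective h3
  have h3 := card_TT hQ k hkm
  have hq2 : 2 ≤ Nat.card F := by
    have := Fintype.ofFinite F
    rw [Nat.card_eq_fintype_card]
    exact Fintype.one_lt_card
  have h4 := four_prod' (Nat.card F) hq2 k
  set q := Nat.card F with hq
  set P := ∏ i : Fin k, (q ^ k - q ^ (i : ℕ)) with hP
  set I := (centralizer ({t} : Set ↥(E Q))).index with hI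
  have h5 : q ^ (k * k) * I ≤ q ^ (k * k) * (4 * q ^ (k * (m - k))) := by
    calc q ^ (k * k) * I ≤ 4 * P * Nat.card (TT Q k) := Nat.mul_le_mul h4 h1
      _ = 4 * (Nat.card (TT Q k) * P) := by ring
      _ ≤ 4 * q ^ (k * finrank F V) := Nat.mul_le_mul_left _ h3
      _ = q ^ (k * k) * (4 * q ^ (k * (m - k))) := by
        rw [← hm]
        obtain ⟨d, hd⟩ := Nat.exists_eq_add_of_le hkm
        rw [hd, Nat.add_sub_cancel_left, mul_add, pow_add]
        ring
  exact Nat.le_of_mul_le_mul_left h5 (Nat.pow_pos (by omega))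

/-- **EV1** -/
theorem class_bound {F V : Type*} [Field F] [Fintype F] [CharP F 2] [AddCommGroup V] [Module F V] [Fintype V]
    {Q : QuadraticForm F V} (hQ : Nondeg Q) {m k : ℕ} (hm : finrank F V = m) {t : ↥(E Q)}
    (ht : ∀ v, (t : V ≃ₗ[F] V) ((t : V ≃ₗ[F] V) v) = v)
    (hk : finrank F (LinearMap.range ((t : V ≃ₗ[F] V).toLinearMap - LinearMap.id)) = k) :
    (centralizer ({t} : Set ↥(E Q))).index ≤ 8 * Fintype.card F ^ (k * (m - k)) := by
  have h := class_bound4 hQ hm ht hk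
  rw [Nat.card_eq_fintype_card] at h
  exact h.trans (Nat.mul_le_mul_right _ (by norm_num))

end Cfsg.Agent.H237.IFE
end

-- part: H545/Fx/SgE
section
/-!
# S5719, orthogonal groups, `q` even: the group of a totally singular line (helper545)

The frame: `T = E Q`, `Q` nondegenerate, characteristic two.
`sp` : the unipotent radical `Qg e y` of the stabiliser of the singular line `⟨e, y⟩` is special with centre the long root
group `Zg e y`.
-/

set_option autoImplicit false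
set_option linter.unusedSectionVars false

namespace Cfsg.Agent.H545.Fx

open QuadraticMap Cfsg.Agent.LieClassical.OrthCore Cfsg.Agent.H989.Gs.Gen

variable {F V : Type*} [Field F] [AddCommGroup V] [Module F V] {Q : QuadraticForm F V}

theorem ap_ne_zero (g : ↥(E Q)) {v : V} (hv : v ≠ 0) : ap g v ≠ 0 := by
  intro h0
  apply hv
  rw [← ap_inv_ap g v, h0]
  exact map_zero (g⁻¹ : V ≃ₗ[F] V)

/-! ### dual vectors -/

theorem exists_dual (hQ : Nondeg Q) {e y : V} (hind : ∀ a b : F, a • e + b • y = 0 → a = 0 ∧ b = 0) (a b : F) :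
    ∃ v, polar Q e v = a ∧ polar Q y v = b := by
  have hs : Function.Surjective ((polarBilin Q e).prod (polarBilin Q y)) := by
    rw [← LinearMap.range_eq_top]
    by_contra hne
    obtain ⟨φ, hφ, hle⟩ := Submodule.exists_le_ker_of_lt_top _ (lt_top_iff_ne_top.2 hne)
    have h1 : ∀ v, φ (polar Q e v, polar Q y v) = 0 := fun v => hle ⟨v, rfl⟩
    have h2 : ∀ s t : F, φ (s, t) = s * φ (1, 0) + t * φ (0, 1) := by
      intro s t
      have : (s, t) = s • ((1 : F), (0 : F)) + t • ((0 : F), (1 : F)) := by simp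
      rw [this, map_add, map_smul, map_smul, smul_eq_mul, smul_eq_mul]
    have h3 : φ (1, 0) • e + φ (0, 1) • y = 0 := by
      apply hQ
      intro v
      rw [polar_add_left, polar_smul_left, polar_smul_left, smul_eq_mul, smul_eq_mul]
      have := h1 v
      rw [h2] at this
      linear_combination this
    obtain ⟨h4, h5⟩ := hind _ _ h3
    apply hφ
    apply LinearMap.ext
    rintro ⟨s, t⟩
    rw [h2, h4, h5]
    simp
  obtain ⟨v, hv⟩ := hs (a, b)
  exact ⟨v, congrArg Prod.fst hv, congrArg Prod.snd hv⟩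

/-- a singular line `⟨e, y⟩` -/
structure Ln (Q : QuadraticForm F V) (e y : V) : Prop where
  qe : Q e = 0
  qy : Q y = 0
  ey : polar Q e y = 0
  ind : ∀ a b : F, a • e + b • y = 0 → a = 0 ∧ b = 0

theorem Ln.symm {e y : V} (h : Ln Q e y) : Ln Q y e := by
  refine ⟨h.qy, h.qe, by rw [polar_comm, h.ey], fun a b hab => ?_⟩
  rw [add_comm] at hab
  exact (h.ind _ _ hab).symm

theorem Ln.map {e y : V} (h : Ln Q e y) (g : ↥(E Q)) : Ln Q (ap g e) (ap g y) := by
  refine ⟨by rw [Q_ap, h.qe], by rw [Q_ap, h.qy], by rw [polar_ap, h.ey], fun a b hab => ?_⟩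
  rw [← ap_smul, ← ap_smul, ← ap_add] at hab
  apply h.ind
  by_contra hne
  exact ap_ne_zero g hne hab

theorem Ln.pc {e y : V} (h : Ln Q e y) (c : F) : polar Q e (c • y) = 0 := by
  rw [polar_smul_right, h.ey, smul_zero]

theorem Ln.qc {e y : V} (h : Ln Q e y) (c : F) : Q (c • y) = 0 := by
  rw [QuadraticMap.map_smul, h.qy, smul_zero]

/-- `(E^⊥)^⊥ = E` -/
theorem mem_line (hQ : Nondeg Q) {e y : V} (hl : Ln Q e y) {u : V}
    (hu : ∀ v, polar Q e v = 0 → polar Q y v = 0 → polar Q u v = 0) : ∃ a b : F, u = a • e + b • y := by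
  obtain ⟨e1, h1, h2⟩ := exists_dual hQ hl.ind 1 0
  obtain ⟨y1, h3, h4⟩ := exists_dual hQ hl.ind 0 1
  refine ⟨polar Q u e1, polar Q u y1, ?_⟩
  rw [← sub_eq_zero]
  apply hQ
  intro v
  have h5 := hu (v - polar Q e v • e1 - polar Q y v • y1) (by
    simp only [polar_sub_right, polar_smul_right, h1, h3, smul_eq_mul]; ring) (by
    simp only [polar_sub_right, polar_smul_right, h2, h4, smul_eq_mul]; ring)
  simp only [polar_sub_right, polar_smul_right, smul_eq_mul] at h5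
  simp only [polar_sub_left, polar_add_left, polar_smul_left, smul_eq_mul]
  linear_combination h5

/-! ### The group of a line -/

/-- the unipotent radical -/
def Qg (Q : QuadraticForm F V) (e y : V) : Subgroup ↥(E Q) where
  carrier := {g | ap g e = e ∧ ap g y = y ∧
    ∀ v, polar Q e v = 0 → polar Q y v = 0 → ∃ a b : F, ap g v = v + (a • e + b • y)}
  one_mem' := ⟨ap_one _, ap_one _, fun v _ _ => ⟨0, 0, by rw [ap_one]; simp⟩⟩
  mul_mem' := by
    rintro g g' ⟨h1, h2, h3⟩ ⟨h1', h2', h3'⟩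
    refine ⟨by rw [ap_mul, h1', h1], by rw [ap_mul, h2', h2], fun v hv hv' => ?_⟩
    obtain ⟨a, b, hab⟩ := h3 v hv hv'
    obtain ⟨a', b', hab'⟩ := h3' v hv hv'
    refine ⟨a + a', b + b', ?_⟩
    rw [ap_mul, hab', ap_add, ap_add, ap_smul, ap_smul, h1, h2, hab]
    module
  inv_mem' := by
    rintro g ⟨h1, h2, h3⟩
    have i1 : ap g⁻¹ e = e := ap_inv_of h1
    have i2 : ap g⁻¹ y = y := ap_inv_of h2
    refine ⟨i1, i2, fun v hv hv' => ?_⟩
    obtain ⟨a, b, hab⟩ := h3 v hv hv'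
    refine ⟨-a, -b, ?_⟩
    have h4 := congrArg (ap g⁻¹) hab
    rw [ap_inv_ap, ap_add, ap_add, ap_smul, ap_smul, i1, i2] at h4
    have h5 : ap g⁻¹ v = v - (a • e + b • y) := eq_sub_of_add_eq h4.symm
    rw [h5]
    module

theorem mem_Qg {e y : V} {g : ↥(E Q)} : g ∈ Qg Q e y ↔ ap g e = e ∧ ap g y = y ∧
    ∀ v, polar Q e v = 0 → polar Q y v = 0 → ∃ a b : F, ap g v = v + (a • e + b • y) := Iff.rfl

/-- the long root group -/
noncomputable def Zg {e y : V} (hl : Ln Q e y) : Subgroup ↥(E Q) where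
  carrier := {g | ∃ c : F, g = S Q e (c • y)}
  one_mem' := ⟨0, by rw [zero_smul, S_zero]⟩
  mul_mem' := by
    rintro g g' ⟨c, hc⟩ ⟨c', hc'⟩
    exact ⟨c + c', by rw [hc, hc', ← S_add hl.qe (hl.pc _) (hl.pc _), add_smul]⟩
  inv_mem' := by
    rintro g ⟨c, hc⟩
    exact ⟨-c, by rw [hc, S_inv hl.qe (hl.pc _), neg_smul]⟩

/-- the action of a long root element -/
theorem S_line {e y : V} (hl : Ln Q e y) (c : F) (v : V) :
    ap (S Q e (c • y)) v = v + (c * polar Q e v) • y - (c * polar Q y v) • e := by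
  rw [S_ap' hl.qe (hl.pc c) (hl.qc c), polar_smul_left, smul_eq_mul]
  module

/-- `S y (c e) = S e (-c y)` -/
theorem S_swap' {e y : V} (hl : Ln Q e y) (c : F) : S Q y (c • e) = S Q e ((-c) • y) := by
  apply ext_ap
  intro v
  rw [S_line hl.symm, S_line hl]
  module

theorem polar_self0 (h2 : (2 : F) = 0) (v : V) : polar Q v v = 0 := by rw [polar_self', h2, zero_mul]

theorem S_mem_Qg (h2 : (2 : F) = 0) {e y : V} (hl : Ln Q e y) {w : V} (hw : polar Q e w = 0) (hw' : polar Q y w = 0) :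
    S Q e w ∈ Qg Q e y := by
  have h1 : polar Q w e = 0 := by rw [polar_comm, hw]
  have h3 : polar Q w y = 0 := by rw [polar_comm, hw']
  refine ⟨?_, ?_, fun v hv hv' => ⟨-polar Q w v, 0, ?_⟩⟩
  · rw [S_ap hl.qe hw, polar_self0 h2, h1]
    simp
  · rw [S_ap hl.qe hw, hl.ey, h3]
    simp
  · rw [S_ap hl.qe hw, hv]
    module

theorem Qg_symm {e y : V} : Qg Q e y = Qg Q y e := by
  ext g
  rw [mem_Qg, mem_Qg]
  constructor
  · rintro ⟨h1, h2, h3⟩
    exact ⟨h2, h1, fun v hv hv' => by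
      obtain ⟨a, b, hab⟩ := h3 v hv' hv
      exact ⟨b, a, by rw [hab, add_comm (a • e)]⟩⟩
  · rintro ⟨h1, h2, h3⟩
    exact ⟨h2, h1, fun v hv hv' => by
      obtain ⟨a, b, hab⟩ := h3 v hv' hv
      exact ⟨b, a, by rw [hab, add_comm (a • y)]⟩⟩

theorem Zg_le (h2 : (2 : F) = 0) {e y : V} (hl : Ln Q e y) : Zg hl ≤ Qg Q e y := by
  rintro g ⟨c, rfl⟩
  exact S_mem_Qg h2 hl (hl.pc c) (by rw [polar_smul_right, polar_self0 h2, smul_zero])

/-- an isometry trivial on `E^⊥` is a long root element -/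
theorem mem_Zg_of_triv (hQ : Nondeg Q) {e y : V} (hl : Ln Q e y) {g : ↥(E Q)}
    (hg : ∀ v, polar Q e v = 0 → polar Q y v = 0 → ap g v = v) : g ∈ Zg hl := by
  obtain ⟨e1, h1, h2⟩ := exists_dual hQ hl.ind 1 0
  obtain ⟨y1, h3, h4⟩ := exists_dual hQ hl.ind 0 1
  have key : ∀ u, ∃ a b : F, ap g u = u + (a • e + b • y) := by
    intro u
    obtain ⟨a, b, hab⟩ := mem_line hQ hl (u := ap g u - u) (fun v hv hv' => by
      have h5 := polar_ap g u v
      rw [hg v hv hv'] at h5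
      rw [polar_sub_left, h5, sub_self])
    exact ⟨a, b, by rw [← hab]; abel⟩
  obtain ⟨a1, b1, hab1⟩ := key e1
  obtain ⟨a2, b2, hab2⟩ := key y1
  have hdec : ∀ v, ap g v = v + (polar Q e v • (a1 • e + b1 • y) + polar Q y v • (a2 • e + b2 • y)) := by
    intro v
    have h5 := hg (v - polar Q e v • e1 - polar Q y v • y1) (by
      simp only [polar_sub_right, polar_smul_right, h1, h3, smul_eq_mul]; ring) (by
      simp only [polar_sub_right, polar_smul_right, h2, h4, smul_eq_mul]; ring)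
    rw [ap_sub, ap_sub, ap_smul, ap_smul, hab1, hab2] at h5
    have h6 : ap g v = v - polar Q e v • e1 - polar Q y v • y1 + polar Q y v • (y1 + (a2 • e + b2 • y)) +
        polar Q e v • (e1 + (a1 • e + b1 • y)) := by
      rw [← h5]; abel
    rw [h6]
    module
  have hQ' : ∀ v, polar Q e v * (a1 * polar Q e v + b1 * polar Q y v) +
      polar Q y v * (a2 * polar Q e v + b2 * polar Q y v) = 0 := by
    intro v
    have h5 := Q_ap g v
    rw [hdec v, Q_add] at h5
    have h6 : Q (polar Q e v • (a1 • e + b1 • y) + polar Q y v • (a2 • e + b2 • y)) = 0 := by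
      have : polar Q e v • (a1 • e + b1 • y) + polar Q y v • (a2 • e + b2 • y) =
          (polar Q e v * a1 + polar Q y v * a2) • e + (polar Q e v * b1 + polar Q y v * b2) • y := by module
      rw [this, Q_add, QuadraticMap.map_smul, QuadraticMap.map_smul, hl.qe, hl.qy, polar_smul_left, polar_smul_right,
        hl.ey]
      simp only [_root_.smul_eq_mul, _root_.MulZeroClass.mul_zero, _root_.add_zero]
    have hve : polar Q v e = polar Q e v := polar_comm _ _ _
    have hvy : polar Q v y = polar Q y v := polar_comm _ _ _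
    rw [h6] at h5
    simp only [polar_add_right, polar_smul_right, smul_eq_mul, hve, hvy] at h5
    linear_combination h5
  have q1 := hQ' e1
  have q2 := hQ' y1
  have q3 := hQ' (e1 + y1)
  rw [polar_add_right, polar_add_right, h1, h2, h3, h4] at q3
  rw [h1, h2] at q1
  rw [h3, h4] at q2
  have r1 : a1 = 0 := by linear_combination q1
  have r2 : b2 = 0 := by linear_combination q2
  have r3 : a2 = -b1 := by linear_combination q3 - q1 - q2
  refine ⟨b1, ext_ap fun v => ?_⟩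
  rw [hdec v, S_line hl, r1, r2, r3]
  module

/-- `Qg` is special -/
theorem sp (h2 : (2 : F) = 0) (hQ : Nondeg Q) {e y : V} (hl : Ln Q e y) :
    H255.IFK.Sp (Zg hl) (Zg hl) (Qg Q e y) := by
  refine ⟨le_rfl, Zg_le h2 hl, ?_, ?_, ?_⟩
  · rintro w ⟨c, rfl⟩ g ⟨h1, h2, h3⟩
    exact S_comm h1 (by rw [ap_smul, h2])
  · rintro g ⟨h1, h2', h3⟩ g' ⟨h1', h2'', h3'⟩
    apply mem_Zg_of_triv hQ hl
    intro v hv hv'
    have hinv : ∀ u, polar Q e u = 0 → polar Q y u = 0 → ap (g * g') u = ap (g' * g) u := by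
      intro u hu hu'
      obtain ⟨a, b, hab⟩ := h3 u hu hu'
      obtain ⟨a', b', hab'⟩ := h3' u hu hu'
      rw [ap_mul, ap_mul, hab, hab', ap_add, ap_add, ap_add, ap_add, ap_smul, ap_smul,
        ap_smul, ap_smul, h1, h2', h1', h2'', hab, hab']
      module
    have hmem : (g' * g)⁻¹ ∈ Qg Q e y := inv_mem (mul_mem ⟨h1', h2'', h3'⟩ ⟨h1, h2', h3⟩)
    obtain ⟨m1, m2, m3⟩ := hmem
    obtain ⟨a, b, hab⟩ := m3 v hv hv'
    have hB1 : polar Q e (ap (g' * g)⁻¹ v) = 0 := by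
      simp only [hab, polar_add_right, polar_smul_right, polar_self0 h2, hl.ey, hv, smul_zero, add_zero]
    have hB2 : polar Q y (ap (g' * g)⁻¹ v) = 0 := by
      simp only [hab, polar_add_right, polar_smul_right, polar_self0 h2, hl.symm.ey, hv', smul_zero, add_zero]
    have h5 := hinv _ hB1 hB2
    have h6 : g * g' * g⁻¹ * g'⁻¹ = (g * g') * (g' * g)⁻¹ := by group
    rw [h6, ap_mul, h5, ap_ap_inv]
  · rintro g hg hgZ z ⟨c, rfl⟩
    obtain ⟨h1, h2', h3⟩ := hg
    have : ∃ w, polar Q e w = 0 ∧ polar Q y w = 0 ∧ ap g w ≠ w := by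
      by_contra hcon
      push Not at hcon
      exact hgZ (mem_Zg_of_triv hQ hl hcon)
    obtain ⟨w, hw, hw', hne⟩ := this
    obtain ⟨a, b, hab⟩ := h3 w hw hw'
    by_cases hb : b = 0
    · -- use `S y`
      have ha : a ≠ 0 := by
        rintro rfl
        apply hne
        rw [hab, hb]
        module
      have hyw : polar Q y ((-c * a⁻¹) • w) = 0 := by rw [polar_smul_right, hw', smul_zero]
      have hew : polar Q e ((-c * a⁻¹) • w) = 0 := by rw [polar_smul_right, hw, smul_zero]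
      have hye : polar Q y ((-c) • e) = 0 := hl.symm.pc _
      refine ⟨S Q y ((-c * a⁻¹) • w), by
        rw [Qg_symm]
        exact S_mem_Qg h2 hl.symm hyw hew, ?_⟩
      have e1 : ap g ((-c * a⁻¹) • w) = (-c) • e + (-c * a⁻¹) • w := by
        rw [ap_smul, hab, hb, smul_add, smul_add, smul_smul, smul_smul, mul_zero, zero_smul, add_zero, mul_assoc,
          inv_mul_cancel₀ ha, mul_one, add_comm]
      rw [S_conj, h2', e1, S_add hl.qy hye hyw, mul_inv_cancel_right, S_swap' hl, neg_neg]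
    · have hew : polar Q e ((c * b⁻¹) • w) = 0 := by rw [polar_smul_right, hw, smul_zero]
      have hyw : polar Q y ((c * b⁻¹) • w) = 0 := by rw [polar_smul_right, hw', smul_zero]
      refine ⟨S Q e ((c * b⁻¹) • w), S_mem_Qg h2 hl hew hyw, ?_⟩
      have e1 : ap g ((c * b⁻¹) • w) = (c • y + (c * b⁻¹ * a) • e) + (c * b⁻¹) • w := by
        rw [ap_smul, hab, smul_add, smul_add, smul_smul, smul_smul, mul_assoc c b⁻¹ b, inv_mul_cancel₀ hb, mul_one]
        abel
      have hee : polar Q e ((c * b⁻¹ * a) • e) = 0 := by rw [polar_smul_right, polar_self0 h2, smul_zero]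
      rw [S_conj, h1, e1, S_add hl.qe (by rw [polar_add_right, hl.pc, hee, add_zero]) hew, mul_inv_cancel_right,
        S_add hl.qe (hl.pc c) hee, S_self_smul _ hl.qe, mul_one]

end Cfsg.Agent.H545.Fx
end

-- part: H545/Fx/EndE
section
/-!
# S5719, orthogonal groups, `q` even: orders (helper545)

`card_Qg`, `card_Zg`, `index_le`.
-/

set_option autoImplicit false
set_option linter.unusedSectionVars false
set_option linter.unusedSimpArgs false

namespace Cfsg.Agent.H545.Fx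

open QuadraticMap Cfsg.Agent.LieClassical.OrthCore Cfsg.Agent.H989.Gs.Gen Module

variable {F V : Type*} [Field F] [AddCommGroup V] [Module F V] {Q : QuadraticForm F V}

/-- the four conditions -/
noncomputable def Wd (Q : QuadraticForm F V) (e y e1 y1 : V) : Submodule F V :=
  LinearMap.ker (((polarBilin Q e).prod (polarBilin Q y)).prod ((polarBilin Q e1).prod (polarBilin Q y1)))

theorem mem_Wd {e y e1 y1 w : V} : w ∈ Wd Q e y e1 y1 ↔
    (polar Q e w = 0 ∧ polar Q y w = 0) ∧ polar Q e1 w = 0 ∧ polar Q y1 w = 0 := by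
  rw [Wd, LinearMap.mem_ker]
  simp only [Prod.ext_iff, _root_.LinearMap.prod_apply, _root_.Function.prod_apply, _root_.QuadraticMap.polarBilin_apply_apply, _root_.Prod.ext_iff, _root_.Prod.fst_zero, _root_.Prod.snd_zero]

variable [FiniteDimensional F V] [Finite F]

omit [FiniteDimensional F V] [Finite F] in
theorem finite_E [Finite V] : Finite ↥(E Q) := by
  have : Finite (V ≃ₗ[F] V) := Finite.of_injective (fun g : V ≃ₗ[F] V => (g : V → V)) DFunLike.coe_injective
  infer_instance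

theorem card_Wd (e y e1 y1 : V) :
    Nat.card F ^ (finrank F V - 4) ≤ Nat.card (Wd Q e y e1 y1) := by
  have := Fintype.ofFinite F
  rw [Module.natCard_eq_pow_finrank (K := F) (V := ↥(Wd Q e y e1 y1))]
  apply Nat.pow_le_pow_right Nat.card_pos
  have h1 := LinearMap.finrank_range_add_finrank_ker
    (((polarBilin Q e).prod (polarBilin Q y)).prod ((polarBilin Q e1).prod (polarBilin Q y1)))
  have h2 : finrank F (LinearMap.range (((polarBilin Q e).prod (polarBilin Q y)).prod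
      ((polarBilin Q e1).prod (polarBilin Q y1)))) ≤ 4 := by
    refine (Submodule.finrank_le _).trans ?_
    rw [finrank_prod, finrank_prod, finrank_self]
  unfold Wd
  omega

/-- the order of `Qg` -/
theorem card_Qg (h2 : (2 : F) = 0) (hQ : Nondeg Q) {e y : V} (hl : Ln Q e y) (hN : 4 ≤ finrank F V) :
    Nat.card F ^ (2 * finrank F V - 7) ≤ Nat.card (Qg Q e y) := by
  have hVf : Finite V := Module.finite_of_finite F
  obtain ⟨e1, h1, h3⟩ := exists_dual hQ hl.ind 1 0
  obtain ⟨y1, h4, h5⟩ := exists_dual hQ hl.ind 0 1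
  have hw1 : ∀ w : Wd Q e y e1 y1, polar Q e w = 0 := fun w => (mem_Wd.1 w.2).1.1
  have hw2 : ∀ w : Wd Q e y e1 y1, polar Q y w = 0 := fun w => (mem_Wd.1 w.2).1.2
  have hw3 : ∀ w : Wd Q e y e1 y1, polar Q w e1 = 0 := fun w => by rw [polar_comm]; exact (mem_Wd.1 w.2).2.1
  have hw4 : ∀ w : Wd Q e y e1 y1, polar Q w y1 = 0 := fun w => by rw [polar_comm]; exact (mem_Wd.1 w.2).2.2
  have hw1' : ∀ w : Wd Q e y e1 y1, polar Q w e = 0 := fun w => by rw [polar_comm]; exact hw1 w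
  have hw2' : ∀ w : Wd Q e y e1 y1, polar Q w y = 0 := fun w => by rw [polar_comm]; exact hw2 w
  have hye : polar Q y e = 0 := hl.symm.ey
  let Φ : (Wd Q e y e1 y1 × Wd Q e y e1 y1) × F → Qg Q e y := fun p =>
    ⟨S Q e p.1.1 * S Q y p.1.2 * S Q e (p.2 • y),
      mul_mem (mul_mem (S_mem_Qg h2 hl (hw1 _) (hw2 _)) (by
        rw [Qg_symm]
        exact S_mem_Qg h2 hl.symm (hw2 _) (hw1 _))) (Zg_le h2 hl ⟨p.2, rfl⟩)⟩
  have a1 : ∀ p, ap (Φ p : ↥(E Q)) e1 = e1 + ((p.1.1 : V) - Q p.1.1 • e + p.2 • y) := by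
    intro p
    show ap (S Q e p.1.1 * S Q y p.1.2 * S Q e (p.2 • y)) e1 = _
    rw [ap_mul, ap_mul, S_line hl, h1, h3, S_ap hl.qy (hw2 _), S_ap hl.qe (hw1 _)]
    simp only [polar_add_right, polar_sub_right, polar_smul_right, polar_smul_left, h1, h3, hw3, hw2', hw1', hw1, hw2,
      polar_self0 h2, hl.ey, hye, smul_eq_mul]
    module
  have a2 : ∀ p, ap (Φ p : ↥(E Q)) y1 =
      y1 + ((p.1.2 : V) - Q p.1.2 • y - (polar Q (p.1.1 : V) (p.1.2 : V) + p.2) • e) := by
    intro p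
    show ap (S Q e p.1.1 * S Q y p.1.2 * S Q e (p.2 • y)) y1 = _
    rw [ap_mul, ap_mul, S_line hl, h4, h5, S_ap hl.qy (hw2 _), S_ap hl.qe (hw1 _)]
    simp only [polar_add_right, polar_sub_right, polar_smul_right, polar_smul_left, h4, h5, hw4, hw2', hw1', hw1, hw2,
      polar_self0 h2, hl.ey, hye, smul_eq_mul]
    module
  have hinj : Function.Injective Φ := by
    rintro ⟨⟨w, w'⟩, c⟩ ⟨⟨u, u'⟩, d⟩ hpq
    have e3 := a1 ⟨⟨w, w'⟩, c⟩
    rw [hpq, a1] at e3
    have e4 := a2 ⟨⟨w, w'⟩, c⟩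
    rw [hpq, a2] at e4
    simp only at e3 e4
    replace e3 := add_left_cancel e3
    replace e4 := add_left_cancel e4
    -- compare
    have b1 := congrArg (fun v => polar Q v e1) e3
    have b2 := congrArg (fun v => polar Q v y1) e3
    simp only [polar_add_left, polar_sub_left, polar_smul_left, hw3, hw4, h1, h3, h4, h5, smul_eq_mul] at b1 b2
    have c1 : Q u = Q w := by linear_combination -b1
    have c2 : d = c := by linear_combination b2
    rw [c1, c2] at e3
    have c3 : (u : V) = w := by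
      have := add_right_cancel e3
      exact sub_left_inj.1 this
    have b3 := congrArg (fun v => polar Q v y1) e4
    have b4 := congrArg (fun v => polar Q v e1) e4
    simp only [polar_add_left, polar_sub_left, polar_smul_left, hw3, hw4, h1, h3, h4, h5, smul_eq_mul] at b3 b4
    have c4 : Q u' = Q w' := by linear_combination -b3
    have c5 : polar Q (u : V) (u' : V) + d = polar Q (w : V) (w' : V) + c := by linear_combination -b4
    rw [c4, c5] at e4
    have c6 : (u' : V) = w' := by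
      have := sub_left_inj.1 e4
      exact sub_left_inj.1 this
    rw [Prod.mk.injEq, Prod.mk.injEq]
    exact ⟨⟨Subtype.ext c3.symm, Subtype.ext c6.symm⟩, c2.symm⟩
  have hfin : Finite ↥(E Q) := finite_E
  have h6 := Nat.card_le_card_of_injective Φ hinj
  rw [Nat.card_prod, Nat.card_prod] at h6
  refine le_trans ?_ h6
  have h7 := card_Wd (Q := Q) e y e1 y1
  have h8 : 2 * finrank F V - 7 = (finrank F V - 4) + (finrank F V - 4) + 1 := by omega
  rw [h8, pow_succ, pow_add]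
  exact Nat.mul_le_mul_right _ (Nat.mul_le_mul h7 h7)

theorem card_Zg (hQ : Nondeg Q) {e y : V} (hl : Ln Q e y) : Nat.card (Zg hl) = Nat.card F := by
  obtain ⟨e1, h1, h2⟩ := exists_dual hQ hl.ind 1 0
  obtain ⟨y1, h3, h4⟩ := exists_dual hQ hl.ind 0 1
  symm
  refine Nat.card_congr (Equiv.ofBijective
    (fun c : F => (⟨S Q e (c • y), ⟨c, rfl⟩⟩ : Zg hl)) ⟨?_, ?_⟩)
  · intro c d hcd
    have e3 := congrArg (fun g : Zg hl => polar Q (ap (g : ↥(E Q)) e1) y1) hcd
    simp only [S_line hl, polar_add_left, polar_sub_left, polar_smul_left, h1, h2, h3, h4, smul_eq_mul] at e3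
    linear_combination e3
  · rintro ⟨g, c, hc⟩
    exact ⟨c, Subtype.ext hc.symm⟩

/-- the class of a long root element -/
theorem index_le (hQ : Nondeg Q) {e x : V} (hl : Ln Q e x) :
    (Subgroup.centralizer ({S Q e x} : Set ↥(E Q))).index ≤ Nat.card F ^ (2 * finrank F V - 1) := by
  classical
  have := Fintype.ofFinite F
  have hVf : Finite V := Module.finite_of_finite F
  have := Fintype.ofFinite V
  have hfin : Finite ↥(E Q) := finite_E
  set t := S Q e x with ht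
  -- the stabiliser of the pair
  let St : Subgroup ↥(E Q) :=
    { carrier := {g | ap g e = e ∧ ap g x = x}
      one_mem' := ⟨ap_one _, ap_one _⟩
      mul_mem' := by
        rintro g g' ⟨h1, h2⟩ ⟨h1', h2'⟩
        exact ⟨by rw [ap_mul, h1', h1], by rw [ap_mul, h2', h2]⟩
      inv_mem' := by
        rintro g ⟨h1, h2⟩
        exact ⟨ap_inv_of h1, ap_inv_of h2⟩ }
  have hSt : St ≤ Subgroup.centralizer ({t} : Set ↥(E Q)) := by
    rintro g ⟨h1, h2⟩
    rw [Subgroup.mem_centralizer_singleton_iff, ht]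
    exact S_comm h1 h2
  refine (Subgroup.index_antitone hSt).trans ?_
  have he0 : e ≠ 0 := by
    rintro rfl
    exact one_ne_zero (hl.ind 1 0 (by simp)).1
  -- the pairs
  let Pr := {p : V × V // p.1 ≠ 0 ∧ polar Q p.1 p.2 = 0}
  let φ : ↥(E Q) ⧸ St → Pr := Quotient.lift
    (fun g : ↥(E Q) => (⟨(ap g e, ap g x), ap_ne_zero _ he0, by
      show polar Q (ap g e) (ap g x) = 0
      rw [polar_ap, hl.ey]⟩ : Pr)) (by
      intro a b hab
      have h2 : a⁻¹ * b ∈ St := QuotientGroup.leftRel_apply.1 hab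
      obtain ⟨h3, h4⟩ := h2
      have h5 : ap a e = ap b e := by
        have := congrArg (ap a) h3
        rw [← ap_mul, mul_inv_cancel_left] at this
        exact this.symm
      have h6 : ap a x = ap b x := by
        have := congrArg (ap a) h4
        rw [← ap_mul, mul_inv_cancel_left] at this
        exact this.symm
      exact Subtype.ext (Prod.ext h5 h6))
  have hφ : Function.Injective φ := by
    intro a b hab
    induction a using QuotientGroup.induction_on with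
    | H a =>
      induction b using QuotientGroup.induction_on with
      | H b =>
        have h5 : ap a e = ap b e := congrArg (fun s : Pr => s.1.1) hab
        have h6 : ap a x = ap b x := congrArg (fun s : Pr => s.1.2) hab
        rw [QuotientGroup.eq]
        refine ⟨?_, ?_⟩
        · rw [ap_mul, ← h5]
          exact ap_inv_ap _ _
        · rw [ap_mul, ← h6]
          exact ap_inv_ap _ _
  have h1 : St.index ≤ Nat.card Pr := Nat.card_le_card_of_injective φ hφ
  refine h1.trans ?_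
  have hker : ∀ u : V, u ≠ 0 → Nat.card {v : V // polar Q u v = 0} ≤ Nat.card F ^ (finrank F V - 1) := by
    intro u hu
    have h0 : Nat.card {v : V // polar Q u v = 0} = Nat.card (LinearMap.ker (polarBilin Q u)) := rfl
    rw [h0, Module.natCard_eq_pow_finrank (K := F)]
    apply Nat.pow_le_pow_right Nat.card_pos
    have h3 := LinearMap.finrank_range_add_finrank_ker (polarBilin Q u)
    have h4 : 0 < finrank F (LinearMap.range (polarBilin Q u)) := by
      rw [Nat.pos_iff_ne_zero]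
      intro h0
      rw [Submodule.finrank_eq_zero, LinearMap.range_eq_bot] at h0
      apply hu
      apply hQ
      intro v
      have := congrArg (fun f => f v) h0
      exact this
    omega
  have hN : 0 < finrank F V := by
    rw [Module.finrank_pos_iff]
    exact ⟨⟨e, 0, he0⟩⟩
  have h2 : Nat.card Pr ≤ Nat.card (Σ u : {u : V // u ≠ 0}, {v : V // polar Q u.1 v = 0}) :=
    Nat.card_le_card_of_injective
      (fun p : Pr => (⟨⟨p.1.1, p.2.1⟩, ⟨p.1.2, p.2.2⟩⟩ : Σ u : {u : V // u ≠ 0}, {v : V // polar Q u.1 v = 0})) (by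
      rintro ⟨⟨u, v⟩, hp⟩ ⟨⟨u', v'⟩, hp'⟩ h
      simp only [Sigma.mk.injEq, Subtype.mk.injEq] at h
      obtain ⟨rfl, h⟩ := h
      have h' := eq_of_heq h
      simp only [Subtype.mk.injEq] at h'
      subst h'
      rfl)
  refine h2.trans ?_
  rw [Nat.card_sigma]
  calc ∑ u : {u : V // u ≠ 0}, Nat.card {v : V // polar Q u.1 v = 0}
      ≤ ∑ _u : {u : V // u ≠ 0}, Nat.card F ^ (finrank F V - 1) := Finset.sum_le_sum fun u _ => hker u.1 u.2
    _ = Fintype.card {u : V // u ≠ 0} * Nat.card F ^ (finrank F V - 1) := by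
        rw [Finset.sum_const, smul_eq_mul, Finset.card_univ]
    _ ≤ Nat.card F ^ finrank F V * Nat.card F ^ (finrank F V - 1) := by
        apply Nat.mul_le_mul_right
        refine (Fintype.card_subtype_le _).trans ?_
        rw [← Nat.card_eq_fintype_card, Module.natCard_eq_pow_finrank (K := F)]
    _ = Nat.card F ^ (2 * finrank F V - 1) := by
        rw [← pow_add]
        congr 1
        omega

end Cfsg.Agent.H545.Fx
end

-- part: H545/Fx/EndM
section
/-!
# S5719, orthogonal groups, `q` even: the end game (helper545)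

`end_game` : in a counterexample, `A` contains no long root element.
-/

set_option autoImplicit false
set_option linter.unusedSectionVars false
set_option linter.unusedSimpArgs false

namespace Cfsg.Agent.H545.Fx

open QuadraticMap Cfsg.Agent.LieClassical.OrthCore Cfsg.Agent.H989.Gs.Gen Module Cfsg.Agent.H209.Fxy

/-- the numerical step -/
theorem num {q N Qc C R W f : ℕ} (hq : 2 ≤ q) (hN : 8 ≤ N) (h0 : q ^ (2 * N - 7) ≤ Qc) (h1 : Qc ≤ C * q)
    (h2 : C ≤ R * f) (h3 : R ^ 2 * q ≤ Qc * W ^ 2) (h4 : 2 * W ≤ q) (h5 : f ^ 5 < q ^ (2 * N - 1)) : False := by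
  have hq0 : 0 < q := by omega
  have hQ0 : 0 < Qc := lt_of_lt_of_le (pow_pos hq0 _) h0
  have a1 : 4 * R ^ 2 ≤ Qc * q := by
    refine Nat.le_of_mul_le_mul_right ?_ hq0
    calc 4 * R ^ 2 * q = 4 * (R ^ 2 * q) := by ring
      _ ≤ 4 * (Qc * W ^ 2) := Nat.mul_le_mul_left _ h3
      _ = Qc * (2 * W) ^ 2 := by ring
      _ ≤ Qc * q ^ 2 := Nat.mul_le_mul_left _ (Nat.pow_le_pow_left h4 2)
      _ = Qc * q * q := by ring
  have a2 : Qc ^ 2 ≤ R ^ 2 * (f ^ 2 * q ^ 2) := by
    calc Qc ^ 2 ≤ (R * f * q) ^ 2 := Nat.pow_le_pow_left (h1.trans (Nat.mul_le_mul_right _ h2)) 2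
      _ = R ^ 2 * (f ^ 2 * q ^ 2) := by ring
  have a3 : 4 * Qc ≤ q ^ 3 * f ^ 2 := by
    refine Nat.le_of_mul_le_mul_left ?_ hQ0
    calc Qc * (4 * Qc) = 4 * Qc ^ 2 := by ring
      _ ≤ 4 * (R ^ 2 * (f ^ 2 * q ^ 2)) := Nat.mul_le_mul_left _ a2
      _ = 4 * R ^ 2 * (f ^ 2 * q ^ 2) := by ring
      _ ≤ Qc * q * (f ^ 2 * q ^ 2) := Nat.mul_le_mul_right _ a1
      _ = Qc * (q ^ 3 * f ^ 2) := by ring
  have a4 : (2 * q ^ (N - 5)) ^ 2 ≤ f ^ 2 := by
    refine Nat.le_of_mul_le_mul_left ?_ (pow_pos hq0 3)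
    calc q ^ 3 * (2 * q ^ (N - 5)) ^ 2 = 4 * q ^ (3 + 2 * (N - 5)) := by
          rw [pow_add q 3, pow_mul' q 2]; ring
      _ = 4 * q ^ (2 * N - 7) := by
          congr 2
          omega
      _ ≤ 4 * Qc := Nat.mul_le_mul_left _ h0
      _ ≤ q ^ 3 * f ^ 2 := a3
  have a5 : 2 * q ^ (N - 5) ≤ f := by
    by_contra hlt
    rw [not_le] at hlt
    exact absurd (Nat.pow_lt_pow_left hlt two_ne_zero) (not_lt.2 a4)
  have a6 : q ^ (2 * N - 1) ≤ f ^ 5 := by
    calc q ^ (2 * N - 1) ≤ q ^ (5 * (N - 5)) := Nat.pow_le_pow_right hq0 (by omega)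
      _ = (q ^ (N - 5)) ^ 5 := by rw [← pow_mul, mul_comm]
      _ ≤ (2 * q ^ (N - 5)) ^ 5 := Nat.pow_le_pow_left (by omega) 5
      _ ≤ f ^ 5 := Nat.pow_le_pow_left a5 5
  omega

variable {F V : Type*} [Field F] [AddCommGroup V] [Module F V] {Q : QuadraticForm F V}
  [FiniteDimensional F V] [Finite F]

theorem S_sq (h2 : (2 : F) = 0) {e x : V} (hl : Ln Q e x) : S Q e x * S Q e x = 1 := by
  rw [← S_add hl.qe hl.ey hl.ey, ← two_smul F, h2, zero_smul, S_zero]

theorem S_ne_one (hQ : Nondeg Q) {e x : V} (hl : Ln Q e x) : S Q e x ≠ 1 := by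
  intro h
  obtain ⟨v, h1, h3⟩ := exists_dual hQ hl.ind 1 0
  have h4 := congrArg (fun g => ap g v) h
  simp only [ap_one] at h4
  rw [S_ap' hl.qe hl.ey hl.qy, h1, h3] at h4
  rw [one_smul, zero_smul, sub_zero] at h4
  have h5 : x = 0 := add_eq_left.1 h4
  exact one_ne_zero (hl.ind 0 1 (by rw [h5]; simp)).2

theorem orderOf_S (h2 : (2 : F) = 0) (hQ : Nondeg Q) {e x : V} (hl : Ln Q e x) : orderOf (S Q e x) = 2 :=
  orderOf_eq_prime (by rw [pow_two]; exact S_sq h2 hl) (S_ne_one hQ hl)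

/-- the step -/
theorem step (h2 : (2 : F) = 0) (hQ : Nondeg Q) (hN : 8 ≤ finrank F V) {A : Subgroup ↥(E Q)} (hA : H255.IFK.Fix A)
    {e x y : V} (hx : Ln Q e x) (hz : S Q e x ∈ A) (hy : Ln Q e y) (hxy : polar Q x y = 0) :
    ∀ c : F, S Q e (c • y) ∈ A := by
  have hVf : Finite V := Module.finite_of_finite F
  have hfin : Finite ↥(E Q) := finite_E
  by_contra hcon
  have hZA : ¬ Zg hy ≤ A := fun h => hcon fun c => h ⟨c, rfl⟩
  obtain ⟨f, h3, h4⟩ := hA _ hz (orderOf_S h2 hQ hx)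
  have hzQ : S Q e x ∈ Qg Q e y := S_mem_Qg h2 hy hx.ey (by rw [polar_comm]; exact hxy)
  set C := Qg Q e y ⊓ Subgroup.centralizer ({S Q e x} : Set ↥(E Q)) with hC
  set R := A ⊓ C with hR
  have hRQ : R ≤ Qg Q e y := inf_le_right.trans inf_le_left
  have hRZ : ¬ Zg hy ≤ R := fun h => hZA (h.trans inf_le_left)
  have b1 := H255.IFK.card_centralizer_ge (sp h2 hQ hy) le_rfl hzQ
  have b2 := H255.IFK.iso (sp h2 hQ hy) hRQ hRZ
  have b3 := H255.IFK.rel_ge (h3 C inf_le_right)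
  rw [card_Zg hQ hy] at b1 b2
  have b4 : 2 * Nat.card (R ⊓ Zg hy : Subgroup ↥(E Q)) ≤ Nat.card F := by
    rw [← card_Zg hQ hy]
    have h5 := H255.IFK.card_mul_rel (inf_le_right : R ⊓ Zg hy ≤ Zg hy)
    have h6 : (R ⊓ Zg hy).relIndex (Zg hy) ≠ 1 := by
      rw [Ne, Subgroup.relIndex_eq_one]
      intro h7
      exact hRZ (h7.trans inf_le_left)
    have h7 : (R ⊓ Zg hy).relIndex (Zg hy) ≠ 0 := Subgroup.index_ne_zero_of_finite
    rw [← h5, mul_comm]
    exact Nat.mul_le_mul_left _ (by omega)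
  have b5 : f ^ 5 < Nat.card F ^ (2 * finrank F V - 1) := by
    refine lt_of_le_of_lt ?_ (lt_of_lt_of_le h4 (index_le hQ hx))
    refine Nat.le_mul_of_pos_right _ ?_
    exact (Set.ncard_pos (Set.toFinite _)).2 ⟨S Q e x, hz, IsConj.refl _⟩
  exact num (Finite.one_lt_card) hN (card_Qg h2 hQ hy (by omega)) b1 b3 b2 b4 b5

/-! ### singular vectors -/

theorem exists_sing [CharP F 2] (S K : Submodule F V) (h : finrank F K + 3 ≤ finrank F S) :
    ∃ w ∈ S, w ∉ K ∧ Q w = 0 := by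
  obtain ⟨D, hD⟩ := Submodule.exists_isCompl K
  have h1 := Submodule.finrank_sup_add_finrank_inf_eq S D
  have h3 := Submodule.finrank_add_eq_of_isCompl hD
  have h4 : finrank F ↥(S ⊔ D) ≤ finrank F V := Submodule.finrank_le _
  have h5 : 3 ≤ finrank F ↥(S ⊓ D) := by omega
  obtain ⟨u, hu, hu0⟩ : ∃ u ∈ S ⊓ D, u ≠ 0 := by
    apply Submodule.exists_mem_ne_zero_of_ne_bot
    intro h0
    rw [h0, finrank_bot] at h5
    omega
  have hK : ∀ w ∈ S ⊓ D, w ≠ 0 → w ∉ K := fun w hw hw0 hwK =>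
    hw0 ((Submodule.disjoint_def.1 hD.disjoint) w hwK hw.2)
  by_cases hQu : Q u = 0
  · exact ⟨u, hu.1, hK u hu hu0, hQu⟩
  have h6 := LinearMap.finrank_range_add_finrank_ker ((polarBilin Q u).domRestrict (S ⊓ D))
  have h7 : finrank F (LinearMap.range ((polarBilin Q u).domRestrict (S ⊓ D))) ≤ 1 := by
    refine (Submodule.finrank_le _).trans ?_
    rw [finrank_self]
  have h8 : 2 ≤ finrank F (LinearMap.ker ((polarBilin Q u).domRestrict (S ⊓ D))) := by omega
  have h9 : ¬ (LinearMap.ker ((polarBilin Q u).domRestrict (S ⊓ D))).map (S ⊓ D).subtype ≤ F ∙ u := by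
    intro hle
    have h10 := Submodule.finrank_mono hle
    rw [finrank_span_singleton hu0] at h10
    have h11 := LinearMap.finrank_range_of_inj (f := (S ⊓ D).subtype.domRestrict
      (LinearMap.ker ((polarBilin Q u).domRestrict (S ⊓ D)))) (by
        intro a b hab
        exact Subtype.ext (Subtype.ext hab))
    rw [LinearMap.range_domRestrict] at h11
    omega
  obtain ⟨v, hv, hvu⟩ := SetLike.not_le_iff_exists.1 h9
  obtain ⟨⟨v', hv'⟩, hv'', rfl⟩ := hv
  have hpv : polar Q u v' = 0 := hv''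
  simp only [Submodule.subtype_apply] at hvu
  have hsq : ∀ a : F, ∃ b : F, b * b = a := fun a => by
    obtain ⟨b, hb⟩ := FiniteField.isSquare_of_char_two (ringChar.eq F 2) a
    exact ⟨b, hb.symm⟩
  obtain ⟨s, hs⟩ := hsq (Q u)
  obtain ⟨t, ht⟩ := hsq (Q v')
  have hs0 : s ≠ 0 := by
    rintro rfl
    exact hQu (by rw [← hs, zero_mul])
  have hw : t • u + s • v' ∈ S ⊓ D := add_mem (Submodule.smul_mem _ _ hu) (Submodule.smul_mem _ _ hv')
  refine ⟨t • u + s • v', hw.1, hK _ hw ?_, ?_⟩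
  · intro h0
    apply hvu
    rw [Submodule.mem_span_singleton]
    refine ⟨-(s⁻¹ * t), ?_⟩
    have h12 : s • v' = -(t • u) := by
      rw [eq_neg_iff_add_eq_zero, add_comm, h0]
    rw [← one_smul F v', ← inv_mul_cancel₀ hs0, ← smul_smul, h12]
    module
  · rw [Q_add, QuadraticMap.map_smul, QuadraticMap.map_smul, polar_smul_left, polar_smul_right, hpv, ← hs, ← ht]
    simp only [smul_eq_mul, mul_zero, add_zero]
    have h2 : (2 : F) = 0 := CharTwo.two_eq_zero
    linear_combination s * s * t * t * h2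

/-! ### connectivity -/

theorem ln_of {e w : V} (hqe : Q e = 0) (he : e ≠ 0) (hqw : Q w = 0) (hew : polar Q e w = 0)
    (hw : ∀ a : F, w ≠ a • e) : Ln Q e w := by
  refine ⟨hqe, hqw, hew, fun a b hab => ?_⟩
  have hb : b = 0 := by
    by_contra hb
    apply hw (-(b⁻¹ * a))
    have h12 : b • w = -(a • e) := by
      rw [eq_neg_iff_add_eq_zero, add_comm, hab]
    rw [← one_smul F w, ← inv_mul_cancel₀ hb, ← smul_smul, h12]
    module
  refine ⟨?_, hb⟩
  rw [hb, zero_smul, add_zero] at hab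
  exact (smul_eq_zero.1 hab).resolve_right he

theorem Ln.ne_zero {e y : V} (h : Ln Q e y) : e ≠ 0 := by
  rintro rfl
  exact one_ne_zero (h.ind 1 0 (by simp)).1

/-- the same first vector -/
theorem same [CharP F 2] (hQ : Nondeg Q) (hN : 8 ≤ finrank F V) {A : Subgroup ↥(E Q)} (hA : H255.IFK.Fix A)
    {e x y : V} (hx : Ln Q e x) (hz : S Q e x ∈ A) (hy : Ln Q e y) : ∀ c : F, S Q e (c • y) ∈ A := by
  have h2 : (2 : F) = 0 := CharTwo.two_eq_zero
  by_cases hxy : polar Q x y = 0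
  · exact step h2 hQ hN hA hx hz hy hxy
  -- an intermediate vector
  obtain ⟨w, hwS, hwK, hQw⟩ := exists_sing (Q := Q)
    (LinearMap.ker ((polarBilin Q e).prod ((polarBilin Q x).prod (polarBilin Q y)))) (F ∙ e) (by
      have h3 := LinearMap.finrank_range_add_finrank_ker ((polarBilin Q e).prod ((polarBilin Q x).prod (polarBilin Q y)))
      have h4 : finrank F (LinearMap.range ((polarBilin Q e).prod ((polarBilin Q x).prod (polarBilin Q y)))) ≤ 3 := by
        refine (Submodule.finrank_le _).trans ?_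
        rw [finrank_prod, finrank_prod, finrank_self]
      rw [finrank_span_singleton hx.ne_zero]
      omega)
  have hw : polar Q e w = 0 ∧ polar Q x w = 0 ∧ polar Q y w = 0 := by
    have := LinearMap.mem_ker.1 hwS
    simpa only [Prod.ext_iff, _root_.LinearMap.prod_apply, _root_.Function.prod_apply, _root_.QuadraticMap.polarBilin_apply_apply, _root_.Prod.fst_zero, _root_.Prod.snd_zero] using this
  obtain ⟨w1, w2, w3⟩ := hw
  have hwe : ∀ a : F, w ≠ a • e := fun a h => hwK (by rw [h]; exact Submodule.mem_span_singleton.2 ⟨a, rfl⟩)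
  have hlw : Ln Q e w := ln_of hx.qe hx.ne_zero hQw w1 hwe
  have h5 : ∀ c : F, S Q e (c • w) ∈ A := step h2 hQ hN hA hx hz hlw w2
  exact step h2 hQ hN hA hlw (by simpa using h5 1) hy (by rw [polar_comm]; exact w3)

theorem swap_mem {A : Subgroup ↥(E Q)} {e y : V} (hl : Ln Q e y) (h : S Q e y ∈ A) : S Q y e ∈ A := by
  have h1 := S_swap' hl 1
  rw [one_smul, neg_smul, one_smul] at h1
  rw [h1, ← S_inv hl.qe hl.ey]
  exact inv_mem h

/-- all long root elements -/
theorem all [CharP F 2] (hQ : Nondeg Q) (hN : 8 ≤ finrank F V) {A : Subgroup ↥(E Q)} (hA : H255.IFK.Fix A)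
    {e x e' x' : V} (hx : Ln Q e x) (hz : S Q e x ∈ A) (hx' : Ln Q e' x') : S Q e' x' ∈ A := by
  obtain ⟨p, hpS, hpK, hQp⟩ := exists_sing (Q := Q)
    (LinearMap.ker ((polarBilin Q e).prod (polarBilin Q e'))) ((F ∙ e) ⊔ (F ∙ e')) (by
      have h3 := LinearMap.finrank_range_add_finrank_ker ((polarBilin Q e).prod (polarBilin Q e'))
      have h4 : finrank F (LinearMap.range ((polarBilin Q e).prod (polarBilin Q e'))) ≤ 2 := by
        refine (Submodule.finrank_le _).trans ?_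
        rw [finrank_prod, finrank_self]
      have h5 := Submodule.finrank_add_le_finrank_add_finrank (F ∙ e) (F ∙ e')
      rw [finrank_span_singleton hx.ne_zero, finrank_span_singleton hx'.ne_zero] at h5
      omega)
  have hp : polar Q e p = 0 ∧ polar Q e' p = 0 := by
    have := LinearMap.mem_ker.1 hpS
    simpa [Prod.ext_iff] using this
  obtain ⟨p1, p2⟩ := hp
  have hlp : Ln Q e p := ln_of hx.qe hx.ne_zero hQp p1 fun a h => hpK (by
    rw [h]; exact Submodule.mem_sup_left (Submodule.mem_span_singleton.2 ⟨a, rfl⟩))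
  have hlp' : Ln Q e' p := ln_of hx'.qe hx'.ne_zero hQp p2 fun a h => hpK (by
    rw [h]; exact Submodule.mem_sup_right (Submodule.mem_span_singleton.2 ⟨a, rfl⟩))
  have c1 : S Q e p ∈ A := by simpa using same hQ hN hA hx hz hlp 1
  have c2 : S Q p e' ∈ A := by simpa using same hQ hN hA hlp.symm (swap_mem hlp c1) hlp'.symm 1
  simpa using same hQ hN hA hlp' (swap_mem hlp'.symm c2) hx' 1

/-- a long root element belongs to a line -/
theorem ln_of_LR {z : ↥(E Q)} (hz : H842.IFE.LR z) : ∃ e x : V, Ln Q e x ∧ z = S Q e x := by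
  obtain ⟨h1, e, w, he, hw, hew, hz⟩ := hz
  have he0 : e ≠ 0 := by
    rintro rfl
    exact h1 (by rw [hz, S_zero_left])
  refine ⟨e, w, ln_of he he0 hw hew fun a ha => ?_, hz⟩
  exact h1 (by rw [hz, ha, S_self_smul _ he])

/-- `A` contains no long root element -/
theorem eq_top [CharP F 2] (hQ : Nondeg Q) (hN : 8 ≤ finrank F V) [IsSimpleGroup ↥(E Q)] {A : Subgroup ↥(E Q)}
    (hA : H255.IFK.Fix A) {z : ↥(E Q)} (hz : z ∈ A) (hLR : H842.IFE.LR z) : A = ⊤ := by
  obtain ⟨e, x, hl, rfl⟩ := ln_of_LR hLR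
  let X : Set ↥(E Q) := {g | ∃ u w : V, Ln Q u w ∧ g = S Q u w}
  have hXA : Subgroup.closure X ≤ A := by
    rw [Subgroup.closure_le]
    rintro _ ⟨u, w, hl', rfl⟩
    exact all hQ hN hA hl hz hl'
  have hn : (Subgroup.closure X).Normal := by
    refine ⟨fun n hn g => ?_⟩
    induction hn using Subgroup.closure_induction with
    | mem y hy =>
      obtain ⟨u, w, hl', rfl⟩ := hy
      rw [S_conj]
      exact Subgroup.subset_closure ⟨_, _, hl'.map g, rfl⟩
    | one => rw [mul_one, mul_inv_cancel]; exact one_mem _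
    | mul y y' _ _ h1 h2 =>
      have : g * (y * y') * g⁻¹ = (g * y * g⁻¹) * (g * y' * g⁻¹) := by group
      rw [this]
      exact mul_mem h1 h2
    | inv y _ h1 =>
      have : g * y⁻¹ * g⁻¹ = (g * y * g⁻¹)⁻¹ := by group
      rw [this]
      exact inv_mem h1
  rcases hn.eq_bot_or_eq_top with h | h
  · exfalso
    have h1 : S Q e x ∈ Subgroup.closure X := Subgroup.subset_closure ⟨e, x, hl, rfl⟩
    rw [h, Subgroup.mem_bot] at h1
    exact S_ne_one hQ hl h1
  · rw [h] at hXA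
    exact top_le_iff.1 hXA

end Cfsg.Agent.H545.Fx

namespace Cfsg.Agent.H545.Fx

open QuadraticMap Cfsg.Agent.LieClassical.OrthCore Cfsg.Agent.H989.Gs.Gen Module Cfsg.Agent.H209.Fxy

variable {F V : Type*} [Field F] [Fintype F] [CharP F 2] [AddCommGroup V] [Module F V] [Fintype V]
  {Q : QuadraticForm F V}

/-- **The end game**, both signs. -/
theorem end_game (hQ : Nondeg Q) (hd : 8 ≤ finrank F V) [IsSimpleGroup ↥(E Q)] (hna : ∃ a b : ↥(E Q), a * b ≠ b * a)
    {A : Subgroup ↥(E Q)} {Γ : Subgroup (MulAut ↥(E Q))} (h : IF A Γ) {z : ↥(E Q)} (hz : z ∈ A)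
    (hLR : H842.IFE.LR z) : False := by
  have hfin : Finite ↥(E Q) := finite_E
  have hfd : FiniteDimensional F V := Module.finite_of_finrank_pos (by omega)
  exact h.ne_top (eq_top hQ hd (H255.IFK.fix_of_IF h hna) hz hLR)

end Cfsg.Agent.H545.Fx
end

-- part: H829/IF/Final
section
/-!
# S5719: the cells `plus_even`, `minus_even` (helper829; class bound: helper237, helper545; descent: helper842, helper999;
end: helper545; transfer: helper908)
-/

set_option autoImplicit false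
set_option linter.unusedSectionVars false

namespace Cfsg.Agent.H829.IFE

open QuadraticMap Module Subgroup Cfsg Cfsg.Agent.LieClassical.OrthCore Cfsg.Agent.LieClassical.OrthTrans
  Cfsg.Agent.LieClassical.OrthForms Cfsg.Agent.H122.OrthTy Cfsg.Agent.H209.Fxy

theorem abs : Abs := by
  intro F V _ _ _ _ _ _ Q hG l hl hd _ hna A Γ h ⟨t, ht, ho⟩
  obtain ⟨z, hz, hLR⟩ := Cfsg.Agent.H842.IFE.exists_LR
    (fun t ht k hk => Cfsg.Agent.H237.IFE.class_bound hG.nondeg rfl ht hk) hG.nondeg (by omega) hna h ht ho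
  exact Cfsg.Agent.H545.Fx.end_game hG.nondeg (by omega) hna h hz hLR

/-- **Cell `plus_even`** -/
theorem plus_even (F : Type) [Field F] [Fintype F] (m : ℕ) (hev : Even (Fintype.card F)) (hm : 4 ≤ m)
    (hs : IsSimpleGroup (POmega F (quadFormPlus m F))) : KillE (POmega F (quadFormPlus m F)) :=
  plus_even_of abs F m hev hm hs

/-- **Cell `minus_even`** -/
theorem minus_even (F : Type) [Field F] [Fintype F] (m : ℕ) (a b : F) (hev : Even (Fintype.card F))
    (hm : 4 ≤ m) (hz : ∀ z₁ z₂ : F, z₁ ^ 2 + a * z₁ * z₂ + b * z₂ ^ 2 = 0 → z₁ = 0 ∧ z₂ = 0)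
    (hs : IsSimpleGroup (POmega F (quadFormMinus (m - 1) F a b))) : KillE (POmega F (quadFormMinus (m - 1) F a b)) :=
  minus_even_of abs F m a b hev hm hz hs

end Cfsg.Agent.H829.IFE
end

private theorem dce_54b628fe3419 : _root_.True := by
  try have : _root_.True := by simp only [_root_.Cfsg.Agent.H545.Fx.Wd.eq_1]
  exact _root_.True.intro
end

-- part: H698/IF/Ly
section
prune_inst 0x7f001602c444040020000000586d1003c26de000590002b0400d5a10e400e8eff294902a760fc803f035908822440380060025c00c9405000002e000600411900a090ab32820174a10ca6008f80b887180c00000000000000000000000000041004000000000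
set_option linter.all false
open scoped Cfsg.Agent.FastGrp

-- part: H698/IF/Alt11
section
/-!
# S5719, the Lyons group: subgroups of `A₁₁` of index at most 66 (helper698)

* `dvd_of_not_dvd` : a proper subgroup of `A₁₁` of index prime to 11 has index divisible by 105;
* `exists_inv` : a subgroup of index at most 66 contains an involution of type `2^4`;
* `eq_stab` : a subgroup of index 11 is the stabiliser of a letter.
-/

set_option autoImplicit false
set_option maxRecDepth 100000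

namespace Cfsg.Agent.H698.IFLy

open Equiv Equiv.Perm Subgroup MulAction

/-- an element of order `p` lies in a conjugate of `K` if `p ∤ |G : K|` -/
theorem exists_conj_mem {G : Type*} [Group G] [Finite G] {p : ℕ} (hp : p.Prime) {y : G} (hy : y ^ p = 1)
    (K : Subgroup G) (h : ¬ p ∣ K.index) : ∃ x : G, x⁻¹ * y * x ∈ K := by
  have : Fact p.Prime := ⟨hp⟩
  have hz : IsPGroup p (zpowers y) := by
    rintro ⟨_, i, rfl⟩
    refine ⟨1, Subtype.ext ?_⟩
    show (y ^ i) ^ p ^ 1 = 1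
    rw [pow_one, ← zpow_natCast, ← zpow_mul, mul_comm, zpow_mul, zpow_natCast, hy, one_zpow]
  obtain ⟨c, hc⟩ := hz.nonempty_fixed_point_of_prime_not_dvd_card (G ⧸ K) h
  obtain ⟨x, rfl⟩ := QuotientGroup.mk_surjective c
  refine ⟨x, ?_⟩
  have h1 : ((y * x : G) : G ⧸ K) = x := hc ⟨y, mem_zpowers y⟩
  have h2 := QuotientGroup.eq.1 h1.symm
  rwa [← mul_assoc] at h2

/-- a free action of a finite group -/
theorem card_dvd_of_free {G X : Type*} [Group G] [Finite G] [MulAction G X] [Finite X]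
    (h : ∀ g : G, g ≠ 1 → ∀ x : X, g • x ≠ x) : Nat.card G ∣ Nat.card X := by
  classical
  have := Fintype.ofFinite G
  have := Fintype.ofFinite X
  have h1 := MulAction.sum_card_fixedBy_eq_card_orbits_mul_card_group G X
  have h2 : ∑ g : G, Fintype.card (fixedBy X g) = Fintype.card X := by
    rw [Finset.sum_eq_single (1 : G)]
    · refine Fintype.card_congr (Equiv.subtypeUnivEquiv fun x => ?_)
      exact one_smul G x
    · intro g _ hg
      rw [Fintype.card_eq_zero_iff]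
      exact ⟨fun x => h g hg x x.2⟩
    · intro h3
      exact absurd (Finset.mem_univ _) h3
  rw [h2] at h1
  rw [Nat.card_eq_fintype_card, Nat.card_eq_fintype_card, h1]
  exact Dvd.intro_left _ rfl

theorem preprim {K : Subgroup (alternatingGroup (Fin 11))} (h11 : 11 ∣ Nat.card K) :
    IsPreprimitive (K.map (alternatingGroup (Fin 11)).subtype) (Fin 11) := by
  have : Fact (Nat.Prime 11) := ⟨by norm_num⟩
  obtain ⟨z, hz⟩ := exists_prime_orderOf_dvd_card' (G := K) 11 h11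
  set g : Perm (Fin 11) := ((z : alternatingGroup (Fin 11)) : Perm (Fin 11)) with hg
  have hgp : orderOf g = 11 := (Subgroup.orderOf_coe z.1).trans ((Subgroup.orderOf_coe z).trans hz)
  have hcyc : g.IsCycle := isCycle_of_prime_order' (by rw [hgp]; norm_num) (by rw [hgp, Fintype.card_fin]; norm_num)
  have hsupp : g.support = Finset.univ := by
    rw [← Finset.card_eq_iff_eq_univ, ← hcyc.orderOf, hgp, Fintype.card_fin]
  have hmem : ∀ i : ℤ, g ^ i ∈ K.map (alternatingGroup (Fin 11)).subtype := by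
    intro i
    have h1 : g ∈ K.map (alternatingGroup (Fin 11)).subtype := ⟨z.1, z.2, rfl⟩
    exact Subgroup.zpow_mem _ h1 i
  have : IsPretransitive (K.map (alternatingGroup (Fin 11)).subtype) (Fin 11) := by
    refine ⟨fun a b => ?_⟩
    obtain ⟨i, hi⟩ := hcyc.exists_zpow_eq (x := a) (y := b) (Perm.mem_support.1 (by rw [hsupp]; exact Finset.mem_univ _))
      (Perm.mem_support.1 (by rw [hsupp]; exact Finset.mem_univ _))
    exact ⟨⟨g ^ i, hmem i⟩, hi⟩
  exact IsPreprimitive.of_prime_card (by rw [Nat.card_eq_fintype_card, Fintype.card_fin]; norm_num)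

theorem dvd_index {K : Subgroup (alternatingGroup (Fin 11))} (hK : K ≠ ⊤) (h11 : ¬ 11 ∣ K.index) {p : ℕ}
    (hp : p.Prime) (hp8 : p ≤ 8) {y : Perm (Fin 11)} (hyA : y ∈ alternatingGroup (Fin 11)) (hy : y.IsCycle)
    (hyp : y.support.card = p) : p ∣ K.index := by
  by_contra hcon
  have hc11 : 11 ∣ Nat.card K := by
    have h1 : 11 ∣ K.index * Nat.card K := by
      rw [K.index_mul_card, nat_card_alternatingGroup, Nat.card_eq_fintype_card, Fintype.card_fin]
      decide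
    exact ((by norm_num : Nat.Prime 11).dvd_mul.1 h1).resolve_left h11
  have hyo : y ^ p = 1 := by rw [← hyp, ← hy.orderOf, pow_orderOf_eq_one]
  obtain ⟨x, hx⟩ := exists_conj_mem hp (y := (⟨y, hyA⟩ : alternatingGroup (Fin 11))) (Subtype.ext hyo) K hcon
  have hconj : ∃ u : Perm (Fin 11), u * y * u⁻¹ ∈ K.map (alternatingGroup (Fin 11)).subtype := by
    refine ⟨(x : Perm (Fin 11))⁻¹, _, hx, ?_⟩
    show ((x : Perm (Fin 11))⁻¹ * y * x) = _
    rw [inv_inv]
  obtain ⟨u, hu⟩ := hconj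
  have h1 := Cfsg.Agent.S0713.result _ (preprim hc11) hp (by rw [Fintype.card_fin]; norm_num)
    (by rw [Fintype.card_fin]; omega) (g := u * y * u⁻¹) hy.conj (by rw [card_support_conj, hyp]) hu
  apply hK
  rw [eq_top_iff]
  intro x _
  obtain ⟨y, hy, hyx⟩ := h1 x.2
  have h2 : y = x := Subtype.ext hyx
  rw [← h2]
  exact hy

def c3 : Perm (Fin 11) := swap 0 1 * swap 1 2
def c5 : Perm (Fin 11) := swap 0 1 * swap 1 2 * swap 2 3 * swap 3 4
def c7 : Perm (Fin 11) := swap 0 1 * swap 1 2 * swap 2 3 * swap 3 4 * swap 4 5 * swap 5 6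

theorem c3_type : c3.cycleType = {3} := by decide +kernel
theorem c5_type : c5.cycleType = {5} := by decide +kernel
theorem c7_type : c7.cycleType = {7} := by decide +kernel

theorem prime_type {y : Perm (Fin 11)} {p : ℕ} (h : y.cycleType = {p}) : y.IsCycle ∧ y.support.card = p := by
  refine ⟨card_cycleType_eq_one.1 (by rw [h]; rfl), ?_⟩
  rw [← y.sum_cycleType, h, Multiset.sum_singleton]

/-- a proper subgroup of index prime to 11 -/
theorem dvd_of_not_dvd {K : Subgroup (alternatingGroup (Fin 11))} (hK : K ≠ ⊤) (h11 : ¬ 11 ∣ K.index) :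
    105 ∣ K.index := by
  have h3 : 3 ∣ K.index := dvd_index hK h11 (by norm_num) (by norm_num)
    (by rw [mem_alternatingGroup]; decide +kernel) (prime_type c3_type).1 (prime_type c3_type).2
  have h5 : 5 ∣ K.index := dvd_index hK h11 (by norm_num) (by norm_num)
    (by rw [mem_alternatingGroup]; decide +kernel) (prime_type c5_type).1 (prime_type c5_type).2
  have h7 : 7 ∣ K.index := dvd_index hK h11 (by norm_num) (by norm_num)
    (by rw [mem_alternatingGroup]; decide +kernel) (prime_type c7_type).1 (prime_type c7_type).2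
  omega

/-- the translations of eight letters -/
def xr (v : Fin 8) : Perm (Fin 11) where
  toFun x := if x.val < 8 then Fin.ofNat 11 (x.val ^^^ v.val) else x
  invFun x := if x.val < 8 then Fin.ofNat 11 (x.val ^^^ v.val) else x
  left_inv := by revert v; decide +kernel
  right_inv := by revert v; decide +kernel

theorem xr_mul : ∀ v w : Fin 8, xr v * xr w = xr (Fin.ofNat 8 (v.val ^^^ w.val)) := by decide +kernel
theorem xr_mem : ∀ v : Fin 8, xr v ∈ alternatingGroup (Fin 11) := by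
  simp only [mem_alternatingGroup]
  decide +kernel
theorem xr_sq : ∀ v : Fin 8, xr v * xr v = 1 := by decide +kernel
theorem xr_supp : ∀ v : Fin 8, v ≠ 0 → (xr v).support.card = 8 := by decide +kernel
theorem xr_zero : xr 0 = 1 := by decide +kernel
theorem xr_inj : ∀ v w : Fin 8, xr v = xr w → v = w := by decide +kernel

/-- the elementary abelian group of order eight -/
def E8 : Subgroup (alternatingGroup (Fin 11)) where
  carrier := {σ | ∃ v : Fin 8, (σ : Perm (Fin 11)) = xr v}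
  one_mem' := ⟨0, xr_zero.symm⟩
  mul_mem' := by
    rintro a b ⟨v, hv⟩ ⟨w, hw⟩
    refine ⟨Fin.ofNat 8 (v.val ^^^ w.val), ?_⟩
    rw [← xr_mul v w, ← hv, ← hw]
    rfl
  inv_mem' := by
    rintro a ⟨v, hv⟩
    refine ⟨v, ?_⟩
    rw [Subgroup.coe_inv, hv]
    exact inv_eq_of_mul_eq_one_left (xr_sq v)

theorem card_E8 : Nat.card E8 = 8 := by
  have e : E8 ≃ Fin 8 :=
    (Equiv.ofBijective (fun v : Fin 8 => (⟨⟨xr v, xr_mem v⟩, v, rfl⟩ : E8)) ⟨fun v w h => by
      apply xr_inj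
      exact congrArg (fun x : E8 => ((x : alternatingGroup (Fin 11)) : Perm (Fin 11))) h, fun x => by
      obtain ⟨v, hv⟩ := x.2
      exact ⟨v, Subtype.ext (Subtype.ext hv.symm)⟩⟩).symm
  rw [Nat.card_congr e, Nat.card_eq_fintype_card, Fintype.card_fin]

/-- a subgroup of index at most 66 contains an involution of type `2^4` -/
theorem exists_inv {K : Subgroup (alternatingGroup (Fin 11))} (h : K.index ≤ 66) :
    ∃ σ ∈ K, (σ : Perm (Fin 11)) * σ = 1 ∧ (σ : Perm (Fin 11)).support.card = 8 := by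
  by_contra hcon
  push Not at hcon
  have hpos : 0 < K.index := Nat.pos_of_ne_zero Subgroup.index_ne_zero_of_finite
  have h8 : 8 ∣ K.index := by
    rw [← card_E8]
    refine card_dvd_of_free (G := E8) (X := alternatingGroup (Fin 11) ⧸ K) ?_
    intro g hg c hc
    obtain ⟨x, rfl⟩ := QuotientGroup.mk_surjective c
    have h1 : (((g : alternatingGroup (Fin 11)) * x : alternatingGroup (Fin 11)) : alternatingGroup (Fin 11) ⧸ K) = x := hc
    have h2 := QuotientGroup.eq.1 h1.symm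
    obtain ⟨v, hv⟩ := g.2
    have hv0 : v ≠ 0 := by
      rintro rfl
      apply hg
      rw [xr_zero] at hv
      exact Subtype.ext (Subtype.ext hv)
    have h3 : ((x⁻¹ * ((g : alternatingGroup (Fin 11)) * x) : alternatingGroup (Fin 11)) : Perm (Fin 11)) =
        (x : Perm (Fin 11))⁻¹ * xr v * (x : Perm (Fin 11)) := by
      rw [← hv]
      rfl
    refine hcon _ h2 ?_ ?_
    · rw [h3]
      calc (x : Perm (Fin 11))⁻¹ * xr v * x * ((x : Perm (Fin 11))⁻¹ * xr v * x) = (x : Perm (Fin 11))⁻¹ * (xr v * xr v) * x := by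
            group
        _ = 1 := by rw [xr_sq]; group
    · rw [h3]
      have h4 : (x : Perm (Fin 11))⁻¹ * xr v * (x : Perm (Fin 11)) = (x : Perm (Fin 11))⁻¹ * xr v * ((x : Perm (Fin 11))⁻¹)⁻¹ := by
        rw [inv_inv]
      rw [h4, card_support_conj, xr_supp v hv0]
  by_cases h11 : 11 ∣ K.index
  · omega
  · have hK : K ≠ ⊤ := by
      rintro rfl
      rw [Subgroup.index_top] at h8
      omega
    have := dvd_of_not_dvd hK h11
    omega

/-- the index of a subgroup of index at most thirteen -/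
theorem index_eq {K : Subgroup (alternatingGroup (Fin 11))} (hK : K ≠ ⊤) (h : K.index ≤ 13) : K.index = 11 := by
  have hpos : 0 < K.index := Nat.pos_of_ne_zero Subgroup.index_ne_zero_of_finite
  by_cases h11 : 11 ∣ K.index
  · omega
  · have := dvd_of_not_dvd hK h11
    omega

theorem card_alt : Nat.card (alternatingGroup (Fin 11)) = 19958400 := by
  rw [nat_card_alternatingGroup, Nat.card_eq_fintype_card, Fintype.card_fin]
  decide

/-- **A subgroup of index 11 is the stabiliser of a letter.** -/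
theorem eq_stab {K : Subgroup (alternatingGroup (Fin 11))} (h : K.index = 11) :
    ∃ i : Fin 11, ∀ σ : alternatingGroup (Fin 11), σ ∈ K ↔ (σ : Perm (Fin 11)) i = i := by
  have hcard : Nat.card K = 1814400 := by
    have h1 := K.index_mul_card
    rw [h, card_alt] at h1
    omega
  have hnt : ¬ ∀ a b : Fin 11, ∃ x ∈ K, (x : Perm (Fin 11)) a = b := by
    intro ht
    have hp : IsPretransitive K (Fin 11) := ⟨fun a b => by
      obtain ⟨x, hx, hxa⟩ := ht a b
      exact ⟨⟨x, hx⟩, hxa⟩⟩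
    have h1 := (stabilizer K (0 : Fin 11)).index_mul_card
    rw [MulAction.index_stabilizer_of_transitive, Nat.card_eq_fintype_card (α := Fin 11), Fintype.card_fin, hcard] at h1
    omega
  obtain ⟨s, hs, h0, h2⟩ := Cfsg.Agent.H663.AltD.exists_inv hnt
  have h3 := hs.two_index_ge (by norm_num)
  rw [h] at h3
  have h4 : s.card = 1 := by
    have h5 : s.card ≤ 5 := by omega
    interval_cases hc : s.card
    · rfl
    all_goals
      exfalso
      revert h3
      decide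
  obtain ⟨i, rfl⟩ := Finset.card_eq_one.1 h4
  let S : Subgroup (alternatingGroup (Fin 11)) := stabilizer (alternatingGroup (Fin 11)) i
  have hS : ∀ σ : alternatingGroup (Fin 11), σ ∈ S ↔ (σ : Perm (Fin 11)) i = i := fun σ => Iff.rfl
  have hKS : K ≤ S := by
    intro x hx
    rw [hS]
    have := (hs x hx i).2 (Finset.mem_singleton_self i)
    exact Finset.mem_singleton.1 this
  have hST : S ≠ ⊤ := by
    intro h5
    have h6 : ∀ i : Fin 11, (finRotate 11) i ≠ i := by decide +kernel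
    have h7 : finRotate 11 ∈ alternatingGroup (Fin 11) := by
      rw [mem_alternatingGroup]
      decide +kernel
    apply h6 i
    have h8 : (⟨finRotate 11, h7⟩ : alternatingGroup (Fin 11)) ∈ S := by rw [h5]; exact Subgroup.mem_top _
    exact (hS _).1 h8
  have h5 := Subgroup.relIndex_mul_index hKS
  rw [h] at h5
  have h6 : S.index ≠ 1 := fun h7 => hST (Subgroup.index_eq_one.1 h7)
  have h7 : S.index ∣ 11 := Dvd.intro_left _ h5
  have h8 : S.index = 11 := ((by norm_num : Nat.Prime 11).eq_one_or_self_of_dvd _ h7).resolve_left h6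
  have h9 : K.relIndex S = 1 := by
    rw [h8] at h5
    omega
  have h10 : S ≤ K := Subgroup.relIndex_eq_one.1 h9
  exact ⟨i, fun σ => ⟨fun hσ => (hS σ).1 (hKS hσ), fun hσ => h10 ((hS σ).2 hσ)⟩⟩

/-! ### the group `4 × 4` -/

def aa : Perm (Fin 11) := swap 0 1 * swap 1 2 * swap 2 3 * swap 8 9
def bb : Perm (Fin 11) := swap 4 5 * swap 5 6 * swap 6 7 * swap 8 9

def ab (i j : Fin 4) : Perm (Fin 11) := aa ^ i.val * bb ^ j.val

theorem ab_mul : ∀ i j k l : Fin 4, ab i j * ab k l = ab (i + k) (j + l) := by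
  have h : aa * bb = bb * aa ∧ aa ^ 4 = 1 ∧ bb ^ 4 = 1 := by decide +kernel
  intro i j k l
  unfold ab
  rw [Fin.val_add, Fin.val_add, ← pow_eq_pow_mod _ h.2.1, ← pow_eq_pow_mod _ h.2.2, pow_add, pow_add]
  exact (((show Commute aa bb from h.1).pow_pow k.val j.val).symm).mul_mul_mul_comm _ _
theorem ab_zero : ab 0 0 = 1 := by decide +kernel
theorem ab_inv : ∀ i j : Fin 4, ab (-i) (-j) * ab i j = 1 := fun i j => by
  rw [ab_mul, neg_add_cancel, neg_add_cancel, ab_zero]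
theorem ab_inj : ∀ i j k l : Fin 4, ab i j = ab k l → i = k ∧ j = l := by decide +kernel
theorem ab_mem : ∀ i j : Fin 4, ab i j ∈ alternatingGroup (Fin 11) := by
  simp only [mem_alternatingGroup]
  decide +kernel
theorem ab_invol : ∀ i j : Fin 4, ab i j * ab i j = 1 → 8 ∣ (ab i j).support.card → ab i j = 1 ∨ ab i j = ab 2 2 := by
  decide +kernel
theorem ab22_sq : ab 2 2 * ab 2 2 = 1 := by decide +kernel
theorem ab22_supp : (ab 2 2).support.card = 8 := by decide +kernel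

def Q16 : Subgroup (Perm (Fin 11)) where
  carrier := {σ | ∃ i j : Fin 4, σ = ab i j}
  one_mem' := ⟨0, 0, ab_zero.symm⟩
  mul_mem' := by
    rintro a b ⟨i, j, rfl⟩ ⟨k, l, rfl⟩
    exact ⟨_, _, ab_mul i j k l⟩
  inv_mem' := by
    rintro a ⟨i, j, rfl⟩
    exact ⟨-i, -j, inv_eq_of_mul_eq_one_left (ab_inv i j)⟩

theorem card_Q16 : Nat.card Q16 = 16 := by
  have e : Q16 ≃ Fin 4 × Fin 4 :=
    (Equiv.ofBijective (fun v : Fin 4 × Fin 4 => (⟨ab v.1 v.2, v.1, v.2, rfl⟩ : Q16)) ⟨fun v w h => by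
      obtain ⟨h1, h2⟩ := ab_inj _ _ _ _ (congrArg (fun x : Q16 => (x : Perm (Fin 11))) h)
      exact Prod.ext h1 h2, fun x => by
      obtain ⟨i, j, h⟩ := x.2
      exact ⟨(i, j), Subtype.ext h.symm⟩⟩).symm
  rw [Nat.card_congr e, Nat.card_prod, Nat.card_eq_fintype_card, Fintype.card_fin]

/-! ### the number of involutions -/

theorem card_type : Nat.card {σ : Perm (Fin 11) // σ.cycleType = {2, 2, 2, 2}} = 17325 := by
  classical
  rw [Nat.card_eq_fintype_card, Fintype.card_subtype, card_of_cycleType, Fintype.card_fin]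
  decide +kernel

theorem type_facts {σ : Perm (Fin 11)} (h : σ.cycleType = {2, 2, 2, 2}) :
    σ * σ = 1 ∧ σ.support.card = 8 ∧ σ ∈ alternatingGroup (Fin 11) := by
  refine ⟨?_, ?_, ?_⟩
  · rw [← pow_two, ← orderOf_dvd_iff_pow_eq_one, ← lcm_cycleType, h]
    decide
  · rw [← σ.sum_cycleType, h]
    rfl
  · rw [mem_alternatingGroup, sign_of_cycleType, h]
    decide

end Cfsg.Agent.H698.IFLy
end

-- part: H698/IF/LyA
section
/-!
# S5719, the Lyons group: subgroups containing large parts of the centralisers of their involutions (helper698)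
-/

set_option autoImplicit false
set_option linter.unusedSectionVars false

namespace Cfsg.Agent.H698.IFLy

open Equiv Subgroup Cfsg.Agent.TypeM.Two Cfsg.Agent.SporRec.TwoAn
open Cfsg.Agent.SporRec.LyType (conjCentEquiv conjCentEquiv_coe card_support_eq_eight)

variable {T : Type*} [Group T] [Finite T]

/-! ### the cover -/

section cover

variable {C : Type*} [Group C] [Finite C] (K : Cover (Fin 11) C)

theorem card_ker : Nat.card K.π.ker = 2 := by
  rw [Nat.card_eq_two_iff' (1 : K.π.ker)]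
  refine ⟨⟨K.z, K.π_z⟩, fun e => K.z_ne (congrArg Subtype.val e), ?_⟩
  rintro ⟨y, hy⟩ hy1
  rcases (K.ker y).1 hy with h1 | h1
  · exact absurd (Subtype.ext h1) hy1
  · exact Subtype.ext h1

include K in
theorem card_C : Nat.card C = 39916800 := by
  have h1 := K.π.ker.index_mul_card
  rw [Subgroup.index_ker, card_ker K, K.range_eq, card_alt] at h1
  omega

/-- the projection onto `A₁₁` -/
def pr : C →* alternatingGroup (Fin 11) := K.π.codRestrict _ K.mem_alternating

theorem pr_surj : Function.Surjective (pr K) := by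
  rintro ⟨σ, hσ⟩
  obtain ⟨g, hg⟩ := K.exists_lift hσ
  exact ⟨g, Subtype.ext hg⟩

theorem pr_ker {x : C} : pr K x = 1 ↔ x = 1 ∨ x = K.z := by
  rw [← K.ker x]
  exact ⟨fun h => congrArg Subtype.val h, fun h => Subtype.ext h⟩

/-- the index of the image -/
theorem index_map {H : Subgroup C} (hz : K.z ∈ H) : (H.map (pr K)).index = H.index := by
  apply Subgroup.index_map_eq _ (pr_surj K)
  intro x hx
  rcases (pr_ker K).1 hx with rfl | rfl
  · exact H.one_mem
  · exact hz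

theorem mem_of_map {H : Subgroup C} (hz : K.z ∈ H) {x : C} (hx : pr K x ∈ H.map (pr K)) : x ∈ H := by
  obtain ⟨y, hy, hyx⟩ := hx
  have h1 : pr K (x * y⁻¹) = 1 := by rw [map_mul, map_inv, hyx, mul_inv_cancel]
  rcases (pr_ker K).1 h1 with h1 | h1
  · rw [mul_inv_eq_one] at h1
    rwa [h1]
  · rw [mul_inv_eq_iff_eq_mul] at h1
    rw [h1]
    exact H.mul_mem hz hy

/-- (A) -/
theorem exists_second {H : Subgroup C} (hz : K.z ∈ H) (h : H.index ≤ 66) :
    ∃ g ∈ H, g * g = 1 ∧ g ≠ 1 ∧ g ≠ K.z := by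
  obtain ⟨σ, ⟨g, hg, rfl⟩, h1, h2⟩ := exists_inv (K := H.map (pr K)) (by rw [index_map K hz]; exact h)
  refine ⟨g, hg, K.sq_eq_one_iff.2 ⟨h1, ?_⟩, ?_, ?_⟩
  · exact h2.symm.dvd
  · rintro rfl
    rw [map_one] at h2
    revert h2
    decide
  · rintro rfl
    have h3 : pr K K.z = 1 := (pr_ker K).2 (Or.inr rfl)
    rw [h3] at h2
    revert h2
    decide

/-- (B) -/
theorem nat_stab {H : Subgroup C} (hz : K.z ∈ H) (hH : H ≠ ⊤) (h : H.index ≤ 13) :
    H.index = 11 ∧ ∃ i : Fin 11, ∀ g : C, g ∈ H ↔ K.π g i = i := by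
  have hne : H.map (pr K) ≠ ⊤ := by
    intro h1
    apply hH
    rw [eq_top_iff]
    intro x _
    exact mem_of_map K hz (by rw [h1]; exact Subgroup.mem_top _)
  have h1 := index_eq hne (by rw [index_map K hz]; exact h)
  refine ⟨by rw [← index_map K hz]; exact h1, ?_⟩
  obtain ⟨i, hi⟩ := eq_stab h1
  refine ⟨i, fun g => ⟨fun hg => (hi _).1 ⟨g, hg, rfl⟩, fun hg => mem_of_map K hz ((hi _).2 hg)⟩⟩

/-- the number of involutions outside the centre -/
theorem card_inv : 34650 ≤ Nat.card {g : C // g * g = 1 ∧ g ≠ 1 ∧ g ≠ K.z} := by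
  have h1 : 34650 = Nat.card ({σ : Perm (Fin 11) // σ.cycleType = {2, 2, 2, 2}} × Fin 2) := by
    rw [Nat.card_prod, card_type, Nat.card_eq_fintype_card, Fintype.card_fin]
  rw [h1]
  have hl : ∀ σ : {σ : Perm (Fin 11) // σ.cycleType = {2, 2, 2, 2}}, ∃ g : C, K.π g = σ := fun σ =>
    K.exists_lift (type_facts σ.2).2.2
  choose l hl using hl
  have hπ : ∀ (σ : {σ : Perm (Fin 11) // σ.cycleType = {2, 2, 2, 2}}) (b : Fin 2),
      K.π (l σ * K.z ^ b.val) = σ := by
    intro σ b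
    rw [map_mul, map_pow, K.π_z, one_pow, mul_one, hl]
  have hmem : ∀ (σ : {σ : Perm (Fin 11) // σ.cycleType = {2, 2, 2, 2}}) (b : Fin 2),
      l σ * K.z ^ b.val * (l σ * K.z ^ b.val) = 1 ∧ l σ * K.z ^ b.val ≠ 1 ∧ l σ * K.z ^ b.val ≠ K.z := by
    intro σ b
    obtain ⟨h2, h3, h4⟩ := type_facts σ.2
    refine ⟨K.sq_eq_one_iff.2 ⟨by rw [hπ]; exact h2, by rw [hπ, h3]⟩, ?_, ?_⟩
    · intro h5
      have h6 := hπ σ b
      rw [h5, map_one] at h6
      rw [← h6] at h3
      revert h3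
      decide
    · intro h5
      have h6 := hπ σ b
      rw [h5, K.π_z] at h6
      rw [← h6] at h3
      revert h3
      decide
  refine Nat.card_le_card_of_injective (fun p => ⟨l p.1 * K.z ^ p.2.val, hmem p.1 p.2⟩) ?_
  rintro ⟨σ, b⟩ ⟨τ, c⟩ h
  have h2 : l σ * K.z ^ b.val = l τ * K.z ^ c.val := congrArg Subtype.val h
  have h3 : σ = τ := by
    apply Subtype.ext
    rw [← hπ σ b, ← hπ τ c, h2]
  subst h3
  have h4 := mul_left_cancel h2
  refine Prod.ext rfl ?_
  have hb : ∀ b : Fin 2, b = 0 ∨ b = 1 := by decide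
  rcases hb b with rfl | rfl <;> rcases hb c with rfl | rfl
  · rfl
  · exfalso
    rw [Fin.val_zero, pow_zero, Fin.val_one, pow_one] at h4
    exact K.z_ne h4.symm
  · exfalso
    rw [Fin.val_zero, pow_zero, Fin.val_one, pow_one] at h4
    exact K.z_ne h4
  · rfl

end cover

/-! ### the group -/

section main

theorem sq_one {t : T} (ht : orderOf t = 2) : t * t = 1 := by rw [← pow_two, ← ht, pow_orderOf_eq_one]

theorem ne_one {t : T} (ht : orderOf t = 2) : t ≠ 1 := by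
  rintro rfl
  rw [orderOf_one] at ht
  omega

theorem ord_two {t : T} (h : t * t = 1) (h1 : t ≠ 1) : orderOf t = 2 := orderOf_eq_prime (by rw [pow_two, h]) h1

variable (L : MT 11 T)

include L in
theorem card_cent {t : T} (ht : orderOf t = 2) : Nat.card (centralizer ({t} : Set T)) = 39916800 := by
  obtain ⟨L', rfl⟩ := L.exists_rebase (sq_one ht) (ne_one ht)
  exact card_C L'.K

include L in
theorem index_cent (hT : Nat.card T = 51765179004000000) {t : T} (ht : orderOf t = 2) :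
    (centralizer ({t} : Set T)).index = 1296826875 := by
  have h1 := (centralizer ({t} : Set T)).index_mul_card
  rw [card_cent L ht, hT] at h1
  omega

theorem z_mem {A : Subgroup T} (hA : L.t ∈ A) : L.K.z ∈ A.subgroupOf (centralizer ({L.t} : Set T)) := by
  rw [Subgroup.mem_subgroupOf, L.hz]
  exact hA

/-- (A') -/
theorem exists_second' {A : Subgroup T} (hA : L.t ∈ A) (h : A.relIndex (centralizer ({L.t} : Set T)) ≤ 66) :
    ∃ s ∈ A, orderOf s = 2 ∧ s ≠ L.t ∧ s * L.t = L.t * s := by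
  obtain ⟨g, hg, h1, h2, h3⟩ := exists_second L.K (z_mem L hA) h
  refine ⟨g, hg, ord_two (congrArg Subtype.val h1) (fun e => h2 (Subtype.ext e)),
    fun e => h3 (Subtype.ext (e.trans L.hz.symm)), mem_centralizer_singleton_iff.1 g.2⟩

/-- (B') -/
theorem nat_stab' {A : Subgroup T} (hA : L.t ∈ A) (h : A.relIndex (centralizer ({L.t} : Set T)) ≤ 13) :
    centralizer ({L.t} : Set T) ≤ A ∨ (A.relIndex (centralizer ({L.t} : Set T)) = 11 ∧
      ∃ i : Fin 11, ∀ g : centralizer ({L.t} : Set T), (g : T) ∈ A ↔ L.K.π g i = i) := by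
  by_cases h1 : centralizer ({L.t} : Set T) ≤ A
  · exact Or.inl h1
  · right
    obtain ⟨h2, i, hi⟩ := nat_stab L.K (z_mem L hA) (fun h2 => h1 (Subgroup.subgroupOf_eq_top.1 h2)) h
    exact ⟨h2, i, fun g => hi g⟩

/-- (C') -/
theorem le_relIndex {s : T} (hs : orderOf s = 2) (hst : s ≠ L.t) (hc : s * L.t = L.t * s) :
    34650 ≤ (centralizer ({s} : Set T)).relIndex (centralizer ({L.t} : Set T)) := by
  refine (card_inv L.K).trans ?_
  let s' : centralizer ({L.t} : Set T) := ⟨s, mem_centralizer_singleton_iff.2 hc⟩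
  have hex : ∀ r : {g : centralizer ({L.t} : Set T) // g * g = 1 ∧ g ≠ 1 ∧ g ≠ L.K.z}, ∃ c : centralizer ({L.t} : Set T),
      c * s' * c⁻¹ = r := by
    intro r
    refine Cfsg.Agent.SporRec.LyType.isConj_of_involutions L.K (by rw [Fintype.card_fin]; norm_num)
      (Subtype.ext (sq_one hs)) (fun e => ne_one hs (congrArg Subtype.val e))
      (fun e => hst ((congrArg Subtype.val e).trans L.hz)) r.2.1 r.2.2.1 r.2.2.2
  choose c hc using hex
  rw [Subgroup.relIndex, Subgroup.index]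
  refine Nat.card_le_card_of_injective (fun r => (c r : centralizer ({L.t} : Set T) ⧸
    (centralizer ({s} : Set T)).subgroupOf (centralizer ({L.t} : Set T)))) ?_
  intro r r' h
  have h1 := QuotientGroup.eq.1 h
  rw [Subgroup.mem_subgroupOf, mem_centralizer_singleton_iff] at h1
  have h2 : (c r)⁻¹ * c r' * s' = s' * ((c r)⁻¹ * c r') := Subtype.ext h1
  apply Subtype.ext
  rw [← hc r, ← hc r']
  calc c r * s' * (c r)⁻¹ = c r * (s' * ((c r)⁻¹ * c r')) * (c r')⁻¹ := by group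
    _ = c r * ((c r)⁻¹ * c r' * s') * (c r')⁻¹ := by rw [h2]
    _ = c r' * s' * (c r')⁻¹ := by group

/-- (D') -/
theorem step {A : Subgroup T} {t : T} (ht : orderOf t = 2) (h : centralizer ({t} : Set T) ≤ A) (hst : L.t ≠ t)
    (hc : L.t * t = t * L.t) (h13 : A.relIndex (centralizer ({L.t} : Set T)) ≤ 13) : centralizer ({L.t} : Set T) ≤ A := by
  have hA : L.t ∈ A := h (mem_centralizer_singleton_iff.2 hc)
  rcases nat_stab' L hA h13 with h1 | ⟨-, i, hi⟩
  · exact h1
  · exfalso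
    let t' : centralizer ({L.t} : Set T) := ⟨t, mem_centralizer_singleton_iff.2 hc.symm⟩
    have h2 : ∀ g : centralizer ({L.t} : Set T), (g : T) * t = t * g → L.K.π g i = i := fun g hg =>
      (hi g).1 (h (mem_centralizer_singleton_iff.2 hg))
    have hi' : L.K.π t' i = i := h2 t' rfl
    have h8 : (L.K.π t').support.card = 8 := card_support_eq_eight L.K (by rw [Fintype.card_fin]; norm_num)
      (Subtype.ext (sq_one ht)) (fun e => ne_one ht (congrArg Subtype.val e))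
      (fun e => hst ((congrArg Subtype.val e).trans L.hz).symm)
    have h3 : ((L.K.π t').supportᶜ).card = 3 := by
      rw [Finset.card_compl, h8, Fintype.card_fin]
    have h4 : ((L.K.π t').supportᶜ.erase i).card = 2 := by
      rw [Finset.card_erase_of_mem (by rw [Finset.mem_compl, Perm.notMem_support]; exact hi'), h3]
    obtain ⟨j, k, hjk, hjk'⟩ := Finset.card_eq_two.1 h4
    have hj : j ∈ (L.K.π t').supportᶜ.erase i := by rw [hjk']; exact Finset.mem_insert_self _ _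
    have hk : k ∈ (L.K.π t').supportᶜ.erase i := by
      rw [hjk']; exact Finset.mem_insert_of_mem (Finset.mem_singleton_self _)
    rw [Finset.mem_erase, Finset.mem_compl, Perm.notMem_support] at hj hk
    obtain ⟨y, hy⟩ := L.K.exists_lift (Cover.swap_mul_swap_mem i j j k hj.1.symm hjk)
    have hd : (L.K.π y).Disjoint (L.K.π t') := by
      intro x
      rw [hy]
      by_cases hx : x = i ∨ x = j ∨ x = k
      · right
        rcases hx with rfl | rfl | rfl
        · exact hi'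
        · exact hj.2
        · exact hk.2
      · left
        push Not at hx
        rw [Perm.mul_apply, swap_apply_of_ne_of_ne hx.2.1 hx.2.2, swap_apply_of_ne_of_ne hx.1 hx.2.1]
    have h5 := L.K.commute_of_disjoint hd
    have h6 := h2 y (congrArg Subtype.val h5)
    rw [hy, Perm.mul_apply, swap_apply_of_ne_of_ne hj.1.symm hk.1.symm, swap_apply_left] at h6
    exact hj.1 h6

end main

end Cfsg.Agent.H698.IFLy
end

-- part: H698/IF/LyB
section
/-!
# S5719, the Lyons group: fixed points of involutions on the cosets of `A` (helper698)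

If `C_A(t) = 2.A₁₀` for all involutions `t` of `A` and `t` fixes at most 13 points then `|T : A| ≡ 27 mod 32`.
-/

set_option autoImplicit false
set_option linter.unusedSectionVars false
set_option maxRecDepth 100000

namespace Cfsg.Agent.H698.IFLy

open Equiv Subgroup Cfsg.Agent.TypeM.Two Cfsg.Agent.SporRec.TwoAn
open Cfsg.Agent.SporRec.LyType (conjCentEquiv conjCentEquiv_coe card_support_eq_eight)
open Cfsg.Agent.H677.SE (exists_sylow exists_cen exists_into ord_conj)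

variable {T : Type*} [Group T] [Finite T]

/-- (E') -/
theorem all_of_one (L : MT 11 T) {A : Subgroup T}
    (h13 : ∀ t ∈ A, orderOf t = 2 → A.relIndex (centralizer ({t} : Set T)) ≤ 13)
    {t : T} (ht : orderOf t = 2) (htA : centralizer ({t} : Set T) ≤ A) {u : T} (huA : u ∈ A) (hu : orderOf u = 2) :
    centralizer ({u} : Set T) ≤ A := by
  have hstep : ∀ t s : T, orderOf t = 2 → orderOf s = 2 → s * t = t * s → centralizer ({t} : Set T) ≤ A →
      centralizer ({s} : Set T) ≤ A := by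
    intro t s ht hs hc h
    by_cases hst : s = t
    · rw [hst]; exact h
    · obtain ⟨L', rfl⟩ := L.exists_rebase (sq_one hs) (ne_one hs)
      exact step L' ht h hst hc (h13 _ (h (mem_centralizer_singleton_iff.2 hc)) hs)
  obtain ⟨P, htP⟩ := exists_sylow ht
  obtain ⟨z, hzP, hz, hzc⟩ := exists_cen P htP ht
  have hzA : centralizer ({z} : Set T) ≤ A := hstep t z ht hz (hzc t htP) htA
  have hPA : (P : Subgroup T) ≤ A := fun x hx => hzA (mem_centralizer_singleton_iff.2 (hzc x hx).symm)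
  obtain ⟨a, haA, ha⟩ := exists_into P hPA hu huA
  have h1 := hstep z (a * u * a⁻¹) hz (ord_conj a hu) (hzc _ ha).symm hzA
  intro x hx
  rw [mem_centralizer_singleton_iff] at hx
  have h2 : a * x * a⁻¹ ∈ A := by
    apply h1
    rw [mem_centralizer_singleton_iff]
    calc a * x * a⁻¹ * (a * u * a⁻¹) = a * (x * u) * a⁻¹ := by group
      _ = a * (u * x) * a⁻¹ := by rw [hx]
      _ = _ := by group
  have h3 := A.mul_mem (A.mul_mem (A.inv_mem haA) h2) haA
  have h4 : a⁻¹ * (a * x * a⁻¹) * a = x := by group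
  rwa [h4] at h3

theorem smul_eq_iff {A : Subgroup T} {g y : T} : g • (y : T ⧸ A) = y ↔ y⁻¹ * g * y ∈ A := by
  have : g • (y : T ⧸ A) = ((g * y : T) : T ⧸ A) := rfl
  rw [this, eq_comm, QuotientGroup.eq, mul_assoc]

/-- natural action at the base point -/
def Nat' (A : Subgroup T) : Prop := ∀ M : MT 11 T, M.t ∈ A →
  ∃ i : Fin 11, ∀ g : centralizer ({M.t} : Set T), (g : T) ∈ A ↔ M.K.π g i = i

/-- natural action at every fixed point -/
theorem nat_pt {A : Subgroup T} (hN : Nat' A) (L : MT 11 T) {β : T ⧸ A} (hβ : L.t • β = β) :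
    ∃ i : Fin 11, ∀ g : centralizer ({L.t} : Set T), (g : T) • β = β ↔ L.K.π g i = i := by
  obtain ⟨y, rfl⟩ := QuotientGroup.mk_surjective β
  have h1 := smul_eq_iff.1 hβ
  have h0 : y⁻¹ * L.t * y⁻¹⁻¹ = y⁻¹ * L.t * y⁻¹⁻¹ := rfl
  obtain ⟨i, hi⟩ := hN (L.rebase y⁻¹ h0) (by
    show y⁻¹ * L.t * y⁻¹⁻¹ ∈ A
    rw [inv_inv]
    exact h1)
  refine ⟨i, fun g => ?_⟩
  have h2 := hi (conjCentEquiv y⁻¹ h0 g)
  have h3 : (L.rebase y⁻¹ h0).K.π (conjCentEquiv y⁻¹ h0 g) = L.K.π g :=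
    congrArg L.K.π ((conjCentEquiv y⁻¹ h0).symm_apply_apply g)
  rw [h3, conjCentEquiv_coe, inv_inv] at h2
  rw [← h2]
  exact smul_eq_iff

theorem exists_even : ∀ i j : Fin 11, ∃ k : Fin 11, ((finRotate 11) ^ k.val) i = j := by decide +kernel

theorem exists_lift' (L : MT 11 T) (i j : Fin 11) : ∃ g : centralizer ({L.t} : Set T), L.K.π g i = j := by
  obtain ⟨k, hk⟩ := exists_even i j
  have h7 : finRotate 11 ∈ alternatingGroup (Fin 11) := by
    rw [Perm.mem_alternatingGroup]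
    decide +kernel
  obtain ⟨g, hg⟩ := L.K.exists_lift (Subgroup.pow_mem _ h7 k.val)
  exact ⟨g, by rw [hg, hk]⟩

theorem exists_phi {A : Subgroup T} (L : MT 11 T) {β : T ⧸ A} {i : Fin 11}
    (hβ : ∀ g : centralizer ({L.t} : Set T), (g : T) • β = β ↔ L.K.π g i = i) :
    ∃ φ : Fin 11 → T ⧸ A, Function.Injective φ ∧
      (∀ (k : centralizer ({L.t} : Set T)) (j : Fin 11), (k : T) • φ j = φ (L.K.π k j)) ∧ φ i = β := by
  choose γ hγ using exists_lift' L i
  have key : ∀ k : centralizer ({L.t} : Set T), (k : T) • β = (γ (L.K.π k i) : T) • β := by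
    intro k
    have h1 : L.K.π ((γ (L.K.π k i))⁻¹ * k) i = i := by
      rw [map_mul, map_inv, Perm.mul_apply, Perm.inv_eq_iff_eq, hγ]
    have h2 := (hβ _).2 h1
    rw [Subgroup.coe_mul, Subgroup.coe_inv, mul_smul, inv_smul_eq_iff] at h2
    exact h2
  refine ⟨fun j => (γ j : T) • β, ?_, ?_, ?_⟩
  · intro j k hjk
    have h1 : (((γ k)⁻¹ * γ j : centralizer ({L.t} : Set T)) : T) • β = β := by
      rw [Subgroup.coe_mul, Subgroup.coe_inv, mul_smul, inv_smul_eq_iff]
      exact hjk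
    have h2 := (hβ _).1 h1
    rw [map_mul, map_inv, Perm.mul_apply, Perm.inv_eq_iff_eq, hγ, hγ] at h2
    exact h2
  · intro k j
    show (k : T) • (γ j : T) • β = (γ (L.K.π k j) : T) • β
    have h1 := key (k * γ j)
    rw [Subgroup.coe_mul, mul_smul, map_mul, Perm.mul_apply, hγ] at h1
    exact h1
  · have h1 := key 1
    rw [Subgroup.coe_one, one_smul, map_one, Perm.one_apply] at h1
    exact h1.symm

/-- the fixed points -/
def F (A : Subgroup T) (u : T) : Set (T ⧸ A) := {β | u • β = β}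

theorem mem_F {A : Subgroup T} {u : T} {β : T ⧸ A} : β ∈ F A u ↔ u • β = β := Iff.rfl

/-- one orbit -/
theorem exists_phi' {A : Subgroup T} (hN : Nat' A) (L : MT 11 T) (hne : (F A L.t).Nonempty)
    (h13 : (F A L.t).ncard ≤ 13) :
    ∃ φ : Fin 11 → T ⧸ A, Function.Injective φ ∧
      (∀ (k : centralizer ({L.t} : Set T)) (j : Fin 11), (k : T) • φ j = φ (L.K.π k j)) ∧ Set.range φ = F A L.t := by
  have ht : L.t ∈ centralizer ({L.t} : Set T) := mem_centralizer_singleton_iff.2 rfl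
  have hπt : L.K.π ⟨L.t, ht⟩ = 1 := by
    rw [L.K.ker]
    exact Or.inr (Subtype.ext L.hz.symm)
  have hrange : ∀ φ : Fin 11 → T ⧸ A, (∀ (k : centralizer ({L.t} : Set T)) (j : Fin 11), (k : T) • φ j = φ (L.K.π k j)) →
      Set.range φ ⊆ F A L.t := by
    rintro φ hφ _ ⟨j, rfl⟩
    have h1 := hφ ⟨L.t, ht⟩ j
    rw [hπt, Perm.one_apply] at h1
    exact h1
  obtain ⟨β, hβ⟩ := hne
  obtain ⟨i, hi⟩ := nat_pt hN L hβ
  obtain ⟨φ, hφ1, hφ2, hφ3⟩ := exists_phi L hi
  refine ⟨φ, hφ1, hφ2, le_antisymm (hrange φ hφ2) ?_⟩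
  intro β' hβ'
  by_contra hcon
  obtain ⟨i', hi'⟩ := nat_pt hN L hβ'
  obtain ⟨φ', hφ1', hφ2', hφ3'⟩ := exists_phi L hi'
  have hd : Disjoint (Set.range φ) (Set.range φ') := by
    rw [Set.disjoint_left]
    rintro _ ⟨j, rfl⟩ ⟨j', hj'⟩
    apply hcon
    obtain ⟨k, hk⟩ := exists_lift' L j' i'
    refine ⟨L.K.π k j, ?_⟩
    rw [← hφ2, ← hj', hφ2', hk, hφ3']
  have h1 : (Set.range φ ∪ Set.range φ').ncard = 22 := by
    rw [Set.ncard_union_eq hd (Set.toFinite _) (Set.toFinite _), ← Set.image_univ, ← Set.image_univ,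
      Set.ncard_image_of_injective _ hφ1, Set.ncard_image_of_injective _ hφ1', Set.ncard_univ, Nat.card_eq_fintype_card,
      Fintype.card_fin]
  have h2 := Set.ncard_le_ncard (Set.union_subset (hrange φ hφ2) (hrange φ' hφ2')) (Set.toFinite _)
  omega

theorem ncard_F {A : Subgroup T} (hN : Nat' A) (L : MT 11 T) (hne : (F A L.t).Nonempty) (h13 : (F A L.t).ncard ≤ 13) :
    (F A L.t).ncard = 11 := by
  obtain ⟨φ, hφ1, -, hφ3⟩ := exists_phi' hN L hne h13
  rw [← hφ3, ← Set.image_univ, Set.ncard_image_of_injective _ hφ1, Set.ncard_univ, Nat.card_eq_fintype_card,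
      Fintype.card_fin]

theorem ncard_inter {A : Subgroup T} (hN : Nat' A) (L : MT 11 T) (hne : (F A L.t).Nonempty)
    (h13 : (F A L.t).ncard ≤ 13) {s : centralizer ({L.t} : Set T)} (hs : (L.K.π s).support.card = 8) :
    (F A L.t ∩ F A (s : T)).ncard = 3 := by
  obtain ⟨φ, hφ1, hφ2, hφ3⟩ := exists_phi' hN L hne h13
  have h1 : F A L.t ∩ F A (s : T) = φ '' ((L.K.π s).supportᶜ : Finset (Fin 11)) := by
    ext β
    rw [← hφ3]
    constructor
    · rintro ⟨⟨j, rfl⟩, hj⟩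
      refine ⟨j, ?_, rfl⟩
      rw [mem_F, hφ2] at hj
      rw [Finset.mem_coe, Finset.mem_compl, Perm.notMem_support]
      exact hφ1 hj
    · rintro ⟨j, hj, rfl⟩
      rw [Finset.mem_coe, Finset.mem_compl, Perm.notMem_support] at hj
      refine ⟨⟨j, rfl⟩, ?_⟩
      rw [mem_F, hφ2, hj]
  rw [h1, Set.ncard_image_of_injective _ hφ1, Set.ncard_coe_finset, Finset.card_compl, hs, Fintype.card_fin]

/-- points with a trivial stabiliser -/
theorem card_mod {Q X : Type*} [Group Q] [Finite Q] [MulAction Q X] [Finite X] :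
    ∃ k, Nat.card X = {x : X | ∃ q : Q, q ≠ 1 ∧ q • x = x}.ncard + k * Nat.card Q := by
  set U : Set X := {x : X | ∃ q : Q, q ≠ 1 ∧ q • x = x} with hU
  let Y : SubMulAction Q X :=
    { carrier := Uᶜ
      smul_mem' := by
        intro g x hx hgx
        apply hx
        obtain ⟨q, hq, hqx⟩ := hgx
        refine ⟨g⁻¹ * q * g, ?_, ?_⟩
        · intro h
          apply hq
          have h1 : q = g * (g⁻¹ * q * g) * g⁻¹ := by group
          rw [h1, h]
          group
        · rw [mul_smul, mul_smul, hqx, inv_smul_smul] }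
  have h1 : Nat.card Q ∣ Nat.card Y := by
    apply card_dvd_of_free
    rintro g hg ⟨x, hx⟩ h
    exact hx ⟨g, hg, congrArg Subtype.val h⟩
  obtain ⟨k, hk⟩ := h1
  refine ⟨k, ?_⟩
  have h2 : Nat.card Y = Uᶜ.ncard := rfl
  rw [mul_comm k, ← hk, h2, Set.ncard_add_ncard_compl]

theorem arith1 {a b c d : ℕ} (h1 : a * b = 39916800) (h3 : a * c = d) (h4 : d * 16 = 39916800)
    (h5 : c * 19958400 = 39916800) : b = 32 := by
  have h7 : c = 2 := by omega
  subst h7
  have h8 : a = 1247400 := by omega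
  subst h8
  omega

/-- the preimage of the group `4 × 4` -/
theorem card_Q (L : MT 11 T) : Nat.card (Q16.comap L.K.π) = 32 := by
  have h1 := (Q16.comap L.K.π).index_mul_card
  rw [Subgroup.index_comap, L.K.range_eq, card_C L.K] at h1
  have h2 : Q16 ≤ alternatingGroup (Fin 11) := by
    rintro _ ⟨i, j, rfl⟩
    exact ab_mem i j
  have h3 := Subgroup.relIndex_mul_index h2
  have h4 := Q16.index_mul_card
  rw [card_Q16, Nat.card_eq_fintype_card, Fintype.card_perm, Fintype.card_fin] at h4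
  have h5 := (alternatingGroup (Fin 11)).index_mul_card
  rw [card_alt, Nat.card_eq_fintype_card, Fintype.card_perm, Fintype.card_fin] at h5
  have h6 : Nat.factorial 11 = 39916800 := by decide
  rw [h6] at h4 h5
  exact arith1 h1 h3 h4 h5

theorem index_mod {A : Subgroup T} (hN : Nat' A) (L : MT 11 T)
    (hF : ∀ u : T, orderOf u = 2 → (F A u).Nonempty ∧ (F A u).ncard ≤ 13) : A.index % 32 = 27 := by
  obtain ⟨s, hs⟩ := L.K.exists_lift (ab_mem 2 2)
  have hss : s * s = 1 := L.K.sq_eq_one_iff.2 ⟨by rw [hs]; exact ab22_sq, by rw [hs, ab22_supp]⟩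
  have h22 : ab 2 2 ≠ 1 := by
    intro h
    have := ab22_supp
    rw [h] at this
    revert this
    decide
  have hs1 : s ≠ 1 := by
    rintro rfl
    rw [map_one] at hs
    exact h22 hs.symm
  have hsz : s ≠ L.K.z := by
    rintro rfl
    rw [L.K.π_z] at hs
    exact h22 hs.symm
  have hszz : s * L.K.z ≠ 1 := by
    intro h
    apply hsz
    rw [mul_eq_one_iff_eq_inv, L.K.z_inv] at h
    exact h
  have hsz2 : s * L.K.z * (s * L.K.z) = 1 := by
    calc s * L.K.z * (s * L.K.z) = s * (L.K.z * s) * L.K.z := by group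
      _ = s * (s * L.K.z) * L.K.z := by rw [← L.K.z_comm s]
      _ = (s * s) * (L.K.z * L.K.z) := by group
      _ = 1 := by rw [hss, L.K.z_mul_z, one_mul]
  have ht2 : orderOf L.t = 2 := L.orderOf_t
  have hs2 : orderOf (s : T) = 2 := ord_two (congrArg Subtype.val hss) (fun e => hs1 (Subtype.ext e))
  have hr2 : orderOf ((s * L.K.z : centralizer ({L.t} : Set T)) : T) = 2 :=
    ord_two (congrArg Subtype.val hsz2) (fun e => hszz (Subtype.ext e))
  have h11 : ∀ u : T, orderOf u = 2 → (F A u).ncard = 11 := by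
    intro u hu
    obtain ⟨L', rfl⟩ := L.exists_rebase (sq_one hu) (ne_one hu)
    exact ncard_F hN L' (hF _ hu).1 (hF _ hu).2
  have h3 : (F A L.t ∩ F A (s : T)).ncard = 3 :=
    ncard_inter hN L (hF _ ht2).1 (hF _ ht2).2 (by rw [hs, ab22_supp])
  set r : T := ((s * L.K.z : centralizer ({L.t} : Set T)) : T) with hr
  have hrst : r = (s : T) * L.t := by rw [hr, Subgroup.coe_mul, L.hz]
  have hUi : (F A L.t ∪ F A (s : T)) ∩ F A r = F A L.t ∩ F A (s : T) := by
    ext β
    simp only [Set.mem_inter_iff, Set.mem_union, mem_F]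
    rw [hrst, mul_smul]
    constructor
    · rintro ⟨h | h, h'⟩
      · rw [h] at h'
        exact ⟨h, h'⟩
      · have h4 : (s : T) • L.t • β = (s : T) • β := by rw [h', h]
        exact ⟨smul_left_cancel _ h4, h⟩
    · rintro ⟨h, h'⟩
      exact ⟨Or.inl h, by rw [h, h']⟩
  have hU27 : ((F A L.t ∪ F A (s : T)) ∪ F A r).ncard = 27 := by
    have h4 := Set.ncard_union_add_ncard_inter (F A L.t) (F A (s : T)) (Set.toFinite _) (Set.toFinite _)
    have h5 := Set.ncard_union_add_ncard_inter (F A L.t ∪ F A (s : T)) (F A r) (Set.toFinite _) (Set.toFinite _)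
    rw [hUi, h3, h11 r hr2] at h5
    rw [h3, h11 _ ht2, h11 _ hs2] at h4
    omega
  obtain ⟨k, hk⟩ := card_mod (Q := Q16.comap L.K.π) (X := T ⧸ A)
  have hQc := card_Q L
  have hU : {x : T ⧸ A | ∃ q : Q16.comap L.K.π, q ≠ 1 ∧ q • x = x} = (F A L.t ∪ F A (s : T)) ∪ F A r := by
    ext x
    constructor
    · rintro ⟨q, hq1, hqx⟩
      have hd : orderOf q ∣ 2 ^ 5 := by
        have := orderOf_dvd_natCard q
        rwa [hQc] at this
      obtain ⟨m, hm, hm2⟩ := (Nat.dvd_prime_pow Nat.prime_two).1 hd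
      have hm0 : m ≠ 0 := by
        rintro rfl
        rw [pow_zero, orderOf_eq_one_iff] at hm2
        exact hq1 hm2
      obtain ⟨l, rfl⟩ := Nat.exists_eq_succ_of_ne_zero hm0
      set p := q ^ (2 ^ l) with hp
      have hp2 : orderOf p = 2 := by
        rw [hp, orderOf_pow, hm2, Nat.gcd_eq_right (pow_dvd_pow 2 (Nat.le_succ l)), Nat.succ_eq_add_one, pow_succ]
        exact Nat.mul_div_cancel_left 2 (pow_pos (by norm_num) l)
      have hpx : p • x = x := by
        have h4 : q ∈ MulAction.stabilizer (Q16.comap L.K.π) x := hqx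
        exact (MulAction.stabilizer (Q16.comap L.K.π) x).pow_mem h4 _
      have hpp : (p : centralizer ({L.t} : Set T)) * p = 1 := by
        have : p * p = 1 := by rw [← pow_two, ← hp2, pow_orderOf_eq_one]
        exact congrArg Subtype.val this
      have hp1 : (p : centralizer ({L.t} : Set T)) ≠ 1 := by
        intro h4
        have h5 : p = 1 := Subtype.ext h4
        rw [h5, orderOf_one] at hp2
        omega
      obtain ⟨h4, h5⟩ := L.K.sq_eq_one_iff.1 hpp
      obtain ⟨i, j, hij⟩ : L.K.π p ∈ Q16 := p.2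
      rw [hij] at h4 h5
      rcases ab_invol i j h4 h5 with h6 | h6
      · rw [h6] at hij
        rcases (L.K.ker _).1 hij with h7 | h7
        · exact absurd h7 hp1
        · left; left
          have h8 : ((p : centralizer ({L.t} : Set T)) : T) = L.t := by rw [h7, L.hz]
          rw [mem_F, ← h8]
          exact hpx
      · rw [h6, ← hs] at hij
        rcases L.K.lift_eq hij with h7 | h7
        · left; right
          rw [mem_F, ← h7]
          exact hpx
        · right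
          rw [mem_F, hr, ← h7]
          exact hpx
    · have hQ : ∀ (c : centralizer ({L.t} : Set T)), L.K.π c ∈ Q16 → c ≠ 1 → (c : T) • x = x →
          x ∈ {x : T ⧸ A | ∃ q : Q16.comap L.K.π, q ≠ 1 ∧ q • x = x} := by
        intro c hc hc1 hcx
        exact ⟨⟨c, hc⟩, fun e => hc1 (congrArg Subtype.val e), hcx⟩
      rintro ((h | h) | h)
      · exact hQ L.K.z (by rw [L.K.π_z]; exact one_mem _) L.K.z_ne (by rw [L.hz]; exact h)
      · exact hQ s (by rw [hs]; exact ⟨2, 2, rfl⟩) hs1 h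
      · exact hQ (s * L.K.z) (by rw [map_mul, L.K.π_z, mul_one, hs]; exact ⟨2, 2, rfl⟩) hszz h
  rw [hU, hU27, hQc] at hk
  have h4 : A.index = Nat.card (T ⧸ A) := rfl
  rw [h4, hk]
  omega

end Cfsg.Agent.H698.IFLy
end

-- part: H698/IF/Ly
section
/-!
# S5719, the row of the Lyons group (helper698)

`t ∈ A`: `|C(t) : C_A(t)| ≤ 66`, so `A` contains a second involution of `C(t)`, `f(t) ≤ 13` and `C_A(t) = C(t)` or `2.A₁₀`.
If `C(t) ≤ A` for one `t` then for all, `kill_inner`. Otherwise `f(t) = 11`, `n ≡ 27 mod 32`, `n ∣ 3³·5⁴·11·31·37·67`,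
`11⁶ < n ≤ 4528601`: impossible.
-/

set_option autoImplicit false
set_option linter.unusedSectionVars false

namespace Cfsg.Agent.H698.IFLy

open Equiv Subgroup Cfsg.Agent.TypeM.Two Cfsg.Agent.SporRec.TwoAn Cfsg.Agent.H209.Fxy

variable {T : Type*} [Group T] [Finite T]

theorem check : (List.range 4904).all (fun k => !(14265095625 % (3150 + k) == 0 && (14265095625 / (3150 + k)) % 32 == 27)) = true := by
  decide +kernel

theorem arith {n m : ℕ} (h : n * m = 14265095625) (h1 : 11 ^ 6 < n) (h2 : n * 34650 ≤ 11 * 11 * 1296826875)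
    (h3 : n % 32 = 27) : False := by
  have hm0 : 0 < m := by
    rcases Nat.eq_zero_or_pos m with rfl | h0
    · omega
    · exact h0
  have hn : n ≤ 4528601 := by omega
  have hm1 : 3150 ≤ m := by
    by_contra hcon
    have h4 : m ≤ 3149 := by omega
    have h5 : n * m ≤ 4528601 * 3149 := Nat.mul_le_mul hn h4
    omega
  have hm2 : m < 3150 + 4904 := by
    by_contra hcon
    have h4 : 8054 ≤ m := by omega
    have h5 : 1771562 * 8054 ≤ n * m := Nat.mul_le_mul (by omega) h4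
    omega
  have h4 := List.all_eq_true.1 check (m - 3150) (List.mem_range.2 (by omega))
  have h5 : 3150 + (m - 3150) = m := by omega
  rw [h5, ← h, Nat.mul_mod_left, Nat.mul_div_cancel _ hm0, h3] at h4
  revert h4
  decide

theorem fixSet_eq {A : Subgroup T} {t : T} (ht : t ∈ A) : fixSet A (MulAut.conj t) = F A t := by
  ext c
  constructor
  · rintro ⟨y, rfl, hy⟩
    rw [mem_F, smul_eq_iff]
    have h1 := A.mul_mem hy ht
    rw [MulAut.conj_apply] at h1
    have h2 : y⁻¹ * (t * y * t⁻¹) * t = y⁻¹ * t * y := by group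
    rwa [h2] at h1
  · intro h
    obtain ⟨y, rfl⟩ := QuotientGroup.mk_surjective c
    rw [mem_F, smul_eq_iff] at h
    refine ⟨y, rfl, ?_⟩
    rw [MulAut.conj_apply]
    have h1 := A.mul_mem h (A.inv_mem ht)
    have h2 : y⁻¹ * t * y * t⁻¹ = y⁻¹ * (t * y * t⁻¹) := by group
    rwa [h2] at h1

theorem ncard_F_conj {A : Subgroup T} (g t : T) : (F A (g * t * g⁻¹)).ncard = (F A t).ncard := by
  have h1 : F A (g * t * g⁻¹) = (fun β : T ⧸ A => g • β) '' F A t := by
    ext β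
    constructor
    · intro h
      refine ⟨g⁻¹ • β, ?_, smul_inv_smul g β⟩
      rw [mem_F] at h ⊢
      rw [mul_smul, mul_smul] at h
      rw [eq_inv_smul_iff]
      exact h
    · rintro ⟨γ, hγ, rfl⟩
      rw [mem_F] at hγ ⊢
      show (g * t * g⁻¹) • g • γ = g • γ
      rw [mul_smul, inv_smul_smul, mul_smul, hγ]
  rw [h1]
  exact Set.ncard_image_of_injective _ (MulAction.injective g)

theorem main [IsSimpleGroup T] (hna : ∃ a b : T, a * b ≠ b * a) (hT : Nat.card T = 51765179004000000) (L : MT 11 T)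
    (hin : ∀ σ : MulAut T, ∃ a : T, σ = MulAut.conj a) {A : Subgroup T} {Γ : Subgroup (MulAut T)} (h : IF A Γ) : False := by
  -- the first bound
  have h66 : ∀ t ∈ A, orderOf t = 2 → A.relIndex (centralizer ({t} : Set T)) ≤ 66 := by
    intro t ht ht2
    have h1 := ((Cfsg.Agent.H999.IFB.IF.E2' h hna ht ht2).2.2.2.2 _ le_rfl).1
    rw [index_cent L hT ht2] at h1
    by_contra hcon
    have h2 : 67 ^ 5 ≤ A.relIndex (centralizer ({t} : Set T)) ^ 5 := Nat.pow_le_pow_left (by omega) 5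
    omega
  have hsec : ∀ t ∈ A, orderOf t = 2 → ∃ s ∈ A, orderOf s = 2 ∧ s ≠ t ∧ s * t = t * s ∧
      34650 ≤ (centralizer ({s} : Set T)).relIndex (centralizer ({t} : Set T)) := by
    intro t ht ht2
    obtain ⟨L', rfl⟩ := L.exists_rebase (sq_one ht2) (ne_one ht2)
    obtain ⟨s, hsA, hs2, hst, hc⟩ := exists_second' L' ht (h66 _ ht ht2)
    exact ⟨s, hsA, hs2, hst, hc, le_relIndex L' hs2 hst hc⟩
  -- the second bound
  have hf13 : ∀ t ∈ A, orderOf t = 2 → fx A (MulAut.conj t) ≤ 13 := by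
    intro t ht ht2
    obtain ⟨s, hsA, hs2, hst, hc, hle⟩ := hsec t ht ht2
    have h1 := (Cfsg.Agent.H809.IFC.IF.E4 h hna hsA ht hs2 ht2 hst hc).2.2.1
    rw [index_cent L hT hs2] at h1
    by_contra hcon
    have h2 : 14 ^ 4 ≤ fx A (MulAut.conj t) ^ 4 := Nat.pow_le_pow_left (by omega) 4
    have h3 : 14 ^ 4 * 34650 ≤ fx A (MulAut.conj t) ^ 4 * (centralizer ({s} : Set T)).relIndex (centralizer ({t} : Set T)) :=
      Nat.mul_le_mul h2 hle
    omega
  have h13 : ∀ t ∈ A, orderOf t = 2 → A.relIndex (centralizer ({t} : Set T)) ≤ 13 := by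
    intro t ht ht2
    refine le_trans ?_ (hf13 t ht ht2)
    refine (Cfsg.Agent.H999.IFB.IF.E1 h ((h.conj t).2 ht) (by rw [Cfsg.Agent.H999.IFB.orderOf_conj hna, ht2])
      (B := centralizer ({t} : Set T)) fun b hb => ?_).1
    rw [mem_centralizer_singleton_iff] at hb
    rw [MulAut.conj_apply, mul_inv_eq_iff_eq_mul]
    exact hb.symm
  by_cases hone : ∃ t ∈ A, orderOf t = 2 ∧ centralizer ({t} : Set T) ≤ A
  · obtain ⟨t, -, ht2, htc⟩ := hone
    exact Cfsg.Agent.H677.SE.kill_inner h hna (fun σ _ _ => hin σ)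
      (fun u hu hu2 => all_of_one L h13 ht2 htc hu hu2)
  · push Not at hone
    have hN : Nat' A := by
      intro M hM
      rcases nat_stab' M hM (h13 _ hM M.orderOf_t) with h1 | ⟨-, h1⟩
      · exact absurd h1 (hone _ hM M.orderOf_t)
      · exact h1
    -- an involution of `A`
    obtain ⟨σ, hσ, hσ2, -⟩ := h.ex
    obtain ⟨t, rfl⟩ := hin σ
    have htA : t ∈ A := (h.conj t).1 hσ
    have ht2 : orderOf t = 2 := by rw [← hσ2, Cfsg.Agent.H999.IFB.orderOf_conj hna]
    have hFt : (F A t).ncard ≤ 13 := by rw [← fixSet_eq htA]; exact hf13 t htA ht2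
    have hF : ∀ u : T, orderOf u = 2 → (F A u).Nonempty ∧ (F A u).ncard ≤ 13 := by
      intro u hu
      obtain ⟨g, hg⟩ := L.conj_of_involutions (sq_one ht2) (ne_one ht2) (sq_one hu) (ne_one hu)
      rw [← hg]
      refine ⟨⟨((g : T) : T ⧸ A), ?_⟩, by rw [ncard_F_conj]; exact hFt⟩
      rw [mem_F, smul_eq_iff]
      have h1 : g⁻¹ * (g * t * g⁻¹) * g = t := by group
      rw [h1]
      exact htA
    have hmod := index_mod hN L hF
    have h11 : ∀ u ∈ A, orderOf u = 2 → fx A (MulAut.conj u) = 11 := by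
      intro u huA hu
      obtain ⟨L', rfl⟩ := L.exists_rebase (sq_one hu) (ne_one hu)
      rw [fx, fixSet_eq huA]
      exact ncard_F hN L' (hF _ hu).1 (hF _ hu).2
    have hn1 : 11 ^ 6 < A.index := by
      have := h.small _ hσ hσ2
      rwa [h11 t htA ht2] at this
    obtain ⟨s, hsA, hs2, hst, hc, hle⟩ := hsec t htA ht2
    have hn2 : A.index * 34650 ≤ 11 * 11 * 1296826875 := by
      have h1 := (Cfsg.Agent.H809.IFC.IF.E4 h hna hsA htA hs2 ht2 hst hc).1
      rw [index_cent L hT hs2, h11 s hsA hs2, h11 t htA ht2] at h1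
      exact (Nat.mul_le_mul_left _ hle).trans h1
    -- the order
    have hidx : A.relIndex (centralizer ({t} : Set T)) = 11 := by
      obtain ⟨L', rfl⟩ := L.exists_rebase (sq_one ht2) (ne_one ht2)
      rcases nat_stab' L' htA (h13 _ htA ht2) with h1 | ⟨h1, -⟩
      · exact absurd h1 (hone _ htA ht2)
      · exact h1
    have hdvd : 3628800 ∣ Nat.card A := by
      have h1 := (A.subgroupOf (centralizer ({t} : Set T))).index_mul_card
      rw [show (A.subgroupOf (centralizer ({t} : Set T))).index = 11 from hidx, card_cent L ht2] at h1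
      have h2 : Nat.card (A.subgroupOf (centralizer ({t} : Set T))) = 3628800 := by omega
      rw [← h2]
      have h3 : (A.subgroupOf (centralizer ({t} : Set T))).map (centralizer ({t} : Set T)).subtype ≤ A := by
        rintro _ ⟨x, hx, rfl⟩
        exact hx
      have h4 := card_dvd_of_le h3
      rwa [Nat.card_congr ((A.subgroupOf (centralizer ({t} : Set T))).equivMapOfInjective _
        (subtype_injective _)).toEquiv.symm] at h4
    obtain ⟨m, hm⟩ := hdvd
    have hprod : A.index * m = 14265095625 := by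
      have h1 := A.index_mul_card
      rw [hm, hT] at h1
      have h2 : 3628800 * (A.index * m) = 3628800 * 14265095625 := by
        calc 3628800 * (A.index * m) = A.index * (3628800 * m) := by ring
          _ = _ := by rw [h1]
      exact Nat.eq_of_mul_eq_mul_left (by norm_num) h2
    exact arith hprod hn1 hn2 hmod

/-- **The row of the Lyons group.** -/
theorem row : Row fun T => Cfsg.Spor.IsoLy T := by
  intro T _ _ _ hna hLy A Γ h
  obtain ⟨-, -, hT, ⟨L⟩⟩ := Cfsg.Agent.TypeM.FactsLy.facts hLy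
  have hna' : ∃ a b : T, a * b ≠ b * a := by
    by_contra hcon
    push Not at hcon
    exact hna ⟨⟨hcon⟩⟩
  exact main hna' hT L (fun σ => by
    obtain ⟨a, ha⟩ := Cfsg.Agent.TypeM.OutLyFin.inner hLy σ
    exact ⟨a, ha.symm⟩) h

end Cfsg.Agent.H698.IFLy
end
end

-- part: H285/IF/HNa
section
prune_inst 0x7f0000000000000000000000000000000000000000000000000000000000000000000000000000000000000000000000000000000000000000000000000000000000000000000000000000000000000000000000000000000000000000000000000000000000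
set_option linter.all false
open scoped Cfsg.Agent.FastGrp

/-!
# S5719, cell `hn`, part 1: a point stabiliser contains no 2A involution (helper285)

* `comm_mem` : a subgroup of index `≤ 24` contains the commutator `e` of `c, d` (`⟨c, d⟩ = 5^{1+2}`);
* `N_le`, `sq_mem` : `|C(s) : A ∩ C(s)| ≤ 17`, `s` in 2A: `A` contains `O^2` of `C(s) = 2.HS.2`;
* `no_2A` : `IF A Γ` in `HN`: no 2A involution in `A`.
-/

set_option autoImplicit false
set_option maxRecDepth 100000

namespace Cfsg.Agent.H285.IFHNa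

open Subgroup

section abs

variable {G : Type*} [Group G]

theorem exists_inv {m : ℕ} (h : m % 5 ≠ 0) : ∃ j, (m * j) % 5 = 1 := by
  have h1 : m % 5 = 1 ∨ m % 5 = 2 ∨ m % 5 = 3 ∨ m % 5 = 4 := by omega
  rcases h1 with h1 | h1 | h1 | h1
  · exact ⟨1, by omega⟩
  · exact ⟨3, by omega⟩
  · exact ⟨2, by omega⟩
  · exact ⟨4, by omega⟩

theorem pow_of_mod {e : G} (he : e ^ 5 = 1) {m : ℕ} (h : m % 5 = 1) : e ^ m = e := by
  rw [pow_eq_pow_mod m he, h, pow_one]

theorem pow_of_mod0 {e : G} (he : e ^ 5 = 1) {m : ℕ} (h : m % 5 = 0) : e ^ m = 1 := by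
  rw [pow_eq_pow_mod m he, h, pow_zero]

theorem inv_pow_mul {c : G} (hc : c ^ 5 = 1) {i i' : ℕ} (hi : i ≤ 5) : (c ^ i)⁻¹ * c ^ i' = c ^ (5 - i + i') := by
  rw [inv_mul_eq_iff_eq_mul, ← pow_add, show i + (5 - i + i') = 5 + i' by omega, pow_add, hc, one_mul]

/-- pigeonhole -/
theorem pig {X : Subgroup G} (h0 : X.index ≠ 0) (hX : X.index ≤ 24) {c e : G} (hce : c * e = e * c)
    (hc : c ^ 5 = 1) (he : e ^ 5 = 1) : e ∈ X ∨ ∃ k : ℕ, c * e ^ k ∈ X := by
  have hfi : X.FiniteIndex := ⟨h0⟩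
  let f : Fin 5 × Fin 5 → G ⧸ X := fun p => ((c ^ (p.1 : ℕ) * e ^ (p.2 : ℕ) : G) : G ⧸ X)
  have hf : ¬ Function.Injective f := by
    intro hi
    have h1 := Nat.card_le_card_of_injective f hi
    rw [Nat.card_prod, Nat.card_eq_fintype_card, Fintype.card_fin] at h1
    change 5 * 5 ≤ X.index at h1
    omega
  rw [Function.Injective] at hf
  push Not at hf
  obtain ⟨⟨i, k⟩, ⟨i', k'⟩, h1, h2⟩ := hf
  have h3 : (c ^ (i : ℕ) * e ^ (k : ℕ))⁻¹ * (c ^ (i' : ℕ) * e ^ (k' : ℕ)) ∈ X := QuotientGroup.eq.1 h1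
  have hC : Commute c e := hce
  have h4 : (c ^ (i : ℕ) * e ^ (k : ℕ))⁻¹ * (c ^ (i' : ℕ) * e ^ (k' : ℕ)) =
      c ^ (5 - (i : ℕ) + i') * e ^ (5 - (k : ℕ) + k') := by
    rw [← inv_pow_mul hc i.2.le, ← inv_pow_mul he k.2.le]
    have h5 : Commute ((c ^ (i : ℕ))⁻¹ * c ^ (i' : ℕ)) (e ^ (k : ℕ))⁻¹ :=
      Commute.mul_left ((hC.pow_pow _ _).inv_inv) ((hC.pow_pow _ _).inv_right)
    calc (c ^ (i : ℕ) * e ^ (k : ℕ))⁻¹ * (c ^ (i' : ℕ) * e ^ (k' : ℕ))
        = (e ^ (k : ℕ))⁻¹ * ((c ^ (i : ℕ))⁻¹ * c ^ (i' : ℕ)) * e ^ (k' : ℕ) := by group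
      _ = (c ^ (i : ℕ))⁻¹ * c ^ (i' : ℕ) * (e ^ (k : ℕ))⁻¹ * e ^ (k' : ℕ) := by rw [← h5.eq]
      _ = _ := by rw [mul_assoc]
  rw [h4] at h3
  by_cases hn : (5 - (i : ℕ) + i') % 5 = 0
  · left
    rw [pow_of_mod0 hc hn, one_mul] at h3
    have hi := i.2
    have hi' := i'.2
    have hk := k.2
    have hk' := k'.2
    have h6 : i = i' := Fin.ext (by omega)
    have h7 : (5 - (k : ℕ) + k') % 5 ≠ 0 := by
      intro h7
      apply h2
      rw [h6, show k = k' from Fin.ext (by omega)]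
    obtain ⟨j, hj⟩ := exists_inv h7
    have h8 := X.pow_mem h3 j
    rwa [← pow_mul, pow_of_mod he hj] at h8
  · right
    obtain ⟨j, hj⟩ := exists_inv hn
    have h8 := X.pow_mem h3 j
    rw [(hC.pow_pow _ _).mul_pow, ← pow_mul, ← pow_mul, pow_of_mod hc hj] at h8
    exact ⟨_, h8⟩

/-- the commutator of an extraspecial group `5^{1+2}` lies in each subgroup of index `≤ 24` -/
theorem comm_mem {X : Subgroup G} (h0 : X.index ≠ 0) (hX : X.index ≤ 24) {c d e : G} (hc : c ^ 5 = 1)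
    (hd : d ^ 5 = 1) (he : e ^ 5 = 1) (h1 : c * e = e * c) (h2 : d * e = e * d) (h3 : c⁻¹ * d⁻¹ * c * d = e) :
    e ∈ X := by
  rcases pig h0 hX h1 hc he with h | ⟨k, hk⟩
  · exact h
  rcases pig h0 hX h2 hd he with h | ⟨l, hl⟩
  · exact h
  have h4 := X.mul_mem (X.mul_mem (X.mul_mem (X.inv_mem hk) (X.inv_mem hl)) hk) hl
  have hC : Commute c e := h1
  have hD : Commute d e := h2
  have hc1 : Commute (e ^ l) c := (hC.pow_right l).symm
  have hd1 : Commute (e ^ k) d := (hD.pow_right k).symm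
  have h5 : (d * e ^ l) * (c * e ^ k) = (d * c) * (e ^ l * e ^ k) := by
    calc (d * e ^ l) * (c * e ^ k) = d * (e ^ l * c) * e ^ k := by group
      _ = d * (c * e ^ l) * e ^ k := by rw [hc1.eq]
      _ = _ := by group
  have h6 : (c * e ^ k) * (d * e ^ l) = (c * d) * (e ^ l * e ^ k) := by
    calc (c * e ^ k) * (d * e ^ l) = c * (e ^ k * d) * e ^ l := by group
      _ = c * (d * e ^ k) * e ^ l := by rw [hd1.eq]
      _ = (c * d) * (e ^ k * e ^ l) := by group
      _ = _ := by rw [← pow_add, ← pow_add, add_comm]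
  have h7 : Commute e (e ^ l * e ^ k) := Commute.mul_right (Commute.pow_right rfl l) (Commute.pow_right rfl k)
  have h8 : (c * e ^ k)⁻¹ * (d * e ^ l)⁻¹ * (c * e ^ k) * (d * e ^ l) = e := by
    calc (c * e ^ k)⁻¹ * (d * e ^ l)⁻¹ * (c * e ^ k) * (d * e ^ l)
        = ((d * e ^ l) * (c * e ^ k))⁻¹ * ((c * e ^ k) * (d * e ^ l)) := by group
      _ = ((d * c) * (e ^ l * e ^ k))⁻¹ * ((c * d) * (e ^ l * e ^ k)) := by rw [h5, h6]
      _ = (e ^ l * e ^ k)⁻¹ * ((c⁻¹ * d⁻¹ * c * d) * (e ^ l * e ^ k)) := by group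
      _ = (e ^ l * e ^ k)⁻¹ * (e * (e ^ l * e ^ k)) := by rw [h3]
      _ = (e ^ l * e ^ k)⁻¹ * ((e ^ l * e ^ k) * e) := by rw [h7.eq]
      _ = e := by group
  rwa [h8] at h4

/-- the normal closure -/
theorem ncl_le {X : Subgroup G} (h0 : X.index ≠ 0) (hX : X.index ≤ 24) {c d e : G} (hc : c ^ 5 = 1)
    (hd : d ^ 5 = 1) (he : e ^ 5 = 1) (h1 : c * e = e * c) (h2 : d * e = e * d) (h3 : c⁻¹ * d⁻¹ * c * d = e) :
    normalClosure ({e} : Set G) ≤ X := by
  rw [normalClosure, closure_le]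
  intro x hx
  rw [Group.mem_conjugatesOfSet_iff] at hx
  obtain ⟨a, ha, hx⟩ := hx
  rw [Set.mem_singleton_iff] at ha
  subst ha
  obtain ⟨g, hg⟩ := isConj_iff.1 hx
  rw [← hg]
  have key := comm_mem h0 hX (c := MulAut.conj g c) (d := MulAut.conj g d) (e := MulAut.conj g a)
    (by rw [← map_pow, hc, map_one]) (by rw [← map_pow, hd, map_one]) (by rw [← map_pow, he, map_one])
    (by rw [← map_mul, h1, map_mul]) (by rw [← map_mul, h2, map_mul])
    (by rw [← map_inv, ← map_inv, ← map_mul, ← map_mul, ← map_mul, h3])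
  exact key

end abs

open Cfsg.Agent.HN Cfsg.Agent.HN.Pres Cfsg.Agent.HN.H0Basic Cfsg.Agent.HN.Syl
open Cfsg.Agent.HN.P1408 hiding ψ ψ_gx ψ_gy ψ_gz ψ_injective
open Cfsg.Agent.HN.NormalH Cfsg.Agent.H209.Fxy

/-- word -/
def wc : List ℕ := [2,4,2,2,1,2,2,4,1,3]
/-- word -/
def wd : List ℕ := [4,3,3,0,2,2,2,4,1,3,4,2,4,2]
/-- word -/
def we : List ℕ := iw wc ++ iw wd ++ wc ++ wd
/-- word -/
def p1 : List ℕ := [4,2,2,4,2,0,2,2,2]
/-- word -/
def p2 : List ℕ := [3,3,4,2,2,4,2,0,2,2]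
/-- word -/
def q1 : List ℕ := [3,0,2,2,0,2,0,2,0]
/-- word -/
def q2 : List ℕ := [3,3,4,2,2,2,0,3,3,0,3]

/-- the normal subgroup of index 2 -/
noncomputable def N : Subgroup H0 := normalClosure ({hw we} : Set H0)

instance N_normal : N.Normal := normalClosure_normal

theorem c5 : (hw wc) ^ 5 = 1 := by
  simp only [pow_succ, pow_zero, one_mul, ← hw_append]
  rw [← hw_nil]
  exact hw_eq (by decide +kernel)

theorem d5 : (hw wd) ^ 5 = 1 := by
  simp only [pow_succ, pow_zero, one_mul, ← hw_append]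
  rw [← hw_nil]
  exact hw_eq (by decide +kernel)

theorem e5 : (hw we) ^ 5 = 1 := by
  simp only [pow_succ, pow_zero, one_mul, ← hw_append]
  rw [← hw_nil]
  exact hw_eq (by decide +kernel)

theorem ce : hw wc * hw we = hw we * hw wc := by
  rw [← hw_append, ← hw_append]
  exact hw_eq (by decide +kernel)

theorem de : hw wd * hw we = hw we * hw wd := by
  rw [← hw_append, ← hw_append]
  exact hw_eq (by decide +kernel)

theorem comm_eq : (hw wc)⁻¹ * (hw wd)⁻¹ * hw wc * hw wd = hw we := by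
  rw [we, hw_append, hw_append, hw_append, hw_iw, hw_iw]

theorem N_le_of {X : Subgroup H0} (h0 : X.index ≠ 0) (hX : X.index ≤ 24) : N ≤ X :=
  ncl_le h0 hX c5 d5 e5 ce de comm_eq

theorem e_mem : hw we ∈ N := subset_normalClosure rfl

theorem conj_mem (p : List ℕ) : hw (iw p ++ we ++ p) ∈ N := by
  have h := N_normal.conj_mem _ e_mem (hw p)⁻¹
  rw [inv_inv] at h
  rw [hw_append, hw_append, hw_iw]
  exact h

theorem gx_mem : gx ∈ N := by
  have h : gx = hw (iw p1 ++ we ++ p1) * hw (iw p2 ++ we ++ p2) := by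
    rw [← hw_append, ← hw_x]
    exact hw_eq (by decide +kernel)
  rw [h]
  exact N.mul_mem (conj_mem _) (conj_mem _)

theorem gy_mem : gy ∈ N := by
  have h : gy = hw (iw q1 ++ we ++ q1) * hw (iw q2 ++ we ++ q2) := by
    rw [← hw_append, ← hw_y]
    exact hw_eq (by decide +kernel)
  rw [h]
  exact N.mul_mem (conj_mem _) (conj_mem _)

theorem sq_mem_N (h : H0) : h ^ 2 ∈ N := by
  have h1 : (⊤ : Subgroup H0) ≤ (zpowers (QuotientGroup.mk' N gz)).comap (QuotientGroup.mk' N) := by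
    rw [← closure_gens, closure_le]
    rintro _ (rfl | rfl | rfl)
    · change QuotientGroup.mk' N gx ∈ zpowers (QuotientGroup.mk' N gz)
      rw [show QuotientGroup.mk' N gx = 1 from (QuotientGroup.eq_one_iff gx).2 gx_mem]
      exact one_mem _
    · change QuotientGroup.mk' N gy ∈ zpowers (QuotientGroup.mk' N gz)
      rw [show QuotientGroup.mk' N gy = 1 from (QuotientGroup.eq_one_iff gy).2 gy_mem]
      exact one_mem _
    · exact mem_zpowers _
  obtain ⟨k, hk⟩ := mem_zpowers_iff.1 (h1 (mem_top h))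
  rw [← QuotientGroup.eq_one_iff]
  change QuotientGroup.mk' N (h ^ 2) = 1
  rw [map_pow, ← hk, ← zpow_natCast, ← zpow_mul, mul_comm, zpow_mul, zpow_natCast, ← map_pow, rels_H0.r7, map_one,
    one_zpow]

theorem ψτ_eq : NormalH.ψ τ = Pres.hx ^ 2 := by
  rw [τ, map_pow, ψ_gx]

theorem cent_τ : centralizer ({NormalH.ψ τ} : Set Cfsg.Spor.HN) = H := by
  rw [ψτ_eq, Central.centralizer_eq]

/-- the homomorphism onto `C(g ψ(τ) g⁻¹)` -/
noncomputable def fg (g : Cfsg.Spor.HN) : H0 →* Cfsg.Spor.HN := (MulAut.conj g).toMonoidHom.comp NormalH.ψ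

theorem fg_apply (g : Cfsg.Spor.HN) (h : H0) : fg g h = g * NormalH.ψ h * g⁻¹ := rfl

theorem range_fg (g : Cfsg.Spor.HN) : (fg g).range = centralizer ({g * NormalH.ψ τ * g⁻¹} : Set Cfsg.Spor.HN) := by
  ext v
  rw [mem_centralizer_singleton_iff]
  constructor
  · rintro ⟨h, rfl⟩
    rw [fg_apply]
    calc g * NormalH.ψ h * g⁻¹ * (g * NormalH.ψ τ * g⁻¹) = g * (NormalH.ψ (h * τ)) * g⁻¹ := by rw [map_mul]; group
      _ = g * NormalH.ψ (τ * h) * g⁻¹ := by rw [τ_comm]
      _ = _ := by rw [map_mul]; group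
  · intro hv
    have h1 : g⁻¹ * v * g ∈ centralizer ({NormalH.ψ τ} : Set Cfsg.Spor.HN) := by
      rw [mem_centralizer_singleton_iff]
      calc g⁻¹ * v * g * NormalH.ψ τ = g⁻¹ * (v * (g * NormalH.ψ τ * g⁻¹)) * g := by group
        _ = g⁻¹ * (g * NormalH.ψ τ * g⁻¹ * v) * g := by rw [hv]
        _ = _ := by group
    rw [cent_τ, ← range_ψ] at h1
    obtain ⟨h, hh⟩ := h1
    exact ⟨h, by rw [fg_apply, hh]; group⟩

theorem N_le {A : Subgroup Cfsg.Spor.HN} {g : Cfsg.Spor.HN}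
    (h0 : A.relIndex (centralizer ({g * NormalH.ψ τ * g⁻¹} : Set Cfsg.Spor.HN)) ≠ 0)
    (hA : A.relIndex (centralizer ({g * NormalH.ψ τ * g⁻¹} : Set Cfsg.Spor.HN)) ≤ 24) {n : H0} (hn : n ∈ N) :
    g * NormalH.ψ n * g⁻¹ ∈ A := by
  rw [← range_fg, ← index_comap] at h0 hA
  exact N_le_of h0 hA hn

theorem sq_mem {A : Subgroup Cfsg.Spor.HN} {g : Cfsg.Spor.HN}
    (h0 : A.relIndex (centralizer ({g * NormalH.ψ τ * g⁻¹} : Set Cfsg.Spor.HN)) ≠ 0)
    (hA : A.relIndex (centralizer ({g * NormalH.ψ τ * g⁻¹} : Set Cfsg.Spor.HN)) ≤ 24) {v : Cfsg.Spor.HN}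
    (hv : v ∈ centralizer ({g * NormalH.ψ τ * g⁻¹} : Set Cfsg.Spor.HN)) : v ^ 2 ∈ A := by
  have hv' := hv
  rw [← range_fg] at hv'
  obtain ⟨h, rfl⟩ := hv'
  rw [← map_pow, fg_apply]
  exact N_le h0 hA (sq_mem_N h)

theorem simpleHN : IsSimpleGroup Cfsg.Spor.HN := S1701.result.1

theorem hna : ∃ u v : Cfsg.Spor.HN, u * v ≠ v * u := by
  refine ⟨NormalH.ψ (hw [2]), NormalH.ψ (hw [4]), fun h => ?_⟩
  rw [← map_mul, ← map_mul] at h
  have h1 := NormalH.ψ_injective finite_H0 card_H0_le XSq.hx_sq_ne h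
  rw [← hw_append, ← hw_append] at h1
  exact hw_ne rfl rfl (p := 1) (by norm_num) (by decide +kernel) h1

theorem fg_injective (g : Cfsg.Spor.HN) : Function.Injective (fg g) :=
  (MulAut.conj g).injective.comp (NormalH.ψ_injective finite_H0 card_H0_le XSq.hx_sq_ne)

theorem idx (g : Cfsg.Spor.HN) :
    (centralizer ({g * NormalH.ψ τ * g⁻¹} : Set Cfsg.Spor.HN)).index = 1539000 := by
  have h1 := (centralizer ({g * NormalH.ψ τ * g⁻¹} : Set Cfsg.Spor.HN)).index_mul_card
  rw [← range_fg, ← Nat.card_congr (MonoidHom.ofInjective (fg_injective g)).toEquiv, H0Basic.card_H0, S1701.result.2] at h1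
  rw [← range_fg]
  omega

variable {A : Subgroup Cfsg.Spor.HN} {Γ : Subgroup (MulAut Cfsg.Spor.HN)}

theorem order_ψτ : orderOf (NormalH.ψ τ) = 2 := by
  rw [orderOf_injective NormalH.ψ (NormalH.ψ_injective finite_H0 card_H0_le XSq.hx_sq_ne)]
  exact orderOf_eq_prime τ_sq τ_ne_one

theorem rel_le (h : IF A Γ) {g : Cfsg.Spor.HN} (hs : g * NormalH.ψ τ * g⁻¹ ∈ A) :
    A.relIndex (centralizer ({g * NormalH.ψ τ * g⁻¹} : Set Cfsg.Spor.HN)) ≠ 0 ∧
    A.relIndex (centralizer ({g * NormalH.ψ τ * g⁻¹} : Set Cfsg.Spor.HN)) ≤ 24 := by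
  have := simpleHN
  have ho : orderOf (g * NormalH.ψ τ * g⁻¹) = 2 := by
    rw [← order_ψτ]
    exact orderOf_injective (MulAut.conj g).toMonoidHom (MulAut.conj g).injective _
  obtain ⟨-, -, -, -, h5⟩ := H999.IFB.IF.E2' h hna hs ho
  have h6 := (h5 _ le_rfl).1
  rw [idx] at h6
  refine ⟨?_, ?_⟩
  · exact Subgroup.index_ne_zero_of_finite
  · by_contra hcon
    have h7 : 25 ^ 5 ≤ A.relIndex (centralizer ({g * NormalH.ψ τ * g⁻¹} : Set Cfsg.Spor.HN)) ^ 5 :=
      Nat.pow_le_pow_left (by omega) 5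
    omega

theorem no_τ (h : IF A Γ) (hs : NormalH.ψ τ ∈ A) : False := by
  have := simpleHN
  have key : ∀ {g : Cfsg.Spor.HN}, g * NormalH.ψ τ * g⁻¹ ∈ A → (∀ n ∈ N, g * NormalH.ψ n * g⁻¹ ∈ A) ∧
      ∀ v ∈ centralizer ({g * NormalH.ψ τ * g⁻¹} : Set Cfsg.Spor.HN), v ^ 2 ∈ A := by
    intro g hg
    obtain ⟨h1, h2⟩ := rel_le h hg
    exact ⟨fun n hn => N_le h1 h2 hn, fun v hv => sq_mem h1 h2 hv⟩
  have five : ∀ {g v : Cfsg.Spor.HN}, g * NormalH.ψ τ * g⁻¹ ∈ A →
      v * (g * NormalH.ψ τ * g⁻¹) = g * NormalH.ψ τ * g⁻¹ * v → v ^ 5 = 1 → v ∈ A := by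
    intro g v hg hv h5
    have h1 := A.pow_mem ((key hg).2 v (mem_centralizer_singleton_iff.2 hv)) 3
    rwa [← pow_mul, show 2 * 3 = 5 + 1 by norm_num, pow_succ, h5, one_mul] at h1
  have hN : ∀ n ∈ N, NormalH.ψ n ∈ A := by
    intro n hn
    have h1 := (key (g := 1) (by rw [one_mul, inv_one, mul_one]; exact hs)).1 n hn
    rwa [one_mul, inv_one, mul_one] at h1
  have hxA : Pres.hx ∈ A := by rw [← ψ_gx]; exact hN _ gx_mem
  have hyA : Pres.hy ∈ A := by rw [← ψ_gy]; exact hN _ gy_mem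
  have haN : a ∈ N := N.pow_mem gy_mem 3
  obtain ⟨g, hg⟩ := isConj_iff.1 InvHN.isConj_a.symm
  have hca : Pres.ht * NormalH.ψ a = NormalH.ψ a * Pres.ht := by
    rw [a, map_pow, ψ_gy]
    exact (Commute.pow_right (show Commute Pres.ht Pres.hy from DSem.ty) 3).eq
  have htA : Pres.ht ∈ A := five (g := g) (by rw [hg]; exact hN _ haN) (by rw [hg]; exact hca) DSem.t5
  have hzz := DSem.zz
  have hzi : Pres.hz⁻¹ = Pres.hz := inv_eq_of_mul_eq_one_right hzz
  have hcz : Pres.hz * g * NormalH.ψ τ * (Pres.hz * g)⁻¹ = Pres.hz * NormalH.ψ a * Pres.hz⁻¹ := by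
    rw [← hg]; group
  have hzA : Pres.hz * NormalH.ψ a * Pres.hz⁻¹ ∈ A := by
    have h1 := hN _ (N_normal.conj_mem _ haN gz)
    rwa [map_mul, map_mul, map_inv, ψ_gz] at h1
  have hwA : Pres.hz * Pres.ht * Pres.hz⁻¹ ∈ A := by
    refine five (g := Pres.hz * g) (by rw [hcz]; exact hzA) ?_ ?_
    · rw [hcz]
      calc Pres.hz * Pres.ht * Pres.hz⁻¹ * (Pres.hz * NormalH.ψ a * Pres.hz⁻¹)
          = Pres.hz * (Pres.ht * NormalH.ψ a) * Pres.hz⁻¹ := by group
        _ = Pres.hz * (NormalH.ψ a * Pres.ht) * Pres.hz⁻¹ := by rw [hca]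
        _ = _ := by group
    · rw [conj_pow, DSem.t5, mul_one, mul_inv_cancel]
  have hz3 : Pres.hz = Pres.ht⁻¹ * (Pres.hz * Pres.ht * Pres.hz⁻¹)⁻¹ * Pres.ht⁻¹ := by
    have h1 := DSem.zt
    have h2 : Pres.hz * Pres.ht * Pres.hz * (Pres.ht * Pres.hz * Pres.ht) = 1 := by
      rw [← h1]
      simp only [pow_succ, pow_zero, one_mul, mul_assoc]
    rw [hzi, inv_eq_of_mul_eq_one_right h2]
    group
  have hzA' : Pres.hz ∈ A := by
    rw [hz3]
    exact A.mul_mem (A.mul_mem (A.inv_mem htA) (A.inv_mem hwA)) (A.inv_mem htA)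
  apply h.ne_top
  rw [← top_le_iff, ← SimpleHN.closure_HN, closure_le]
  rintro _ (rfl | rfl | rfl | rfl)
  · exact hxA
  · exact hyA
  · exact hzA'
  · exact htA

/-- **No 2A involution in `A`.** -/
theorem no_2A (h : IF A Γ) {s : Cfsg.Spor.HN} (hs : s ∈ A) (hc : IsConj s (NormalH.ψ τ)) : False := by
  obtain ⟨g, hg⟩ := isConj_iff.1 hc
  refine no_τ (h.map (MulAut.conj g)) ?_
  exact ⟨s, hs, hg⟩

end Cfsg.Agent.H285.IFHNa

private theorem dce_08839e0a8ac3 : _root_.True := by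
  try have : _root_.True := by simp only [_root_.Cfsg.Agent.H285.IFHNa.we.eq_1]
  exact _root_.True.intro
end

-- part: H789/IF/HNEven
section
prune_inst 0x7f0000000000000000000000000000000000000000000000000000000000000000000000000000000000000000000000000000000000000000000000000000000000000000000000000000000000000000000000000000000000000000000000000000000000
set_option linter.all false
open scoped Cfsg.Agent.FastGrp

-- part: H789/IF/HNAbs
section
/-!
# S5719, cell `hn`: subgroups of index at most 37 of `C(W0)/⟨W0⟩` (helper789)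

`Bas k γ` : `R = ⟨k 0, …, k 7⟩ = 2^8`, the `γ g` act by the matrices `gen g`. `Y` a subgroup of index at most 37; `W` = masks
`m` with `r k m ∈ Y`.

* `stepA` : `W` is invariant under a nontrivial element of the group `5 × 5 = ⟨P1, P2⟩`;
* `stepB` : `W` is invariant under each element of order 5;
* `abs` : `Y` contains one of the 60 elements `r k m`, `m ∈ DD`.
-/

set_option autoImplicit false
set_option maxRecDepth 100000

namespace Cfsg.Agent.H789.IF.HNAbs

open Cfsg.Agent.HN.XMat Cfsg.Agent.HN.XStruct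

/-! ### Polynomials in a matrix -/

/-- `∑ c_i P^i m`, `i < 4` -/
def poly (P c m : ℕ) : ℕ :=
  (bif c.testBit 0 then m else 0) ^^^ ((bif c.testBit 1 then app P m else 0) ^^^
    ((bif c.testBit 2 then app P (app P m) else 0) ^^^ (bif c.testBit 3 then app P (app P (app P m)) else 0)))

/-- powers of a matrix -/
def mp (P : ℕ) (i : ℕ) : ℕ := Nat.rec MI (fun _ ih => mul ih P) i

theorem mp_succ (P i : ℕ) : mp P (i + 1) = mul (mp P i) P := rfl

theorem bxor_bif (b c : Bool) (x : ℕ) : (bif b then x else 0) ^^^ (bif c then x else 0) = bif (b ^^ c) then x else 0 := by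
  cases b <;> cases c <;> simp

theorem poly_xor (P c d m : ℕ) : poly P c m ^^^ poly P d m = poly P (c ^^^ d) m := by
  unfold poly
  rw [Nat.testBit_xor, Nat.testBit_xor, Nat.testBit_xor, Nat.testBit_xor, ← bxor_bif (c.testBit 0), ← bxor_bif (c.testBit 1),
    ← bxor_bif (c.testBit 2), ← bxor_bif (c.testBit 3)]
  ac_rfl

/-! ### The group -/

section

variable {K : Type*} [Group K] {k γ : ℕ → K}

theorem acts_pow (h : Bas k γ) {x : K} {P : ℕ} (hx : Acts k x P) (i : ℕ) : Acts k (x ^ i) (mp P i) := by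
  induction i with
  | zero => rw [pow_zero]; exact Bas.acts_one
  | succ i ih => rw [pow_succ, mp_succ]; exact h.acts_mul ih hx

theorem acts_inv (h : Bas k γ) {x : K} {P Q : ℕ} (hx : Acts k x P) (hQ : ∀ i < 8, app P (row Q i) = 2 ^ i) :
    Acts k x⁻¹ Q := by
  intro i hi
  have h1 := h.acts_r hx (row Q i)
  rw [hQ i hi, Bas.r_pow hi] at h1
  rw [inv_inv, ← h1]
  group

/-- multiplication by elements of `R` on the right -/
theorem conj_mulr (h : Bas k γ) {x : K} {P : ℕ} (hx : Acts k x P) (m n l : ℕ) :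
    (r k l * x * r k m)⁻¹ * r k n * (r k l * x * r k m) = r k (app P n) := by
  have h1 := h.acts_r hx n
  have h2 := h.r_comm l n
  have h3 := h.r_comm m (app P n)
  calc (r k l * x * r k m)⁻¹ * r k n * (r k l * x * r k m)
      = (r k m)⁻¹ * (x⁻¹ * ((r k l)⁻¹ * (r k n * r k l)) * x) * r k m := by group
    _ = (r k m)⁻¹ * (x⁻¹ * r k n * x) * r k m := by rw [← h2, inv_mul_cancel_left]
    _ = (r k m)⁻¹ * (r k (app P n) * r k m) := by rw [h1, mul_assoc]
    _ = r k (app P n) := by rw [← h3, inv_mul_cancel_left]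

/-- `W` is invariant under `P` -/
def Inv (k : ℕ → K) (Y : Subgroup K) (P : ℕ) : Prop := ∀ n, r k n ∈ Y → r k (app P n) ∈ Y

variable {Y : Subgroup K}

theorem inv_of (h : Bas k γ) {x : K} {P : ℕ} (hx : Acts k x P) {l m : ℕ} (hy : r k l * x * r k m ∈ Y) : Inv k Y P := by
  intro n hn
  rw [← conj_mulr h hx m n l]
  exact Y.mul_mem (Y.mul_mem (Y.inv_mem hy) hn) hy

theorem mem_xor (h : Bas k γ) {m n : ℕ} (hm : r k m ∈ Y) (hn : r k n ∈ Y) : r k (m ^^^ n) ∈ Y := by
  rw [h.r_xor]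
  exact Y.mul_mem hm hn

theorem mem_bif (b : Bool) {m : ℕ} (hm : r k m ∈ Y) : r k (bif b then m else 0) ∈ Y := by
  cases b
  · change r k 0 ∈ Y
    rw [Bas.r_zero]
    exact Y.one_mem
  · exact hm

theorem Inv.poly (h : Bas k γ) {P : ℕ} (hP : Inv k Y P) (c : ℕ) {m : ℕ} (hm : r k m ∈ Y) : r k (poly P c m) ∈ Y := by
  have h1 := hP m hm
  have h2 := hP _ h1
  have h3 := hP _ h2
  exact mem_xor h (mem_bif _ hm) (mem_xor h (mem_bif _ h1) (mem_xor h (mem_bif _ h2) (mem_bif _ h3)))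

/-! ### Step A -/

/-- matrix of `[1, 1, 0]` -/
def P1 : ℕ := 16246484361671956993
/-- matrix of `[2, 1, 2, 1, 0, 2]` -/
def P2 : ℕ := 4231149957406676138

theorem mw1 : mw [1, 1, 0] = P1 := by decide +kernel
theorem mw2 : mw [2, 1, 2, 1, 0, 2] = P2 := by decide +kernel

/-- every nonzero polynomial in `P` of degree `< 4` takes `a` to a mask which comes back to `a` -/
def TT (P a : ℕ) : Prop := ∀ c < 16, c ≠ 0 → ∃ d < 16, poly P d (poly P c a) = a

instance (P a : ℕ) : Decidable (TT P a) := by unfold TT; infer_instance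

theorem inv1 : ∀ i < 5, ∀ j < 8, app (mp P1 i) (row (mp P1 (5 - i)) j) = 2 ^ j := by decide +kernel
theorem inv2 : ∀ i < 5, ∀ j < 8, app (mp P2 i) (row (mp P2 (5 - i)) j) = 2 ^ j := by decide +kernel

/-- the matrix of `(u1^i u2^j)⁻¹ u1^i' u2^j'` -/
def NN (i j i' j' : ℕ) : ℕ := mul (mul (mp P2 (5 - j)) (mp P1 (5 - i))) (mul (mp P1 i') (mp P2 j'))

theorem NN_eq : ∀ i < 5, ∀ j < 5, ∀ i' < 5, ∀ j' < 5,
    NN i j i' j' = mul (mp P1 ((5 - i + i') % 5)) (mp P2 ((5 - j + j') % 5)) := by decide +kernel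

theorem TT_all : ∀ i < 5, ∀ j < 5, (i ≠ 0 ∨ j ≠ 0) →
    TT (mul (mp P1 i) (mp P2 j)) (bif Nat.beq j 0 then 97 else 1) := by decide +kernel

theorem mem_DD1 : 1 ∈ DD := by decide +kernel
theorem mem_DD97 : 97 ∈ DD := by decide +kernel

variable (h : Bas k γ) (h0 : Y.index ≠ 0) (h37 : Y.index ≤ 37) (hD : ∀ m ∈ DD, r k m ∉ Y)

include h0 h37 in
/-- pigeonhole -/
theorem pig {ι : Type*} [Finite ι] (hι : 38 ≤ Nat.card ι) (f : ι → K) : ∃ a b, a ≠ b ∧ (f a)⁻¹ * f b ∈ Y := by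
  have hfi : Y.FiniteIndex := ⟨h0⟩
  have h1 : ¬ Function.Injective fun a => (f a : K ⧸ Y) := by
    intro hi
    have h2 := Nat.card_le_card_of_injective _ hi
    change Nat.card ι ≤ Y.index at h2
    omega
  rw [Function.Injective] at h1
  push Not at h1
  obtain ⟨a, b, h2, h3⟩ := h1
  exact ⟨a, b, h3, QuotientGroup.eq.1 h2⟩

include h h0 h37 hD in
theorem stepA : ∃ P a, a ∈ DD ∧ TT P a ∧ Inv k Y P := by
  set u1 : K := evw γ [1, 1, 0] with hu1
  set u2 : K := evw γ [2, 1, 2, 1, 0, 2] with hu2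
  have a1 : Acts k u1 P1 := by rw [← mw1]; exact h.acts_evw _
  have a2 : Acts k u2 P2 := by rw [← mw2]; exact h.acts_evw _
  obtain ⟨⟨⟨i, j⟩, b⟩, ⟨⟨i', j'⟩, b'⟩, hne, hy⟩ := pig h0 h37 (ι := (Fin 5 × Fin 5) × Bool)
    (by rw [Nat.card_eq_fintype_card]; decide)
    (fun p => u1 ^ (p.1.1 : ℕ) * u2 ^ (p.1.2 : ℕ) * r k (bif p.2 then 1 else 0))
  by_cases hc : (i, j) = (i', j')
  · exfalso
    obtain ⟨rfl, rfl⟩ := Prod.mk.inj hc
    have hbb : b ≠ b' := fun hb => hne (by rw [hb])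
    have h1 : (u1 ^ (i : ℕ) * u2 ^ (j : ℕ) * r k (bif b then 1 else 0))⁻¹ *
        (u1 ^ (i : ℕ) * u2 ^ (j : ℕ) * r k (bif b' then 1 else 0)) = r k 1 := by
      have h2 : (u1 ^ (i : ℕ) * u2 ^ (j : ℕ) * r k (bif b then 1 else 0))⁻¹ *
        (u1 ^ (i : ℕ) * u2 ^ (j : ℕ) * r k (bif b' then 1 else 0)) =
          (r k (bif b then 1 else 0))⁻¹ * r k (bif b' then 1 else 0) := by group
      rw [h2, h.r_inv, ← h.r_xor]
      congr 1
      cases b <;> cases b' <;> first | rfl | exact absurd rfl hbb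
    have hy' : (u1 ^ (i : ℕ) * u2 ^ (j : ℕ) * r k (bif b then 1 else 0))⁻¹ *
        (u1 ^ (i : ℕ) * u2 ^ (j : ℕ) * r k (bif b' then 1 else 0)) ∈ Y := hy
    rw [h1] at hy'
    exact hD 1 mem_DD1 hy'
  · have hy' : (u1 ^ (i : ℕ) * u2 ^ (j : ℕ) * r k (bif b then 1 else 0))⁻¹ *
        (u1 ^ (i' : ℕ) * u2 ^ (j' : ℕ) * r k (bif b' then 1 else 0)) ∈ Y := hy
    have h1 : (u1 ^ (i : ℕ) * u2 ^ (j : ℕ) * r k (bif b then 1 else 0))⁻¹ *
        (u1 ^ (i' : ℕ) * u2 ^ (j' : ℕ) * r k (bif b' then 1 else 0)) =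
        r k (bif b then 1 else 0) * (((u2 ^ (j : ℕ))⁻¹ * (u1 ^ (i : ℕ))⁻¹) * (u1 ^ (i' : ℕ) * u2 ^ (j' : ℕ))) *
          r k (bif b' then 1 else 0) := by
      rw [mul_inv_rev, h.r_inv]
      group
    rw [h1] at hy'
    have e1 : Acts k (u1 ^ (i : ℕ))⁻¹ (mp P1 (5 - i)) := acts_inv h (acts_pow h a1 i) (inv1 i i.2)
    have e2 : Acts k (u2 ^ (j : ℕ))⁻¹ (mp P2 (5 - j)) := acts_inv h (acts_pow h a2 j) (inv2 j j.2)
    have e3 : Acts k (((u2 ^ (j : ℕ))⁻¹ * (u1 ^ (i : ℕ))⁻¹) * (u1 ^ (i' : ℕ) * u2 ^ (j' : ℕ))) (NN i j i' j') :=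
      h.acts_mul (h.acts_mul e2 e1) (h.acts_mul (acts_pow h a1 i') (acts_pow h a2 j'))
    have h2 := inv_of h e3 hy'
    rw [NN_eq i i.2 j j.2 i' i'.2 j' j'.2] at h2
    refine ⟨_, (bif Nat.beq ((5 - (j : ℕ) + j') % 5) 0 then 97 else 1), ?_, TT_all _ (Nat.mod_lt _ (by norm_num)) _
      (Nat.mod_lt _ (by norm_num)) ?_, h2⟩
    · cases Nat.beq ((5 - (j : ℕ) + j') % 5) 0
      · exact mem_DD1
      · exact mem_DD97
    · by_contra hcon
      push Not at hcon
      obtain ⟨h3, h4⟩ := hcon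
      apply hc
      have hi := i.2
      have hj := j.2
      have hi' := i'.2
      have hj' := j'.2
      refine Prod.ext (Fin.ext ?_) (Fin.ext ?_)
      · change (i : ℕ) = i'
        omega
      · change (j : ℕ) = j'
        omega

/-! ### Step B -/

include h hD in
/-- sixteen masks in different cosets -/
theorem sixteen {P a : ℕ} (ha : a ∈ DD) (hT : TT P a) (hP : Inv k Y P) {c : ℕ} (hc : c < 16) (hc0 : c ≠ 0) :
    r k (poly P c a) ∉ Y := by
  intro hm
  obtain ⟨d, -, hd⟩ := hT c hc hc0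
  have h1 := hP.poly h d hm
  rw [hd] at h1
  exact hD a ha h1

include h h0 h37 hD in
theorem stepB {x : K} {M : ℕ} (hx : Acts k x M) (h6 : ∀ m, app (mp M 2) (app (mp M 2) (app (mp M 2) m)) = app M m)
    (h1M : ∀ m, app (mp M 1) m = app M m) : Inv k Y M := by
  obtain ⟨P, a, ha, hT, hP⟩ := stepA h h0 h37 hD
  obtain ⟨⟨i, c⟩, ⟨j, d⟩, hne, hy⟩ := pig h0 h37 (ι := Fin 3 × Fin 16)
    (by rw [Nat.card_eq_fintype_card]; decide)
    (fun p => x ^ (p.1 : ℕ) * r k (poly P p.2 a))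
  have hy' : (x ^ (i : ℕ) * r k (poly P c a))⁻¹ * (x ^ (j : ℕ) * r k (poly P d a)) ∈ Y := hy
  -- symmetric form
  have key : ∀ i j c d : ℕ, i ≤ j → j < 3 → c < 16 → d < 16 → (i ≠ j ∨ c ≠ d) →
      (x ^ i * r k (poly P c a))⁻¹ * (x ^ j * r k (poly P d a)) ∈ Y → Inv k Y M := by
    intro i j c d hij hj hc hd hne hy
    have h1 : (x ^ i * r k (poly P c a))⁻¹ * (x ^ j * r k (poly P d a)) =
        r k (poly P c a) * x ^ (j - i) * r k (poly P d a) := by
      rw [mul_inv_rev, h.r_inv]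
      have h2 : x ^ j = x ^ i * x ^ (j - i) := by rw [← pow_add]; congr 1; omega
      rw [h2]
      group
    rw [h1] at hy
    rcases Nat.eq_or_lt_of_le hij with h3 | h3
    · exfalso
      subst h3
      rw [Nat.sub_self, pow_zero, mul_one, ← h.r_xor, poly_xor] at hy
      have hcd : c ≠ d := by
        rcases hne with h4 | h4
        · exact absurd rfl h4
        · exact h4
      refine sixteen h hD ha hT hP (Nat.xor_lt_two_pow (n := 4) hc hd) ?_ hy
      intro h5
      exact hcd (Nat.xor_eq_zero_iff.1 h5)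
    · have h4 := inv_of h (acts_pow h hx (j - i)) hy
      have h5 : j - i = 1 ∨ j - i = 2 := by omega
      rcases h5 with h5 | h5
      · rw [h5] at h4
        intro n hn
        rw [← h1M]
        exact h4 n hn
      · rw [h5] at h4
        intro n hn
        rw [← h6]
        exact h4 _ (h4 _ (h4 _ hn))
  have hne' : (i : ℕ) ≠ j ∨ (c : ℕ) ≠ d := by
    by_contra hcon
    push Not at hcon
    exact hne (Prod.ext (Fin.ext hcon.1) (Fin.ext hcon.2))
  rcases Nat.le_total (i : ℕ) j with hij | hij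
  · exact key i j c d hij j.2 c.2 d.2 hne' hy'
  · refine key j i d c hij i.2 d.2 c.2 ?_ ?_
    · rcases hne' with h7 | h7
      · exact Or.inl h7.symm
      · exact Or.inr h7.symm
    · have h7 := Y.inv_mem hy'
      rwa [mul_inv_rev, inv_inv] at h7

/-! ### Step C -/

/-- matrix of `[0, 1, 0, 1, 2]` -/
def G1 : ℕ := mw [0, 1, 0, 1, 2]
/-- matrix of `[1, 1, 0]` -/
def G2 : ℕ := P1

theorem G1_six : mul (mul (mp G1 2) (mp G1 2)) (mp G1 2) = G1 := by decide +kernel
theorem G1_one : mp G1 1 = G1 := by decide +kernel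
theorem G2_six : mul (mul (mp G2 2) (mp G2 2)) (mp G2 2) = G2 := by decide +kernel
theorem G2_one : mp G2 1 = G2 := by decide +kernel

/-- bit set of the 60 masks of `DD` -/
def DB : ℕ := 1823829608268195304905218113382260448234415363642013184894125277215575052086

theorem DB_mem : ∀ x < 256, DB.testBit x = true → x ∈ DD := by decide +kernel

theorem DB_all {x : ℕ} (hx : DB.testBit x = true) : x ∈ DD := by
  refine DB_mem x ?_ hx
  by_contra hc
  have h1 : DB < 2 ^ x := lt_of_lt_of_le (by unfold DB; norm_num : DB < 2 ^ 256) (Nat.pow_le_pow_right (by norm_num) (by omega))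
  rw [Nat.testBit_lt_two_pow h1] at hx
  exact Bool.noConfusion hx

/-- one of the sixteen `poly P d x`, `d < n`, satisfies `f` -/
def anyP (P : ℕ) (f : ℕ → Bool) (x n : ℕ) : Bool :=
  Nat.rec false (fun d ih => Bool.rec ih true (f (poly P d x))) n

theorem anyP_spec {P : ℕ} {f : ℕ → Bool} {x n : ℕ} (h : anyP P f x n = true) : ∃ d < n, f (poly P d x) = true := by
  induction n with
  | zero => exact Bool.noConfusion h
  | succ n ih =>
    cases hf : f (poly P n x) with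
    | true => exact ⟨n, Nat.lt_succ_self n, hf⟩
    | false =>
      have h1 : anyP P f x (n + 1) = (Bool.rec (anyP P f x n) true (f (poly P n x)) : Bool) := rfl
      rw [h1, hf] at h
      obtain ⟨d, hd, hd2⟩ := ih h
      exact ⟨d, Nat.lt_succ_of_lt hd, hd2⟩

/-- the masks in `[s, s + n)` reach `DD` -/
def rchk (s n : ℕ) : Bool :=
  Nat.rec true (fun i ih => Bool.rec false ih (anyP 11048457930665041925
    (fun y => anyP 16246484361671956993 (fun z => DB.testBit z) y 16) (s + i) 16)) n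

theorem G1_val : G1 = 11048457930665041925 := by decide +kernel
theorem G2_val : G2 = 16246484361671956993 := by decide +kernel

theorem rchk_spec {s n : ℕ} (h : rchk s n = true) : ∀ m, s ≤ m → m < s + n →
    ∃ c < 16, ∃ d < 16, poly G2 d (poly G1 c m) ∈ DD := by
  induction n with
  | zero => intro m h1 h2; omega
  | succ n ih =>
    have h1 : rchk s (n + 1) = (Bool.rec false (rchk s n) (anyP 11048457930665041925
      (fun y => anyP 16246484361671956993 (fun z => DB.testBit z) y 16) (s + n) 16) : Bool) := rfl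
    rw [h1] at h
    cases h2 : anyP 11048457930665041925 (fun y => anyP 16246484361671956993 (fun z => DB.testBit z) y 16) (s + n) 16 with
    | false => rw [h2] at h; exact Bool.noConfusion h
    | true =>
      rw [h2] at h
      intro m hm hm2
      rcases Nat.lt_or_ge m (s + n) with h3 | h3
      · exact ih h m hm h3
      · have h4 : m = s + n := by omega
        subst h4
        obtain ⟨c, hc, hc2⟩ := anyP_spec h2
        obtain ⟨d, hd, hd2⟩ := anyP_spec hc2
        rw [G1_val, G2_val]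
        exact ⟨c, hc, d, hd, DB_all hd2⟩

theorem r0 : rchk 1 63 = true := by decide +kernel
theorem r1 : rchk 64 64 = true := by decide +kernel
theorem r2 : rchk 128 64 = true := by decide +kernel
theorem r3 : rchk 192 64 = true := by decide +kernel

theorem reach : ∀ m < 256, m ≠ 0 → ∃ c < 16, ∃ d < 16, poly G2 d (poly G1 c m) ∈ DD := by
  intro m hm hm0
  rcases Nat.lt_or_ge m 64 with h1 | h1
  · exact rchk_spec r0 m (by omega) (by omega)
  rcases Nat.lt_or_ge m 128 with h2 | h2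
  · exact rchk_spec r1 m h1 (by omega)
  rcases Nat.lt_or_ge m 192 with h3 | h3
  · exact rchk_spec r2 m h2 (by omega)
  · exact rchk_spec r3 m h3 (by omega)

include h h0 h37 hD in
/-- **No subgroup of index at most 37 avoids the class of `k 0`.** -/
theorem abs : False := by
  have b1 : Inv k Y G1 := stepB h h0 h37 hD (x := evw γ [0, 1, 0, 1, 2]) (h.acts_evw _)
    (fun m => by rw [← app_mul, ← app_mul]; exact congrArg (fun t => app t m) G1_six)
    (fun m => by rw [G1_one])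
  have b2 : Inv k Y G2 := stepB h h0 h37 hD (x := evw γ [1, 1, 0]) (by rw [G2, ← mw1]; exact h.acts_evw _)
    (fun m => by rw [← app_mul, ← app_mul]; exact congrArg (fun t => app t m) G2_six)
    (fun m => by rw [G2_one])
  obtain ⟨m, n, hne, hy⟩ := pig h0 h37 (ι := Fin 256) (by rw [Nat.card_eq_fintype_card]; decide) (fun m => r k (m : ℕ))
  rw [h.r_inv, ← h.r_xor] at hy
  obtain ⟨c, -, d, -, hcd⟩ := reach ((m : ℕ) ^^^ n) (Nat.xor_lt_two_pow (n := 8) m.2 n.2) (fun h1 =>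
    hne (Fin.ext (Nat.xor_eq_zero_iff.1 h1)))
  exact hD _ hcd (b2.poly h d (b1.poly h c hy))

end

end Cfsg.Agent.H789.IF.HNAbs
end

-- part: H789/IF/HNEven
section
/-!
# S5719, cell `hn`: a point stabiliser of even order (helper789)

* `no_W0` : `IF A Γ` in `HN`: `W0 ∉ A`;
* `killE` : `KillE Spor.HN`.
-/

set_option autoImplicit false
set_option maxRecDepth 100000

namespace Cfsg.Agent.H789.IF.HNEven

open Subgroup Cfsg Cfsg.Agent.H209.Fxy
open Cfsg.Agent.HN Cfsg.Agent.HN.Pres Cfsg.Agent.HN.H0Basic Cfsg.Agent.HN.P1408 Cfsg.Agent.HN.XMat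
open Cfsg.Agent.HN.XStruct Cfsg.Agent.HN.XWords Cfsg.Agent.HN.XQuot Cfsg.Agent.HN.XInst
open Cfsg.Agent.KFacts.HN

abbrev G : Type := Cfsg.Spor.HN

instance finG : Finite G := Nat.finite_of_card_ne_zero (by rw [S1701.result.2]; norm_num)

theorem ord_W0 : orderOf (W0 : G) = 2 := by
  exact orderOf_eq_prime (by rw [pow_two]; exact W0_sq) PCard.W0_ne_one

theorem idx_W0 : (centralizer ({W0} : Set G)).index = 74064375 := by
  have h1 := (centralizer ({W0} : Set G)).index_mul_card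
  rw [PCard.card_centralizer, S1701.result.2] at h1
  exact Nat.eq_of_mul_eq_mul_right (by norm_num : 0 < 3686400) (h1.trans (by norm_num))

variable {A : Subgroup G} {Γ : Subgroup (MulAut G)}

/-- the image of `A ∩ C(W0)` in `C(W0)/⟨W0⟩` -/
noncomputable def Y (A : Subgroup G) : Subgroup (KK (W0 : G)) :=
  (A.subgroupOf (centralizer ({W0} : Set G))).map (QuotientGroup.mk' (Zw W0))

theorem index_Y (hW : W0 ∈ A) : (Y A).index = A.relIndex (centralizer ({W0} : Set G)) := by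
  rw [Y, Subgroup.index_map, QuotientGroup.ker_mk', (QuotientGroup.mk' (Zw (W0 : G))).range_eq_top.2
    (QuotientGroup.mk'_surjective _), Subgroup.index_top, mul_one, Subgroup.relIndex]
  congr 1
  apply sup_eq_left.2
  rw [Zw, zpowers_le]
  exact hW

theorem no_W0 (h : IF A Γ) (hW : W0 ∈ A) : False := by
  have := H285.IFHNa.simpleHN
  obtain ⟨-, -, -, -, h5⟩ := H999.IFB.IF.E2' h H285.IFHNa.hna hW ord_W0
  have h6 := (h5 _ le_rfl).1
  rw [idx_W0] at h6
  have h7 : A.relIndex (centralizer ({W0} : Set G)) ≤ 37 := by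
    by_contra hcon
    have h7 : 38 ^ 5 ≤ A.relIndex (centralizer ({W0} : Set G)) ^ 5 := Nat.pow_le_pow_left (by omega) 5
    omega
  have h8 : A.relIndex (centralizer ({W0} : Set G)) ≠ 0 := Subgroup.index_ne_zero_of_finite
  refine HNAbs.abs (k := KFacts.HN.k) (γ := KFacts.HN.γ) hyp.toBas (Y := Y A) (by rwa [index_Y hW]) (by rwa [index_Y hW]) ?_
  intro m hm hY
  obtain ⟨u, hu, hum, hc1, hc2⟩ := hyp.mem_D_of_DD hm
  obtain ⟨v, hv, hvm⟩ := hY
  have hvc : (v : G) * W0 = W0 * v := mem_centralizer_singleton_iff.1 v.2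
  have hvA : (v : G) ∈ A := hv
  have h9 : π (W0 : G) (v : G) = π W0 u := by
    rw [hum, ← hvm, π_of hvc]
    rfl
  rcases (π_eq_iff W0_sq hvc hu).1 h9 with h10 | h10
  · exact H285.IFHNa.no_2A h hvA (by rw [← h10]; exact hc1.symm)
  · refine H285.IFHNa.no_2A h (A.mul_mem hvA hW) ?_
    rw [← h10]
    exact hc1.symm

/-- **The cell `hn`, `|A|` even.** -/
theorem killE : KillE G := by
  rintro A Γ h ⟨t, ht, h2⟩
  rcases Cfsg.Agent.SigZeroHN.card_centralizer_cases h2 with ⟨hc, -⟩ | ⟨hc, -⟩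
  · exact H285.IFHNa.no_2A h ht hc
  · obtain ⟨g, hg⟩ := isConj_iff.1 hc
    exact no_W0 (h.map (MulAut.conj g)) ⟨t, ht, hg⟩

end Cfsg.Agent.H789.IF.HNEven
end

private theorem dce_eaec12ae9294 : _root_.True := by
  try have : _root_.True := by simp only [_root_.Cfsg.Agent.H789.IF.HNAbs.G2.eq_1]
  try have : _root_.True := by simp only [_root_.Cfsg.Agent.H789.IF.HNEven.Y.eq_1]
  exact _root_.True.intro
end

-- part: H276/IF/KillE
section
set_option linter.all false

/-!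
# S5719, orthogonal groups, q odd, dimension at least 11: no counterexample with |A| even (helper276)
-/

set_option autoImplicit false
set_option linter.unusedSectionVars false

namespace Cfsg.Agent.H276.IF

open QuadraticMap Cfsg.Agent.LieClassical Cfsg.Agent.LieClassical.OrthCore Cfsg.Agent.LieClassical.OrthTrans
  Cfsg.Agent.LieClassical.OrthSimple Cfsg.Agent.AutOrth.SemiSim Cfsg.Agent.AutOrth.Gen
  Cfsg.Agent.H989.Gs.Gen Cfsg.Agent.H989.Fx
open Subgroup Cfsg.Agent.H209.Fxy Cfsg.Agent.H112.Row2.OrthExt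

variable {F V T : Type*} [Field F] [AddCommGroup V] [Module F V] {Q : QuadraticForm F V}

/-- the kill, from the minimal index theorem -/
theorem killE_min [Finite F] [FiniteDimensional F V] (h2 : (2 : F) ≠ 0) (hQ : Nondeg Q)
    (hN : 11 ≤ Module.finrank F V) [Group T] [Finite T] [IsSimpleGroup T] (hna : ∃ a b : T, a * b ≠ b * a)
    {A : Subgroup T} {Γ : Subgroup (MulAut T)} (h : IF A Γ) (pi : ↥(E Q) →* T) (hpi : Function.Surjective pi)
    (hk : KerScalar pi) (hA : ∃ t ∈ A, orderOf t = 2)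
    (hmin : ∀ D : Submodule F V, Ns Q D → 7 ≤ Module.finrank F D → ∀ H : Subgroup ↥(E (QU Q D)), H ≠ ⊤ →
      Nat.card F ^ (Module.finrank F D - 2) ≤ H.index) : False := by
  obtain ⟨t, ht, ho⟩ := hA
  obtain ⟨t, rfl⟩ := hpi t
  exact kill_of h2 hQ hN hna h pi hpi hk (Cfsg.Agent.H786.IF.use_fund h2 hQ hN h hna pi hpi hk ht ho) hmin

end Cfsg.Agent.H276.IF
end

-- part: H276/IF/KillE_mg
section

end

-- part: H254/IF/Row11
section
set_option linter.all false

/-!
# S5719: orthogonal groups in odd characteristic, dimension at least 11: the row theorem (helper254)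

`row_of_min` : `RowThm` from the minimal index theorem in `E Q` (USE: helper786, step: helper276, end: helper198).
-/

set_option autoImplicit false

namespace Cfsg.Agent.H254.IF

open QuadraticMap Cfsg Cfsg.Agent.LieClassical.OrthCore Cfsg.Agent.LieClassical.OrthTrans Cfsg.Agent.H209.Fxy
open Module (finrank)

/-- the minimal index theorem in `E Q` (interface) -/
def MinThm : Prop := ∀ (F V : Type) [Field F] [Finite F] [AddCommGroup V] [Module F V] [FiniteDimensional F V]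
  (Q : QuadraticForm F V), (2 : F) ≠ 0 → Nondeg Q → 7 ≤ finrank F V → ∀ H : Subgroup ↥(E Q), H ≠ ⊤ →
    Nat.card F ^ (finrank F V - 2) ≤ H.index

/-- **the row theorem from the minimal index theorem** -/
theorem row_of_min (hmin : MinThm) : RowThm := by
  intro F V _ _ _ _ _ Q h2 hQ hN T _ _ _ π hπ hk hna A Γ hA hev
  obtain ⟨t, htA, hto⟩ := hev
  obtain ⟨g, rfl⟩ := hπ t
  refine Cfsg.Agent.H276.IF.kill_of h2 hQ hN hna hA π hπ hk
    (Cfsg.Agent.H786.IF.use_fund h2 hQ hN hA hna π hπ hk htA hto) ?_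
  intro D hD h7 H hH
  exact hmin F D (Cfsg.Agent.H112.Row2.OrthExt.QU Q D) h2 (fun x hx => by
    apply Subtype.ext
    exact hD x x.2 fun y hy => hx ⟨y, hy⟩) h7 H hH

end Cfsg.Agent.H254.IF
end

-- part: H800/IFx/StepC_mg
section
prune_inst 0x7f0115049400440000000000014c0000020000004020040000000a004000000004840008000080024121800000000000020104c00000040000004000000000404011000100000000008800000000000000000000000000000000000000000000000200000000
set_option linter.all false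
open scoped Cfsg.Agent.FastGrp

-- part: H800/IFx/Gou
section
/-!
# S5719: subgroups of `SL₂(q) × SL₂(q)` of small index (helper800)

* `two_factor` : `q ≥ 5` odd, `X ≤ SL₂(q) × SL₂(q)`, `|.. : X|^5 < q^4 (q^2 + 1) (q^2 + q + 1)`: `X` contains a factor.
-/

set_option autoImplicit false
set_option linter.unusedSectionVars false

namespace Cfsg.Agent.H800.IFx

open Matrix Subgroup

section abs

variable {S T : Type*} [Group S] [Group T] [Finite S] [Finite T]

theorem index_mul_le (X : Subgroup (S × T)) :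
    (X.map (MonoidHom.fst S T)).index * (X.map (MonoidHom.snd S T)).index ≤ X.index := by
  have h1 : X ≤ (X.map (MonoidHom.fst S T)).prod (X.map (MonoidHom.snd S T)) := fun x hx => ⟨⟨x, hx, rfl⟩, ⟨x, hx, rfl⟩⟩
  have h2 : Nat.card X ≤ Nat.card (X.map (MonoidHom.fst S T)) * Nat.card (X.map (MonoidHom.snd S T)) := by
    rw [← Nat.card_prod]
    exact Nat.card_le_card_of_injective (fun x => (⟨⟨x.1.1, x.1, x.2, rfl⟩, ⟨x.1.2, x.1, x.2, rfl⟩⟩ :
      X.map (MonoidHom.fst S T) × X.map (MonoidHom.snd S T))) (fun x y hxy => by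
        have h3 : x.1.1 = y.1.1 := congrArg (fun z => z.1.1) hxy
        have h4 : x.1.2 = y.1.2 := congrArg (fun z => z.2.1) hxy
        exact Subtype.ext (Prod.ext h3 h4))
  have h3 := X.index_mul_card
  have h4 := (X.map (MonoidHom.fst S T)).index_mul_card
  have h5 := (X.map (MonoidHom.snd S T)).index_mul_card
  rw [Nat.card_prod, ← h4, ← h5] at h3
  have h6 : 0 < Nat.card X := Nat.card_pos
  refine Nat.le_of_mul_le_mul_right ?_ h6
  rw [h3]
  calc _ ≤ (X.map (MonoidHom.fst S T)).index * (X.map (MonoidHom.snd S T)).index *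
        (Nat.card (X.map (MonoidHom.fst S T)) * Nat.card (X.map (MonoidHom.snd S T))) := Nat.mul_le_mul_left _ h2
    _ = _ := by ring

theorem side (X : Subgroup (S × T)) (h1 : X.map (MonoidHom.fst S T) = ⊤)
    (hN : ∀ Y : Subgroup S, Y.Normal → Y ≠ ⊤ → Nat.card Y ≤ 2) (hidx : 2 * X.index < Nat.card S) :
    ∀ a : S, (a, (1 : T)) ∈ X := by
  obtain ⟨Y, hY⟩ : ∃ Y : Subgroup S, Y = X.comap (MonoidHom.inl S T) := ⟨_, rfl⟩
  have hmem : ∀ a, a ∈ Y ↔ (a, (1 : T)) ∈ X := fun a => by rw [hY]; rfl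
  by_contra hcon
  have hne : Y ≠ ⊤ := by
    intro h2
    apply hcon
    intro a
    rw [← hmem, h2]
    exact mem_top a
  have hn : Y.Normal := ⟨fun a ha g => by
    obtain ⟨x, hx, hxg⟩ : g ∈ X.map (MonoidHom.fst S T) := by rw [h1]; exact mem_top g
    obtain ⟨g', b⟩ := x
    have h2 : g' = g := hxg
    subst h2
    rw [hmem] at ha ⊢
    have h3 := X.mul_mem (X.mul_mem hx ha) (X.inv_mem hx)
    have h4 : (g', b) * (a, (1 : T)) * (g', b)⁻¹ = (g' * a * g'⁻¹, 1) := by
      rw [Prod.inv_mk, Prod.mk_mul_mk, Prod.mk_mul_mk, mul_one, mul_inv_cancel]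
    rwa [h4] at h3⟩
  have h2 := hN Y hn hne
  have h3 : Nat.card X ≤ 2 * Nat.card T := by
    classical
    refine le_trans ?_ (Nat.mul_le_mul_right (Nat.card T) h2)
    rw [← Nat.card_prod]
    -- choose representatives of the fibres of `snd`
    let r : T → X := fun t => if h : ∃ y : X, y.1.2 = t then h.choose else 1
    have hr : ∀ x : X, (r x.1.2).1.2 = x.1.2 := by
      intro x
      have h : ∃ y : X, y.1.2 = x.1.2 := ⟨x, rfl⟩
      have h4 : r x.1.2 = h.choose := dif_pos h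
      rw [h4]
      exact h.choose_spec
    have hYm : ∀ x : X, x.1.1 * (r x.1.2).1.1⁻¹ ∈ Y := by
      intro x
      rw [hmem]
      have h4 := X.mul_mem x.2 (X.inv_mem (r x.1.2).2)
      have h5 : (x : S × T) * (r x.1.2 : S × T)⁻¹ = (x.1.1 * (r x.1.2).1.1⁻¹, 1) := by
        apply Prod.ext
        · rfl
        · change x.1.2 * (r x.1.2).1.2⁻¹ = 1
          rw [hr, mul_inv_cancel]
      rwa [h5] at h4
    refine Nat.card_le_card_of_injective (fun x : X => ((⟨_, hYm x⟩, x.1.2) : Y × T)) ?_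
    intro x y hxy
    have h4 : x.1.2 = y.1.2 := congrArg (fun z => z.2) hxy
    have h5 : x.1.1 * (r x.1.2).1.1⁻¹ = y.1.1 * (r y.1.2).1.1⁻¹ := congrArg (fun z => z.1.1) hxy
    rw [h4] at h5
    exact Subtype.ext (Prod.ext (mul_right_cancel h5) h4)
  have h4 := X.index_mul_card
  rw [Nat.card_prod] at h4
  have h5 : 0 < Nat.card T := Nat.card_pos
  have h6 : Nat.card S * Nat.card T ≤ 2 * X.index * Nat.card T := by
    rw [← h4]
    calc X.index * Nat.card X ≤ X.index * (2 * Nat.card T) := Nat.mul_le_mul_left _ h3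
      _ = _ := by ring
  have h7 := Nat.le_of_mul_le_mul_right h6 h5
  omega

end abs

variable {F : Type*} [Field F] [Fintype F]

/-- normal subgroups of `SL₂(q)` -/
theorem sl_normal_card (ho : Odd (Fintype.card F)) (h5 : 5 ≤ Fintype.card F)
    (Y : Subgroup (_root_.Matrix.SpecialLinearGroup (Fin 2) F)) (hn : Y.Normal) (hne : Y ≠ ⊤) : Nat.card Y ≤ 2 := by
  have h2 := Cfsg.Agent.H771.IFx.two_ne_of_odd ho
  have hs : IsSimpleGroup (ProjectiveSpecialLinearGroup (Fin 2) F) :=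
    ProjectiveSpecialLinearGroup.rank_two_simple (by rw [Nat.card_eq_fintype_card]; omega)
  let π : _root_.Matrix.SpecialLinearGroup (Fin 2) F →* ProjectiveSpecialLinearGroup (Fin 2) F :=
    QuotientGroup.mk' (Subgroup.center (_root_.Matrix.SpecialLinearGroup (Fin 2) F))
  have hπ : Function.Surjective π := QuotientGroup.mk'_surjective _
  have hcc : Nat.card (Subgroup.center (_root_.Matrix.SpecialLinearGroup (Fin 2) F)) = 2 :=
    Cfsg.Agent.ClassicalGeometry.PSL2Basic.card_center_SL2_odd h2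
  have hker : π.ker = Subgroup.center (_root_.Matrix.SpecialLinearGroup (Fin 2) F) := QuotientGroup.ker_mk' _
  rcases (hn.map π hπ).eq_bot_or_eq_top with h1 | h1
  · have h3 : Y ≤ Subgroup.center (_root_.Matrix.SpecialLinearGroup (Fin 2) F) := by
      rw [← hker]
      exact (Subgroup.map_eq_bot_iff Y).1 h1
    exact (Subgroup.card_le_of_le h3).trans hcc.le
  · exfalso
    apply hne
    apply Cfsg.Agent.H771.IFx.idx_top ho h5
    have h3 : Y.index ≤ 2 := by
      have h4 : Y ⊔ Subgroup.center (_root_.Matrix.SpecialLinearGroup (Fin 2) F) = ⊤ := by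
        rw [← hker, ← Subgroup.comap_map_eq, h1, Subgroup.comap_top]
      have h5 : Y.relIndex (Subgroup.center (_root_.Matrix.SpecialLinearGroup (Fin 2) F)) = Y.index := by
        rw [← Subgroup.relIndex_sup_right, sup_comm, h4, Subgroup.relIndex_top_right]
      rw [← h5]
      exact (Nat.le_of_dvd Nat.card_pos (Subgroup.relIndex_dvd_card _ _)).trans hcc.le
    calc Y.index ^ 5 ≤ 2 ^ 5 := Nat.pow_le_pow_left h3 5
      _ < (5 ^ 2 + 5 + 1) * 5 ^ 2 := by norm_num
      _ ≤ _ := by gcongr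

theorem two_factor (ho : Odd (Fintype.card F)) (h5 : 5 ≤ Fintype.card F)
    (X : Subgroup (_root_.Matrix.SpecialLinearGroup (Fin 2) F × _root_.Matrix.SpecialLinearGroup (Fin 2) F))
    (h : X.index ^ 5 < Fintype.card F ^ 4 * (Fintype.card F ^ 2 + 1) * (Fintype.card F ^ 2 + Fintype.card F + 1)) :
    (∀ a, (a, (1 : _root_.Matrix.SpecialLinearGroup (Fin 2) F)) ∈ X) ∨ (∀ b, ((1 : _root_.Matrix.SpecialLinearGroup (Fin 2) F), b) ∈ X) := by
  obtain ⟨q, hq⟩ : ∃ q, Fintype.card F = q := ⟨_, rfl⟩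
  have hcard : Nat.card (_root_.Matrix.SpecialLinearGroup (Fin 2) F) = q * (q ^ 2 - 1) := by
    rw [Cfsg.Agent.ClassicalGeometry.PSL2Basic.card_SL2, hq]
  have hq5 : 5 ≤ q := by omega
  have hidx : 2 * X.index < Nat.card (_root_.Matrix.SpecialLinearGroup (Fin 2) F) := by
    rw [hcard]
    by_contra hcon
    push Not at hcon
    rw [hq] at h
    have h1 : (q * (q ^ 2 - 1)) ^ 5 ≤ (2 * X.index) ^ 5 := Nat.pow_le_pow_left hcon 5
    have h2 : q ^ 2 ≤ 2 * (q ^ 2 - 1) := by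
      have : 5 ^ 2 ≤ q ^ 2 := Nat.pow_le_pow_left hq5 2
      omega
    have h3 : (q * q ^ 2) ^ 5 ≤ (2 * (q * (q ^ 2 - 1))) ^ 5 := by
      apply Nat.pow_le_pow_left
      calc q * q ^ 2 ≤ q * (2 * (q ^ 2 - 1)) := Nat.mul_le_mul_left _ h2
        _ = _ := by ring
    have h4 : (q * q ^ 2) ^ 5 ≤ 2 ^ 10 * X.index ^ 5 := by
      calc _ ≤ _ := h3
        _ = 2 ^ 5 * (q * (q ^ 2 - 1)) ^ 5 := by ring
        _ ≤ 2 ^ 5 * (2 * X.index) ^ 5 := Nat.mul_le_mul_left _ h1
        _ = _ := by ring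
    have h5 : (q * q ^ 2) ^ 5 < 2 ^ 10 * (q ^ 4 * (q ^ 2 + 1) * (q ^ 2 + q + 1)) := by
      calc _ ≤ _ := h4
        _ < _ := by gcongr
    have h6 : q ^ 4 * (q ^ 2 + 1) * (q ^ 2 + q + 1) ≤ q ^ 4 * (2 * q ^ 2) * (2 * q ^ 2) := by
      gcongr <;> nlinarith
    have h7 : q ^ 8 * q ^ 7 < q ^ 8 * 4096 := by
      calc q ^ 8 * q ^ 7 = (q * q ^ 2) ^ 5 := by ring
        _ < _ := h5
        _ ≤ 2 ^ 10 * (q ^ 4 * (2 * q ^ 2) * (2 * q ^ 2)) := Nat.mul_le_mul_left _ h6
        _ = _ := by ring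
    have h8 : q ^ 7 < 4096 := lt_of_mul_lt_mul_left h7 (Nat.zero_le _)
    have h9 : 5 ^ 7 ≤ q ^ 7 := Nat.pow_le_pow_left hq5 7
    omega
  have hN := sl_normal_card ho h5
  by_cases h1 : X.map (MonoidHom.fst _ _) = ⊤
  · exact Or.inl (side X h1 hN hidx)
  · by_cases h2 : X.map (MonoidHom.snd (_root_.Matrix.SpecialLinearGroup (Fin 2) F) (_root_.Matrix.SpecialLinearGroup (Fin 2) F)) = ⊤
    · right
      have h3 := side (X.comap (MulEquiv.prodComm (M := _root_.Matrix.SpecialLinearGroup (Fin 2) F)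
        (N := _root_.Matrix.SpecialLinearGroup (Fin 2) F)).toMonoidHom) (by
          rw [eq_top_iff]
          intro b _
          obtain ⟨⟨x, y⟩, hx, hxy⟩ : b ∈ X.map (MonoidHom.snd (_root_.Matrix.SpecialLinearGroup (Fin 2) F)
            (_root_.Matrix.SpecialLinearGroup (Fin 2) F)) := by rw [h2]; exact mem_top b
          exact ⟨(y, x), hx, hxy⟩) hN (by
          rw [Subgroup.index_comap_of_surjective _ (MulEquiv.surjective _)]
          exact hidx)
      exact h3
    · exfalso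
      have h3 : (Fintype.card F ^ 2 + Fintype.card F + 1) * Fintype.card F ^ 2 ≤ (X.map (MonoidHom.fst _ _)).index ^ 5 := by
        by_contra hcon
        exact h1 (Cfsg.Agent.H771.IFx.idx_top ho h5 _ (not_le.1 hcon))
      have h4 : (Fintype.card F ^ 2 + Fintype.card F + 1) * Fintype.card F ^ 2 ≤ (X.map (MonoidHom.snd _ _)).index ^ 5 := by
        by_contra hcon
        exact h2 (Cfsg.Agent.H771.IFx.idx_top ho h5 _ (not_le.1 hcon))
      have h6 := Nat.pow_le_pow_left (index_mul_le X) 5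
      rw [mul_pow] at h6
      have h7 := Nat.mul_le_mul h3 h4
      rw [hq] at h h7
      have h8 : q ^ 4 * (q ^ 2 + 1) * (q ^ 2 + q + 1) ≤ (q ^ 2 + q + 1) * q ^ 2 * ((q ^ 2 + q + 1) * q ^ 2) := by
        calc q ^ 4 * (q ^ 2 + 1) * (q ^ 2 + q + 1) ≤ q ^ 4 * (q ^ 2 + q + 1) * (q ^ 2 + q + 1) := by gcongr; omega
          _ = _ := by ring
      omega

end Cfsg.Agent.H800.IFx
end

-- part: H800/IFx/StepC
section
/-!
# S5719, `PSU_4(q)`, `q ≥ 5` odd: step C (helper800)

`H` contains the involution `t`, which is `-1` on the nondegenerate plane `P` and `1` on `P^⊥`: `H` contains all transvections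
with centre in `P`, or all transvections with centre in `P^⊥`.

* `tl`, `ph` : the action of `SL₂(F)` on a hyperbolic plane;
* `ph_isom`, `exists_ph` : matrices over the fixed field, transvections;
* `stepC`.
-/

set_option autoImplicit false
set_option linter.unusedSectionVars false

namespace Cfsg.Agent.H800.IFx

open Module Matrix Cfsg.Agent.H91.U Cfsg.Agent.H450.UF Cfsg.Agent.H450.Bs Cfsg.Agent.H838.IF

variable {F V : Type*} [Field F] [AddCommGroup V] [Module F V] {σ : F →+* F} {B : V →ₛₗ[σ] V →ₗ[F] F}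

variable (B) in
/-- a hyperbolic pair together with an element of trace zero -/
structure Hy (ε : F) (e f : V) : Prop where
  ee : B e e = 0
  ff : B f f = 0
  ef : B e f = 1
  fe : B f e = 1
  ne : ε ≠ 0

variable (B) in
/-- the matrix `m` acts on the plane `⟨e, f⟩` -/
def tl (ε : F) (e f : V) (m : Matrix (Fin 2) (Fin 2) F) : V →ₗ[F] V :=
  LinearMap.id + ((m 0 0 - 1) • B f + (ε * m 0 1) • B e).smulRight e +
    ((ε⁻¹ * m 1 0) • B f + (m 1 1 - 1) • B e).smulRight f

variable {ε : F} {e f : V}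

theorem tl_apply (m : Matrix (Fin 2) (Fin 2) F) (v : V) : tl B ε e f m v =
    v + ((m 0 0 - 1) * B f v + ε * m 0 1 * B e v) • e + (ε⁻¹ * m 1 0 * B f v + (m 1 1 - 1) * B e v) • f := rfl

theorem lin_congr {v : V} {a b a' b' : F} (h : a = a') (h' : b = b') : v + a • e + b • f = v + a' • e + b' • f := by
  rw [h, h']

theorem B_tl (m : Matrix (Fin 2) (Fin 2) F) (w v : V) : B w (tl B ε e f m v) =
    B w v + ((m 0 0 - 1) * B f v + ε * m 0 1 * B e v) * B w e +
      (ε⁻¹ * m 1 0 * B f v + (m 1 1 - 1) * B e v) * B w f := by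
  rw [tl_apply, map_add, map_add, smul_right, smul_right]

theorem tl_e (h : Hy B ε e f) (m : Matrix (Fin 2) (Fin 2) F) (v : V) :
    B e (tl B ε e f m v) = ε⁻¹ * m 1 0 * B f v + m 1 1 * B e v := by
  rw [B_tl, h.ee, h.ef]
  ring

theorem tl_f (h : Hy B ε e f) (m : Matrix (Fin 2) (Fin 2) F) (v : V) :
    B f (tl B ε e f m v) = m 0 0 * B f v + ε * m 0 1 * B e v := by
  rw [B_tl, h.fe, h.ff]
  ring

theorem tl_mul (h : Hy B ε e f) (m m' : Matrix (Fin 2) (Fin 2) F) (v : V) :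
    tl B ε e f (m * m') v = tl B ε e f m (tl B ε e f m' v) := by
  have hne := h.ne
  rw [tl_apply m (tl B ε e f m' v), tl_e h, tl_f h, tl_apply m', tl_apply]
  have h1 : ∀ a b a' b' : F, v + a' • e + b' • f + a • e + b • f = v + (a' + a) • e + (b' + b) • f := by
    intro a b a' b'
    module
  rw [h1, Matrix.mul_apply, Matrix.mul_apply, Matrix.mul_apply, Matrix.mul_apply, Fin.sum_univ_two, Fin.sum_univ_two,
    Fin.sum_univ_two, Fin.sum_univ_two]
  refine lin_congr ?_ ?_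
  · field_simp
    ring
  · field_simp
    ring

theorem tl_one (v : V) : tl B ε e f 1 v = v := by
  rw [tl_apply, Matrix.one_apply_eq, Matrix.one_apply_eq, Matrix.one_apply_ne (by decide), Matrix.one_apply_ne (by decide)]
  simp

/-- `SL₂(F)` acts on the plane `⟨e, f⟩` -/
def ph (h : Hy B ε e f) : _root_.Matrix.SpecialLinearGroup (Fin 2) F →* (V ≃ₗ[F] V) where
  toFun m := LinearEquiv.ofLinearMap (tl B ε e f m.1) (tl B ε e f (m⁻¹).1)
    (LinearMap.ext fun v => by
      have h1 : m.1 * (m⁻¹).1 = 1 := congrArg Subtype.val (mul_inv_cancel m)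
      change tl B ε e f m.1 (tl B ε e f (m⁻¹).1 v) = v
      rw [← tl_mul h, h1, tl_one])
    (LinearMap.ext fun v => by
      have h1 : (m⁻¹).1 * m.1 = 1 := congrArg Subtype.val (inv_mul_cancel m)
      change tl B ε e f (m⁻¹).1 (tl B ε e f m.1 v) = v
      rw [← tl_mul h, h1, tl_one])
  map_one' := LinearEquiv.ext fun v => tl_one v
  map_mul' m m' := LinearEquiv.ext fun v => tl_mul h m.1 m'.1 v

theorem ph_apply (h : Hy B ε e f) (m : _root_.Matrix.SpecialLinearGroup (Fin 2) F) (v : V) : ph h m v = tl B ε e f m.1 v := rfl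

/-- isometries -/
theorem ph_isom (hB : HForm B) (h : Hy B ε e f) (hε : ε + σ ε = 0) (m : _root_.Matrix.SpecialLinearGroup (Fin 2) F)
    (hm : ∀ i j, σ (m.1 i j) = m.1 i j) (v w : V) : B (ph h m v) (ph h m w) = B v w := by
  have hne := h.ne
  have hσε : σ ε = -ε := by linear_combination hε
  have hd : m.1 0 0 * m.1 1 1 - m.1 0 1 * m.1 1 0 = 1 := by
    rw [← Matrix.det_fin_two]
    exact m.2
  have e1 : B (ph h m v) (ph h m w) = B (tl B ε e f m.1 v) (tl B ε e f m.1 w) := rfl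
  rw [e1, B_tl, sw hB w (tl B ε e f m.1 v), sw hB e (tl B ε e f m.1 v), sw hB f (tl B ε e f m.1 v), tl_e h, tl_f h, B_tl,
    sw hB e w, sw hB f w]
  simp only [map_add, map_mul, map_sub, map_one, map_inv₀, hm, hσε, hB.invol]
  rw [← sw hB w v]
  field_simp
  linear_combination ε * (σ (B f v) * B e w + σ (B e v) * B f w) * hd

/-- transvections with centre in the plane -/
theorem exists_ph (hB : HForm B) (h : Hy B ε e f) (hε : ε + σ ε = 0) {x y : F}
    (hc : B (x • e + y • f) (x • e + y • f) = 0) {l : F} (hl : l + σ l = 0) {g : V ≃ₗ[F] V}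
    (hg : IsTv B (x • e + y • f) l g) :
    ∃ m : _root_.Matrix.SpecialLinearGroup (Fin 2) F, (∀ i j, σ (m.1 i j) = m.1 i j) ∧ ph h m = g := by
  have hne := h.ne
  have hσε : σ ε = -ε := by linear_combination hε
  have hσl : σ l = -l := by linear_combination hl
  have hc' : σ x * y + σ y * x = 0 := by
    rw [map_add, map_add, LinearMap.add_apply, LinearMap.add_apply, smul_left, smul_left, smul_left, smul_left,
      smul_right, smul_right, smul_right, smul_right, h.ee, h.ff, h.ef, h.fe] at hc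
    linear_combination hc
  let M : Matrix (Fin 2) (Fin 2) F := !![1 + l * x * σ y, ε⁻¹ * (l * x * σ x); ε * (l * y * σ y), 1 + l * y * σ x]
  have hM : M.det = 1 := by
    rw [Matrix.det_fin_two]
    change (1 + l * x * σ y) * (1 + l * y * σ x) - ε⁻¹ * (l * x * σ x) * (ε * (l * y * σ y)) = 1
    field_simp
    linear_combination l * hc'
  obtain ⟨m, hm⟩ : ∃ m : _root_.Matrix.SpecialLinearGroup (Fin 2) F, m.1 = M := ⟨⟨M, hM⟩, rfl⟩
  refine ⟨m, ?_, LinearEquiv.ext fun v => ?_⟩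
  · rw [hm]
    intro i j
    fin_cases i <;> fin_cases j
    · change σ (1 + l * x * σ y) = 1 + l * x * σ y
      rw [map_add, map_mul, map_mul, map_one, hB.invol, hσl]
      linear_combination -l * hc'
    · change σ (ε⁻¹ * (l * x * σ x)) = ε⁻¹ * (l * x * σ x)
      rw [map_mul, map_mul, map_mul, map_inv₀, hB.invol, hσl, hσε]
      field_simp
    · change σ (ε * (l * y * σ y)) = ε * (l * y * σ y)
      rw [map_mul, map_mul, map_mul, hB.invol, hσl, hσε]
      ring
    · change σ (1 + l * y * σ x) = 1 + l * y * σ x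
      rw [map_add, map_mul, map_mul, map_one, hB.invol, hσl]
      linear_combination -l * hc'
  · rw [ph_apply, tl_apply, hm, hg, map_add, LinearMap.add_apply, smul_left, smul_left, smul_add, smul_smul, smul_smul,
      ← add_assoc]
    change v + ((1 + l * x * σ y - 1) * B f v + ε * (ε⁻¹ * (l * x * σ x)) * B e v) • e +
      (ε⁻¹ * (ε * (l * y * σ y)) * B f v + (1 + l * y * σ x - 1) * B e v) • f = _
    refine lin_congr ?_ ?_
    · field_simp
      ring
    · field_simp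
      ring

/-- determinant one -/
theorem ph_mem [Fintype F] (hB : HForm B) (h4 : 4 ≤ Fintype.card F) (h : Hy B ε e f) (hε : ε + σ ε = 0)
    (m : _root_.Matrix.SpecialLinearGroup (Fin 2) F) (hm : ∀ i j, σ (m.1 i j) = m.1 i j) : ph h m ∈ SIso B := by
  refine ⟨?_, ph_isom hB h hε m hm⟩
  have hperf := (Cfsg.Agent.SignalizersComponents.SLQuasisimple.isQuasisimple_two (F := F)
    (by rw [Nat.card_eq_fintype_card]; exact h4)).1
  have h1 : commutator (_root_.Matrix.SpecialLinearGroup (Fin 2) F) = ⊤ := hperf.commutator_eq_top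
  have h2 : commutator (_root_.Matrix.SpecialLinearGroup (Fin 2) F) ≤ (LinearEquiv.det.comp (ph h)).ker :=
    Abelianization.commutator_subset_ker _
  rw [h1] at h2
  exact h2 (Subgroup.mem_top m)

theorem tl_comm {e' f' : V} (h1 : B e e' = 0) (h2 : B e f' = 0) (h3 : B f e' = 0) (h4 : B f f' = 0) (hB : HForm B)
    (m m' : Matrix (Fin 2) (Fin 2) F) (v : V) :
    tl B ε e f m (tl B ε e' f' m' v) = tl B ε e' f' m' (tl B ε e f m v) := by
  have e1 : B e (tl B ε e' f' m' v) = B e v := by rw [B_tl, h1, h2, mul_zero, mul_zero, add_zero, add_zero]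
  have e2 : B f (tl B ε e' f' m' v) = B f v := by rw [B_tl, h3, h4, mul_zero, mul_zero, add_zero, add_zero]
  have e3 : B e' (tl B ε e f m v) = B e' v := by
    rw [B_tl, hB.swap_zero h1, hB.swap_zero h3, mul_zero, mul_zero, add_zero, add_zero]
  have e4 : B f' (tl B ε e f m v) = B f' v := by
    rw [B_tl, hB.swap_zero h2, hB.swap_zero h4, mul_zero, mul_zero, add_zero, add_zero]
  rw [tl_apply m (tl B ε e' f' m' v), e1, e2, tl_apply m' (tl B ε e f m v), e3, e4, tl_apply, tl_apply]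
  abel

variable (σ) in
/-- the fixed field of the involution -/
abbrev Fx : Subfield F := RingHom.eqLocusField σ (RingHom.id F)

theorem card_fix [Fintype F] {q : ℕ} (hB : HForm B) (hF : Fintype.card F = q ^ 2) (h2 : (2 : F) ≠ 0) :
    Nat.card (Fx σ) = q := by
  obtain ⟨ε, hne, hε⟩ := exists_trz hB
  have hσε : σ ε = -ε := by linear_combination hε
  have hbij : Function.Bijective (fun z : Fx σ × Fx σ => (z.1 : F) + ε * (z.2 : F)) := by
    constructor
    · rintro ⟨⟨a, ha⟩, ⟨b, hb⟩⟩ ⟨⟨a', ha'⟩, ⟨b', hb'⟩⟩ hz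
      change a + ε * b = a' + ε * b' at hz
      change σ a = a at ha
      change σ b = b at hb
      change σ a' = a' at ha'
      change σ b' = b' at hb'
      have h3 := congrArg σ hz
      rw [map_add, map_add, map_mul, map_mul, ha, hb, ha', hb', hσε] at h3
      have h4 : a = a' := mul_left_cancel₀ h2 (by linear_combination hz + h3)
      have h5 : b = b' := mul_left_cancel₀ hne (by linear_combination hz - h4)
      subst h4
      subst h5
      rfl
    · intro x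
      refine ⟨⟨⟨(x + σ x) / 2, ?_⟩, ⟨(x - σ x) / (2 * ε), ?_⟩⟩, ?_⟩
      · change σ ((x + σ x) / 2) = (x + σ x) / 2
        rw [map_div₀, map_add, hB.invol, map_ofNat, add_comm]
      · change σ ((x - σ x) / (2 * ε)) = (x - σ x) / (2 * ε)
        rw [map_div₀, map_sub, map_mul, hB.invol, map_ofNat, hσε]
        field_simp
        ring
      · change (x + σ x) / 2 + ε * ((x - σ x) / (2 * ε)) = x
        field_simp
        ring
  have h3 := Nat.card_congr (Equiv.ofBijective _ hbij)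
  rw [Nat.card_prod, Nat.card_eq_fintype_card (α := F), hF, sq] at h3
  exact Nat.mul_self_inj.1 h3

/-- all transvections with centre in the plane -/
theorem on_of [Fintype F] [FiniteDimensional F V] (hB : HForm B) {H : Subgroup (V ≃ₗ[F] V)} {P : Submodule F V}
    (hP : finrank F P = 2) (he : e ∈ P) (hf : f ∈ P) (h : Hy B ε e f) (hε : ε + σ ε = 0)
    (hm : ∀ m : _root_.Matrix.SpecialLinearGroup (Fin 2) (Fx σ), ph h (SpecialLinearGroup.map (Fx σ).subtype m) ∈ H) : On B H P := by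
  intro c hcP hc0 hcc l hl g hg
  have hli : LinearIndependent F ![e, f] := li_of_not_perp h.ee (by rw [h.ef]; exact one_ne_zero)
  have hle : Submodule.span F (Set.range ![e, f]) ≤ P := by
    rw [Submodule.span_le]
    rintro _ ⟨i, rfl⟩
    fin_cases i
    · exact he
    · exact hf
  have hspan : Submodule.span F (Set.range ![e, f]) = P :=
    Submodule.eq_of_le_of_finrank_eq hle (by rw [hP, finrank_span_eq_card hli, Fintype.card_fin])
  rw [← hspan, Matrix.range_cons_cons_empty, Submodule.mem_span_pair] at hcP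
  obtain ⟨x, y, rfl⟩ := hcP
  obtain ⟨m, hm1, hm2⟩ := exists_ph hB h hε hcc hl hg
  obtain ⟨m', hm'⟩ : ∃ m' : _root_.Matrix.SpecialLinearGroup (Fin 2) (Fx σ), SpecialLinearGroup.map (Fx σ).subtype m' = m := by
    let M : Matrix (Fin 2) (Fin 2) (Fx σ) := Matrix.of fun i j => ⟨m.1 i j, hm1 i j⟩
    have hM : M.det = 1 := by
      apply (Fx σ).subtype.injective
      rw [RingHom.map_det, map_one]
      have h1 : (Fx σ).subtype.mapMatrix M = m.1 := rfl
      rw [h1]
      exact m.2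
    exact ⟨⟨M, hM⟩, Subtype.ext rfl⟩
  rw [← hm2, ← hm']
  exact hm m'

/-- the orthogonal space of a nondegenerate plane -/
theorem np_pp [Fintype F] [FiniteDimensional F V] (hB : HForm B) (hV : finrank F V = 4) {P : Submodule F V}
    (hP : NP B P) : NP B (pp B P) := by
  refine ⟨?_, fun x hx hxy => hB.eq_zero fun v => ?_⟩
  · have h1 := finrank_pp hB P
    rw [hP.dim, hV] at h1
    omega
  · obtain ⟨a, ha, b, hb, rfl⟩ := exists_decomp hB hP.nd v
    rw [map_add, hx a ha, hxy b (fun z hz => hB.swap_zero (hb z hz)), add_zero]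

/-- **step C** -/
theorem stepC_of [Fintype F] [FiniteDimensional F V] {H : Subgroup (V ≃ₗ[F] V)} {q : ℕ} (hB : HForm B)
    (hF : Fintype.card F = q ^ 2) (hV : finrank F V = 4) (hq : Odd q) (h5 : 5 ≤ q) (hH : Pk B H)
    (hc : ∀ (P : Submodule F V) (t : V ≃ₗ[F] V), NP B P → _root_.Cfsg.Agent.H838.IF.Neg B t P →
      cls B t ≤ q ^ 4 * (q ^ 2 + 1) * (q ^ 2 - q + 1)) : StepC B H := by
  intro P t hP ht htH
  have h2 : (2 : F) ≠ 0 := Cfsg.Agent.H771.IFx.two_ne_of_odd (by rw [hF]; exact hq.pow)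
  have hfin : Fintype (Fx σ) := Fintype.ofFinite _
  have hK : Fintype.card (Fx σ) = q := by rw [← Nat.card_eq_fintype_card, card_fix hB hF h2]
  have hP' := np_pp hB hV hP
  obtain ⟨ε, hne, hε⟩ := exists_trz hB
  obtain ⟨e, he, f, hf, hee, hff, hef⟩ := _root_.Cfsg.Agent.H450.Bs.exists_hyp hB hP.nd hP.dim.ge
  obtain ⟨e', he', f', hf', hee', hff', hef'⟩ := _root_.Cfsg.Agent.H450.Bs.exists_hyp hB hP'.nd hP'.dim.ge
  have h : Hy B ε e f := ⟨hee, hff, hef, by rw [sw hB e f, hef, map_one], hne⟩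
  have h' : Hy B ε e' f' := ⟨hee', hff', hef', by rw [sw hB e' f', hef', map_one], hne⟩
  have hF4 : 4 ≤ Fintype.card F := by
    rw [hF]
    nlinarith only [h5]
  let ι : _root_.Matrix.SpecialLinearGroup (Fin 2) (Fx σ) →* _root_.Matrix.SpecialLinearGroup (Fin 2) F := SpecialLinearGroup.map (Fx σ).subtype
  have hι : ∀ (m : _root_.Matrix.SpecialLinearGroup (Fin 2) (Fx σ)) (i j : Fin 2), σ ((ι m).1 i j) = (ι m).1 i j :=
    fun m i j => (m.1 i j).2
  have hcomm : ∀ m m', Commute (((ph h).comp ι) m) (((ph h').comp ι) m') := fun m m' => LinearEquiv.ext fun v =>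
    tl_comm (hB.swap_zero (he' e he)) (hB.swap_zero (hf' e he)) (hB.swap_zero (he' f hf)) (hB.swap_zero (hf' f hf)) hB
      (ι m).1 (ι m').1 v
  let Φ := ((ph h).comp ι).noncommCoprod ((ph h').comp ι) hcomm
  have hΦ : ∀ m m', Φ (m, m') = ph h (ι m) * ph h' (ι m') := fun m m' => rfl
  have ht1 : ∀ x ∈ P, ∀ v, B x (t v) = -B x v := by
    intro x hx v
    obtain ⟨a, ha, b, hb, rfl⟩ := exists_decomp hB hP.nd v
    rw [map_add, ht.1 a ha, ht.2 b (fun z hz => hB.swap_zero (hb z hz)), map_add, map_add, map_neg, hb x hx, add_zero,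
      add_zero]
  have ht2 : ∀ x ∈ pp B P, ∀ v, B x (t v) = B x v := by
    intro x hx v
    obtain ⟨a, ha, b, hb, rfl⟩ := exists_decomp hB hP.nd v
    rw [map_add, ht.1 a ha, ht.2 b (fun z hz => hB.swap_zero (hb z hz)), map_add, map_add, map_neg, hx a ha, neg_zero]
  have hk1 : Φ.range ≤ SIso B := by
    rintro _ ⟨⟨m, m'⟩, rfl⟩
    rw [hΦ]
    exact mul_mem (ph_mem hB hF4 h hε _ (hι m)) (ph_mem hB hF4 h' hε _ (hι m'))
  have hk2 : ∀ k ∈ Φ.range, Comm k t := by
    rintro _ ⟨⟨m, m'⟩, rfl⟩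
    refine ⟨1, fun v => ?_⟩
    rw [hΦ, one_smul]
    change tl B ε e f (ι m).1 (tl B ε e' f' (ι m').1 (t v)) = t (tl B ε e f (ι m).1 (tl B ε e' f' (ι m').1 v))
    have e1 : ∀ v, tl B ε e' f' (ι m').1 (t v) = t (tl B ε e' f' (ι m').1 v) := by
      intro v
      rw [tl_apply, tl_apply, map_add, map_add, map_smul, map_smul, ht2 e' he', ht2 f' hf', ht.2 e' he', ht.2 f' hf']
    have e2 : ∀ v, tl B ε e f (ι m).1 (t v) = t (tl B ε e f (ι m).1 v) := by
      intro v
      rw [tl_apply, tl_apply, map_add, map_add, map_smul, map_smul, ht1 e he, ht1 f hf, ht.1 e he, ht.1 f hf]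
      module
    rw [e1, e2]
  have he0 : e ≠ 0 := by
    rintro rfl
    rw [map_zero, LinearMap.zero_apply] at hef
    exact zero_ne_one hef
  have he0' : e' ≠ 0 := by
    rintro rfl
    rw [map_zero, LinearMap.zero_apply] at hef'
    exact zero_ne_one hef'
  have hns : ¬ Scal t := by
    rintro ⟨a, ha⟩
    have e1 := ha e
    have e2 := ha e'
    rw [ht.1 e he] at e1
    rw [ht.2 e' he'] at e2
    have e3 : (a + 1) • e = 0 := by rw [add_smul, ← e1, one_smul, neg_add_cancel]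
    have e4 : (a - 1) • e' = 0 := by rw [sub_smul, ← e2, one_smul, sub_self]
    have e5 := (smul_eq_zero.1 e3).resolve_right he0
    have e6 := (smul_eq_zero.1 e4).resolve_right he0'
    exact h2 (by linear_combination e5 - e6)
  have hs : Scal (t * t) := by
    refine ⟨1, fun v => ?_⟩
    obtain ⟨a, ha, b, hb, rfl⟩ := exists_decomp hB hP.nd v
    rw [LinearEquiv.mul_apply, one_smul, map_add, ht.1 a ha, ht.2 b (fun z hz => hB.swap_zero (hb z hz)), map_add,
      map_neg, ht.1 a ha, ht.2 b (fun z hz => hB.swap_zero (hb z hz)), neg_neg]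
  have key := (hH.e2 t htH hns hs Φ.range hk1 hk2).trans_le (hc P t hP ht)
  rw [← Subgroup.index_comap] at key
  have key2 : (H.comap Φ).index ^ 5 < Fintype.card (Fx σ) ^ 4 * (Fintype.card (Fx σ) ^ 2 + 1) *
      (Fintype.card (Fx σ) ^ 2 + Fintype.card (Fx σ) + 1) := by
    rw [hK]
    exact key.trans_le (Nat.mul_le_mul_left _ (by omega))
  rcases two_factor (by rw [hK]; exact hq) (by rw [hK]; exact h5) (H.comap Φ) key2 with h3 | h3
  · left
    refine on_of hB hP.dim he hf h hε fun m => ?_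
    have h4 := h3 m
    rw [Subgroup.mem_comap, hΦ, map_one, map_one, mul_one] at h4
    exact h4
  · right
    refine on_of hB hP'.dim he' hf' h' hε fun m => ?_
    have h4 := h3 m
    rw [Subgroup.mem_comap, hΦ, map_one, map_one, one_mul] at h4
    exact h4

/-- **step C** -/
theorem stepC [Fintype F] [FiniteDimensional F V] {H : Subgroup (V ≃ₗ[F] V)} {q : ℕ} (hB : HForm B)
    (hF : Fintype.card F = q ^ 2) (hV : finrank F V = 4) (hq : Odd q) (h5 : 5 ≤ q) (hH : Pk B H) : StepC B H :=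
  stepC_of hB hF hV hq h5 hH fun _ _ hP ht => Cfsg.Agent.H715.IFU.cls_neg hB hF hV hP ht

end Cfsg.Agent.H800.IFx
end

-- part: H361/IFU/FourA
section
/-!
# `PSU_4(q)`: root groups, their unipotent groups and class sizes (helper361, S5719)
-/

set_option autoImplicit false
set_option linter.unusedSectionVars false

namespace Cfsg.Agent.H361.IFU4

open Cfsg Subgroup Cfsg.Agent.LieClassical.HermBasic Cfsg.Agent.LieClassical.HermSiegel
  Cfsg.Agent.LieClassical.HermGen Cfsg.Agent.ClassicalGeometry.PSUAutBasic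
  Cfsg.Agent.ClassicalGeometry.PSUAutSylow Cfsg.Agent.ClassicalGeometry.PSUAutUnip Cfsg.Agent.H667.TwoPSUModel
open scoped commutatorElement

variable {F : Type*} [Field F] [Fintype F] {q : ℕ}

theorem card_ZZ4 (hF : Fintype.card F = q ^ 2) : Nat.card (ZZ hF 4) = (q ^ 2 + 1) * (q ^ 3 + 1) := by
  have h1 := card_ZZ hF (n := 4) (by norm_num)
  have hq := two_le hF
  have h2 : ((Nat.card (ZZ hF 4) : ℤ)) * ((q : ℤ) ^ 2 - 1) = ((q ^ 2 + 1) * (q ^ 3 + 1)) * ((q : ℤ) ^ 2 - 1) := by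
    rw [h1]
    norm_num
    ring
  have h3 : ((q : ℤ) ^ 2 - 1) ≠ 0 := by
    have : (2 : ℤ) ≤ q := by exact_mod_cast hq
    nlinarith only [hq]
  have h4 := mul_right_cancel₀ h3 h2
  exact_mod_cast h4

theorem card_QQ (hF : Fintype.card F = q ^ 2) {u : Fin 4 → F} (hu0 : u ≠ 0) (hu : hermForm 4 F q u u = 0) :
    Nat.card (QQ hF u hu) = q ^ 5 := by
  obtain ⟨e, f, H⟩ := exists_frame (F := F) (q := q) hF (n := 4) (by norm_num)
  have he0 : e ≠ 0 := by
    intro h
    have := H.ef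
    rw [h, herm_zero_left] at this
    exact zero_ne_one this
  obtain ⟨g, -, hg⟩ := exists_map_iso hF (n := 4) (k := 4) (by norm_num) le_rfl (mem_coordSub_top e)
    (mem_coordSub_top u) he0 hu0 H.ee hu
  have h1 : Nat.card (QQ hF e H.ee) = q ^ 5 := by
    rw [card_QQ_frame hF (by norm_num) H]
  subst hg
  rw [← QQ_map_conj hF H.ee g hu, ← h1]
  exact (Nat.card_congr ((QQ hF e H.ee).equivMapOfInjective _ (MulAut.conj (pr 4 F q g)).injective).toEquiv).symm

theorem card_subgroupOf {G : Type*} [Group G] (A Q : Subgroup G) :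
    Nat.card (A.subgroupOf Q) = Nat.card (A ⊓ Q : Subgroup G) := by
  rw [← Subgroup.inf_subgroupOf_right, Nat.card_congr (Subgroup.subgroupOfEquivOfLe (inf_le_right : A ⊓ Q ≤ Q)).toEquiv]

variable [Finite (PSU 4 F q)]

theorem heis (hF : Fintype.card F = q ^ 2) {u : Fin 4 → F} (hu0 : u ≠ 0) (hu : hermForm 4 F q u u = 0)
    {A : Subgroup (PSU 4 F q)} (hA : ¬ RR hF u hu ≤ A) :
    Nat.card (A ⊓ QQ hF u hu : Subgroup (PSU 4 F q)) ^ 2 * q ≤
      q ^ 5 * Nat.card (A ⊓ RR hF u hu : Subgroup (PSU 4 F q)) ^ 2 := by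
  have hle := RR_le_QQ hF hu
  have h1 := H667.TwoPSUGrp.heis_bound (Q := QQ hF u hu) (Z := (RR hF u hu).subgroupOf (QQ hF u hu))
    (A := A.subgroupOf (QQ hF u hu)) (by
      intro z hz
      rw [mem_center_iff]
      intro g
      exact Subtype.ext (QQ_cen hF hu z.1 hz g.1 g.2)) (by
      intro x y
      exact QQ_comm hF hu x.1 x.2 y.1 y.2) (by
      intro x hx z hz
      obtain ⟨v, hv, h⟩ := QQ_surj hF hu0 hu x.1 x.2 (fun h => hx h) z.1 hz
      exact ⟨⟨v, hv⟩, Subtype.ext h⟩) (by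
      intro h
      apply hA
      intro z hz
      exact h (show (⟨z, hle hz⟩ : QQ hF u hu) ∈ (RR hF u hu).subgroupOf (QQ hF u hu) from hz))
  have h2 : A.subgroupOf (QQ hF u hu) ⊓ (RR hF u hu).subgroupOf (QQ hF u hu) =
      (A ⊓ RR hF u hu).subgroupOf (QQ hF u hu) := rfl
  rw [h2, card_subgroupOf, card_subgroupOf, card_subgroupOf, card_QQ hF hu0 hu, inf_eq_left.2 hle,
    card_RR hF (by norm_num) hu0 hu, inf_assoc, inf_eq_left.2 hle] at h1
  exact h1

theorem card_mul_relIndex (hF : Fintype.card F = q ^ 2) {u : Fin 4 → F} (hu0 : u ≠ 0)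
    (hu : hermForm 4 F q u u = 0) (A : Subgroup (PSU 4 F q)) :
    Nat.card (A ⊓ QQ hF u hu : Subgroup (PSU 4 F q)) * A.relIndex (QQ hF u hu) = q ^ 5 := by
  rw [← card_QQ hF hu0 hu, ← card_subgroupOf, Subgroup.relIndex, Subgroup.card_mul_index]

theorem RR_le_of (hF : Fintype.card F = q ^ 2) {u : Fin 4 → F} (hu0 : u ≠ 0) (hu : hermForm 4 F q u u = 0)
    {A : Subgroup (PSU 4 F q)} (hi : A.relIndex (QQ hF u hu) ^ 5 < q ^ 6) : RR hF u hu ≤ A := by
  by_contra hcon
  have hq := two_le hF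
  have h1 := heis hF hu0 hu hcon
  have h2 := card_mul_relIndex hF hu0 hu A
  have h3 : Nat.card (A ⊓ RR hF u hu : Subgroup (PSU 4 F q)) ≤ q := by
    have h4 := Subgroup.card_le_of_le (inf_le_right : A ⊓ RR hF u hu ≤ RR hF u hu)
    rwa [card_RR hF (by norm_num) hu0 hu] at h4
  set d := Nat.card (A ⊓ QQ hF u hu : Subgroup (PSU 4 F q))
  set c := Nat.card (A ⊓ RR hF u hu : Subgroup (PSU 4 F q))
  set i := A.relIndex (QQ hF u hu)
  have h4 : q ^ 6 * q ^ 5 ≤ (c * i) ^ 2 * q ^ 5 := by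
    calc q ^ 6 * q ^ 5 = (d * i) ^ 2 * q := by rw [h2]; ring
      _ = (d ^ 2 * q) * i ^ 2 := by ring
      _ ≤ (q ^ 5 * c ^ 2) * i ^ 2 := Nat.mul_le_mul_right _ h1
      _ = _ := by ring
  have h5 : (q ^ 3) ^ 2 ≤ (c * i) ^ 2 := by
    have := Nat.le_of_mul_le_mul_right h4 (by positivity)
    calc (q ^ 3) ^ 2 = q ^ 6 := by ring
      _ ≤ _ := this
  have h6 : q ^ 3 ≤ c * i := (Nat.pow_le_pow_iff_left two_ne_zero).1 h5
  have h7 : q ^ 2 ≤ i := by
    have h8 : q * q ^ 2 ≤ q * i := by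
      calc q * q ^ 2 = q ^ 3 := by ring
        _ ≤ c * i := h6
        _ ≤ q * i := Nat.mul_le_mul_right _ h3
    exact Nat.le_of_mul_le_mul_left h8 (by omega)
  have h8 : q ^ 6 ≤ i ^ 5 := by
    calc q ^ 6 ≤ q ^ 10 := Nat.pow_le_pow_right (by omega) (by norm_num)
      _ = (q ^ 2) ^ 5 := by ring
      _ ≤ i ^ 5 := Nat.pow_le_pow_left h7 5
  omega

theorem card_le_of_bot (hF : Fintype.card F = q ^ 2) {u : Fin 4 → F} (hu0 : u ≠ 0) (hu : hermForm 4 F q u u = 0)
    {A : Subgroup (PSU 4 F q)} (hA : A ⊓ RR hF u hu = ⊥) :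
    Nat.card (A ⊓ QQ hF u hu : Subgroup (PSU 4 F q)) ≤ q ^ 2 := by
  have hq := two_le hF
  have hcon : ¬ RR hF u hu ≤ A := by
    intro h
    rw [inf_eq_right.2 h] at hA
    have h1 := card_RR hF (n := 4) (by norm_num) hu0 hu
    rw [hA, Subgroup.card_bot] at h1
    omega
  have h1 := heis hF hu0 hu hcon
  rw [hA, Subgroup.card_bot, one_pow, mul_one] at h1
  set d := Nat.card (A ⊓ QQ hF u hu : Subgroup (PSU 4 F q))
  have h4 : d ^ 2 * q ≤ (q ^ 2) ^ 2 * q := by
    calc _ ≤ q ^ 5 := h1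
      _ = _ := by ring
  exact (Nat.pow_le_pow_iff_left two_ne_zero).1 (Nat.le_of_mul_le_mul_right h4 (by omega))

/-! ### class sizes -/

omit [Finite (PSU 4 F q)] in
theorem cen_index_le {T : Type*} [Group T] [Finite T] (t : T) {S : Set T} (h : ∀ k : T, k * t * k⁻¹ ∈ S) :
    (centralizer ({t} : Set T)).index ≤ S.ncard := by
  have h1 : Nat.card (T ⧸ centralizer ({t} : Set T)) ≤ Nat.card S := by
    refine Nat.card_le_card_of_injective (fun c : T ⧸ centralizer ({t} : Set T) => (⟨c.out * t * c.out⁻¹, h _⟩ : S)) ?_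
    intro a b hab
    have h2 : a.out * t * a.out⁻¹ = b.out * t * b.out⁻¹ := congrArg Subtype.val hab
    rw [← QuotientGroup.out_eq' a, ← QuotientGroup.out_eq' b, QuotientGroup.eq, mem_centralizer_iff]
    intro y hy
    rw [Set.mem_singleton_iff] at hy
    rw [hy]
    calc t * (a.out⁻¹ * b.out) = a.out⁻¹ * (a.out * t * a.out⁻¹) * b.out := by group
      _ = a.out⁻¹ * (b.out * t * b.out⁻¹) * b.out := by rw [h2]
      _ = _ := by group
  exact h1

theorem index_RR (hF : Fintype.card F = q ^ 2) {u : Fin 4 → F} (hu0 : u ≠ 0) (hu : hermForm 4 F q u u = 0)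
    {x : PSU 4 F q} (hx : x ∈ RR hF u hu) (hx1 : x ≠ 1) :
    (centralizer ({x} : Set (PSU 4 F q))).index ≤ (q ^ 2 + 1) * (q ^ 3 + 1) * (q - 1) := by
  classical
  have hfZ : Finite (ZZ hF 4) := inferInstance
  have := Fintype.ofFinite (ZZ hF 4)
  have h1 := cen_index_le x (S := {y | ∃ Z ∈ ZZ hF 4, y ∈ Z ∧ y ≠ 1}) (by
    intro k
    refine ⟨(RR hF u hu).map (MulAut.conj k).toMonoidHom, ZZ_map hF (by norm_num) (MulAut.conj k) _ ⟨u, hu0, hu, rfl⟩,
      ⟨x, hx, rfl⟩, ?_⟩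
    intro h
    apply hx1
    have h2 : x = k⁻¹ * (k * x * k⁻¹) * k := by group
    rw [h2, h]
    group)
  refine h1.trans ?_
  have h2 : ({y | ∃ Z ∈ ZZ hF 4, y ∈ Z ∧ y ≠ 1} : Set (PSU 4 F q)).ncard ≤
      Nat.card (Σ Z : ZZ hF 4, {y : PSU 4 F q // y ∈ Z.1 ∧ y ≠ 1}) := by
    rw [← Nat.card_coe_set_eq]
    refine Nat.card_le_card_of_surjective
      (fun p : Σ Z : ZZ hF 4, {y : PSU 4 F q // y ∈ Z.1 ∧ y ≠ 1} =>
        (⟨p.2.1, p.1.1, p.1.2, p.2.2⟩ : {y | ∃ Z ∈ ZZ hF 4, y ∈ Z ∧ y ≠ 1})) ?_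
    rintro ⟨y, Z, hZ, hy⟩
    exact ⟨⟨⟨Z, hZ⟩, ⟨y, hy⟩⟩, rfl⟩
  refine h2.trans ?_
  rw [Nat.card_sigma]
  have h3 : ∀ Z : ZZ hF 4, Nat.card {y : PSU 4 F q // y ∈ Z.1 ∧ y ≠ 1} = q - 1 := by
    intro Z
    have h4 : Nat.card {y : PSU 4 F q // y ∈ Z.1 ∧ y ≠ 1} = ((Z.1 : Set (PSU 4 F q)) \ {1}).ncard := rfl
    rw [h4, Set.ncard_sdiff_singleton_of_mem (one_mem Z.1)]
    have h5 : (Z.1 : Set (PSU 4 F q)).ncard = q := ZZ_card_eq hF (by norm_num) Z.1 Z.2
    rw [h5]
  rw [Finset.sum_congr rfl (fun Z _ => h3 Z), Finset.sum_const, Finset.card_univ, smul_eq_mul,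
    ← Nat.card_eq_fintype_card, card_ZZ4]

omit [Finite (PSU 4 F q)] [Fintype F] in
theorem num1 (hq : 2 ≤ q) : (q ^ 2 + 1) * (q ^ 3 + 1) * (q - 1) < q ^ 6 := by
  obtain ⟨r, rfl⟩ : ∃ r, q = r + 2 := ⟨q - 2, by omega⟩
  have : r + 2 - 1 = r + 1 := by omega
  rw [this]
  ring_nf
  omega

theorem index_RR_lt (hF : Fintype.card F = q ^ 2) {u : Fin 4 → F} (hu0 : u ≠ 0) (hu : hermForm 4 F q u u = 0)
    {x : PSU 4 F q} (hx : x ∈ RR hF u hu) (hx1 : x ≠ 1) :
    (centralizer ({x} : Set (PSU 4 F q))).index < q ^ 6 :=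
  (index_RR hF hu0 hu hx hx1).trans_lt (num1 (two_le hF))

/-- the unipotent group of a root group -/
noncomputable def QZ (hF : Fintype.card F = q ^ 2) (Z : ZZ hF 4) : Subgroup (PSU 4 F q) :=
  QQ hF Z.2.choose Z.2.choose_spec.choose_spec.choose

omit [Finite (PSU 4 F q)] in
theorem QZ_eq (hF : Fintype.card F = q ^ 2) (Z : ZZ hF 4) {u : Fin 4 → F} (hu0 : u ≠ 0)
    (hu : hermForm 4 F q u u = 0) (h : Z.1 = RR hF u hu) : QZ hF Z = QQ hF u hu := by
  have h1 := Z.2.choose_spec.choose_spec.choose_spec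
  exact QQ_of_RR hF (by norm_num) hu0 Z.2.choose_spec.choose hu Z.2.choose_spec.choose_spec.choose (h.symm.trans h1)

omit [Finite (PSU 4 F q)] in
theorem siegel_swap (hF : Fintype.card F = q ^ 2) {e w : Fin 4 → F} (h : IsSiegel q e w 0)
    (h' : IsSiegel q w (-e) 0) : siegel hF e w 0 h = siegel hF w (-e) 0 h' := by
  apply ext_act
  intro u
  rw [act_siegel, act_siegel, herm_neg_right hF]
  simp only [zero_mul, zero_sub, neg_neg, smul_neg, neg_smul]
  abel

omit [Finite (PSU 4 F q)] in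
theorem swap_is (hF : Fintype.card F = q ^ 2) {e w : Fin 4 → F} (h : IsSiegel q e w 0) : IsSiegel q w (-e) 0 := by
  have h1 := h.tr
  rw [zero_pow_q hF, zero_add, zero_add] at h1
  refine ⟨h1, ?_, ?_⟩
  · rw [herm_neg_left, h.orth' hF, neg_zero]
  · rw [zero_pow_q hF, herm_neg_left, herm_neg_right hF, h.iso]
    ring

theorem index_siegel (hF : Fintype.card F = q ^ 2) {e w : Fin 4 → F} (h : IsSiegel q e w 0)
    (hli : LinearIndependent F ![e, w]) :
    2 * (centralizer ({pr 4 F q (siegel hF e w 0 h)} : Set (PSU 4 F q))).index ≤ (q ^ 2 + 1) * (q ^ 3 + 1) * q ^ 5 := by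
  classical
  have := Fintype.ofFinite (ZZ hF 4)
  have he0 : e ≠ 0 := hli.ne_zero 0
  have hw0 : w ≠ 0 := hli.ne_zero 1
  have hww : hermForm 4 F q w w = 0 := (swap_is hF h).iso
  set t := pr 4 F q (siegel hF e w 0 h) with ht
  choose g hg using (pr_surjective (n := 4) (F := F) (q := q))
  let C := centralizer ({t} : Set (PSU 4 F q))
  let a : (PSU 4 F q ⧸ C) → PSU 4 F q := fun c => c.out
  have hgi : ∀ k (v : Fin 4 → F), hermForm 4 F q v v = 0 → hermForm 4 F q (act (g k) v) (act (g k) v) = 0 :=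
    fun k v hv => by rw [herm_act]; exact hv
  have hg0 : ∀ k (v : Fin 4 → F), v ≠ 0 → act (g k) v ≠ 0 := fun k v hv h => hv ((act_eq_zero _).1 h)
  have hte : t ∈ QQ hF e h.iso := mem_QQ.2 ⟨_, _, _, rfl⟩
  have htw : t ∈ QQ hF w hww := mem_QQ.2 ⟨_, _, swap_is hF h, by rw [ht, siegel_swap hF h (swap_is hF h)]⟩
  have hQ : ∀ k (v : Fin 4 → F) (hv : hermForm 4 F q v v = 0), t ∈ QQ hF v hv →
      k * t * k⁻¹ ∈ QQ hF (act (g k) v) (hgi k v hv) := by
    intro k v hv htv
    rw [← QQ_map_conj hF hv (g k) (hgi k v hv), hg]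
    exact ⟨t, htv, rfl⟩
  let Zf : Bool → PSU 4 F q → ZZ hF 4 := fun b k => match b with
    | true => ⟨RR hF (act (g k) e) (hgi k e h.iso), RR_mem_ZZ hF (hg0 k e he0) _⟩
    | false => ⟨RR hF (act (g k) w) (hgi k w hww), RR_mem_ZZ hF (hg0 k w hw0) _⟩
  have hZf : ∀ b k, k * t * k⁻¹ ∈ QZ hF (Zf b k) := by
    intro b k
    cases b
    · rw [QZ_eq hF (Zf false k) (hg0 k w hw0) (hgi k w hww) rfl]
      exact hQ k w hww htw
    · rw [QZ_eq hF (Zf true k) (hg0 k e he0) (hgi k e h.iso) rfl]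
      exact hQ k e h.iso hte
  let φ : (PSU 4 F q ⧸ C) × Bool → {p : ZZ hF 4 × PSU 4 F q // p.2 ∈ QZ hF p.1} := fun p =>
    ⟨(Zf p.2 (a p.1), a p.1 * t * (a p.1)⁻¹), hZf _ _⟩
  have hφ : Function.Injective φ := by
    rintro ⟨c, b⟩ ⟨c', b'⟩ hcc
    have h1 : a c * t * (a c)⁻¹ = a c' * t * (a c')⁻¹ := congrArg (fun p => p.1.2) hcc
    have h2 : Zf b (a c) = Zf b' (a c') := congrArg (fun p => p.1.1) hcc
    have h3 : c = c' := by
      rw [← QuotientGroup.out_eq' c, ← QuotientGroup.out_eq' c', QuotientGroup.eq, mem_centralizer_iff]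
      intro y hy
      rw [Set.mem_singleton_iff] at hy
      rw [hy]
      show t * ((a c)⁻¹ * a c') = (a c)⁻¹ * a c' * t
      calc t * ((a c)⁻¹ * a c') = (a c)⁻¹ * (a c * t * (a c)⁻¹) * a c' := by group
        _ = (a c)⁻¹ * (a c' * t * (a c')⁻¹) * a c' := by rw [h1]
        _ = _ := by group
    subst h3
    have hne : ∀ k, Zf true k ≠ Zf false k := by
      intro k hk
      have h4 : RR hF (act (g k) e) (hgi k e h.iso) = RR hF (act (g k) w) (hgi k w hww) := congrArg Subtype.val hk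
      obtain ⟨x, hx, h5⟩ := (RR_eq_iff hF (by norm_num) (hg0 k e he0) (hg0 k w hw0) (hgi k e h.iso) (hgi k w hww)).1 h4
      have h6 : w = x • e := by
        apply act_injective (g k)
        rw [act_smul]
        exact h5
      rw [LinearIndependent.pair_iff] at hli
      have h7 := hli x (-1) (by rw [h6]; simp)
      exact one_ne_zero (neg_eq_zero.1 h7.2)
    cases b <;> cases b'
    · rfl
    · exact absurd h2.symm (hne _)
    · exact absurd h2 (hne _)
    · rfl
  have h1 := Nat.card_le_card_of_injective φ hφ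
  rw [Nat.card_prod] at h1
  have h2 : Nat.card {p : ZZ hF 4 × PSU 4 F q // p.2 ∈ QZ hF p.1} = (q ^ 2 + 1) * (q ^ 3 + 1) * q ^ 5 := by
    have e1 : {p : ZZ hF 4 × PSU 4 F q // p.2 ∈ QZ hF p.1} ≃ Σ Z : ZZ hF 4, QZ hF Z :=
      { toFun := fun p => ⟨p.1.1, ⟨p.1.2, p.2⟩⟩
        invFun := fun s => ⟨(s.1, s.2.1), s.2.2⟩
        left_inv := fun p => rfl
        right_inv := fun s => rfl }
    rw [Nat.card_congr e1, Nat.card_sigma]
    have h3 : ∀ Z : ZZ hF 4, Nat.card (QZ hF Z) = q ^ 5 := fun Z =>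
      card_QQ hF Z.2.choose_spec.choose Z.2.choose_spec.choose_spec.choose
    rw [Finset.sum_congr rfl (fun Z _ => h3 Z), Finset.sum_const, Finset.card_univ, smul_eq_mul,
      ← Nat.card_eq_fintype_card, card_ZZ4]
  rw [h2] at h1
  have h3 : Nat.card Bool = 2 := by simp
  rw [h3, mul_comm] at h1
  exact h1

omit [Finite (PSU 4 F q)] [Fintype F] in
theorem num2 (hq : 2 ≤ q) {N : ℕ} (h : 2 * N ≤ (q ^ 2 + 1) * (q ^ 3 + 1) * q ^ 5) : N < (q ^ 2) ^ 5 := by
  have h1 : (q ^ 2 + 1) * (q ^ 3 + 1) < 2 * q ^ 5 := by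
    have h2 : q ^ 3 + q ^ 2 + 1 < q ^ 5 := by
      obtain ⟨r, rfl⟩ : ∃ r, q = r + 2 := ⟨q - 2, by omega⟩
      ring_nf
      omega
    calc (q ^ 2 + 1) * (q ^ 3 + 1) = q ^ 5 + (q ^ 3 + q ^ 2 + 1) := by ring
      _ < q ^ 5 + q ^ 5 := by omega
      _ = _ := by ring
  have h2 : 2 * N < 2 * (q ^ 2) ^ 5 := by
    calc 2 * N ≤ (q ^ 2 + 1) * (q ^ 3 + 1) * q ^ 5 := h
      _ < (2 * q ^ 5) * q ^ 5 := Nat.mul_lt_mul_of_pos_right h1 (by positivity)
      _ = _ := by ring
  omega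

end Cfsg.Agent.H361.IFU4
end

-- part: H715/IFU/Inv
section
/-!
# S5719, `PSU₄(q)`, `q` even: the involutions of `SU₄(q)` are Siegel transformations (helper715 for helper361)
-/

set_option autoImplicit false
set_option linter.unusedSectionVars false

namespace Cfsg.Agent.H715.IFU

open Cfsg Cfsg.Agent.LieClassical.HermBasic Cfsg.Agent.LieClassical.HermSiegel

section Nil

variable {F : Type*} [Field F] [Fintype F] {q n : ℕ}

/-- `g - 1` -/
def nil (g : SU n F q) (v : Fin n → F) : Fin n → F := act g v - v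

theorem nil_add (g : SU n F q) (v w : Fin n → F) : nil g (v + w) = nil g v + nil g w := by
  rw [nil, nil, nil, act_add]
  abel

theorem nil_smul (g : SU n F q) (c : F) (v : Fin n → F) : nil g (c • v) = c • nil g v := by
  rw [nil, nil, act_smul, smul_sub]

theorem two_smul_zero (h2 : (2 : F) = 0) (v : Fin n → F) : v + v = 0 := by
  funext i
  show v i + v i = 0
  rw [← two_mul, h2, zero_mul]

theorem add_self (h2 : (2 : F) = 0) (x : F) : x + x = 0 := by
  rw [← two_mul, h2, zero_mul]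

theorem neg_eq (h2 : (2 : F) = 0) (x : F) : -x = x := by
  linear_combination (-x) * h2

variable {g : SU n F q} (h2 : (2 : F) = 0) (hg : g * g = 1)

include h2 hg in
theorem nil_nil (v : Fin n → F) : nil g (nil g v) = 0 := by
  have h1 : act g (act g v) = v := by rw [← act_mul, hg, act_one]
  have h3 : nil g (nil g v) = (v + v) - (act g v + act g v) := by
    rw [nil, nil, act_sub, h1]
    abel
  rw [h3, two_smul_zero h2, two_smul_zero h2, sub_zero]

include hg in
theorem herm_nil_left (hF : Fintype.card F = q ^ 2) (x y : Fin n → F) :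
    hermForm n F q (nil g x) y = hermForm n F q x (nil g y) := by
  have h1 : g⁻¹ = g := inv_eq_of_mul_eq_one_right hg
  rw [nil, nil, herm_sub_left, herm_sub_right hF, herm_act_left, h1]

include h2 hg in
theorem herm_nil_nil (hF : Fintype.card F = q ^ 2) (x y : Fin n → F) :
    hermForm n F q (nil g x) (nil g y) = 0 := by
  rw [← herm_nil_left hg hF, nil_nil h2 hg, herm_zero_left]

include hg in
/-- the form `h(x, N y)` is hermitian -/
theorem herm_nil_swap (hF : Fintype.card F = q ^ 2) (x y : Fin n → F) :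
    hermForm n F q x (nil g y) = hermForm n F q y (nil g x) ^ q := by
  rw [← herm_nil_left hg hF, herm_swap hF]

end Nil

section Four

variable {F : Type*} [Field F] [Fintype F] {q : ℕ}

theorem rank_one (hF : Fintype.card F = q ^ 2) (h2 : (2 : F) = 0) {g : SU 4 F q} (hg : g * g = 1) {y0 : Fin 4 → F}
    (h0 : nil g y0 ≠ 0) (hr : ∀ y, ∃ c : F, nil g y = c • nil g y0) :
    ∃ (e : Fin 4 → F) (μ : F) (h : IsSiegel q e 0 μ), e ≠ 0 ∧ g = siegel hF e 0 μ h := by
  choose f hf using hr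
  set e := nil g y0 with he
  obtain ⟨x, hx⟩ := exists_herm_ne_zero hF h0
  -- normalise
  have hx' : hermForm 4 F q x e ≠ 0 := fun h => hx (herm_eq_zero_swap hF h)
  set x1 : Fin 4 → F := (hermForm 4 F q x e)⁻¹ • x with hx1
  have hx1e : hermForm 4 F q x1 e = 1 := by rw [hx1, herm_smul_left, inv_mul_cancel₀ hx']
  have hex1 : hermForm 4 F q e x1 = 1 := by rw [herm_swap hF, hx1e, one_pow]
  have key : ∀ x y, f y ^ q * hermForm 4 F q x e = f x * hermForm 4 F q e y := by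
    intro x y
    have h1 := herm_nil_left hg hF x y
    rw [hf x, hf y, herm_smul_left, herm_smul_right] at h1
    exact h1.symm
  have hfy : ∀ y, f y = f x1 ^ q * hermForm 4 F q y e := by
    intro y
    have h1 := key x1 y
    rw [hx1e, mul_one] at h1
    have h3 := congrArg (fun z : F => z ^ q) h1
    simp only [pow_q_pow_q hF, mul_pow, ← herm_swap hF] at h3
    exact h3
  have hμ : f x1 ^ q = f x1 := by
    have h1 := key x1 x1
    rwa [hx1e, hex1, mul_one, mul_one] at h1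
  refine ⟨e, f x1, ⟨?_, herm_zero_left _, ?_⟩, h0, ?_⟩
  · exact herm_nil_nil h2 hg hF y0 y0
  · rw [hμ, herm_zero_left, add_zero, add_self h2]
  · apply ext_act
    intro y
    rw [act_siegel, smul_zero, add_zero, herm_zero_right hF, sub_zero]
    have h1 := hf y
    rw [hfy y, hμ, nil, sub_eq_iff_eq_add'] at h1
    exact h1

theorem rank_two (hF : Fintype.card F = q ^ 2) (h2 : (2 : F) = 0) {g : SU 4 F q} (hg : g * g = 1) {x0 x1 : Fin 4 → F}
    (hk : hermForm 4 F q x0 (nil g x0) = 0) (hl : LinearIndependent F ![nil g x0, nil g x1]) :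
    ∃ (e w : Fin 4 → F) (h : IsSiegel q e w 0), LinearIndependent F ![e, w] ∧ g = siegel hF e w 0 h := by
  rw [LinearIndependent.pair_iff] at hl
  -- a basis
  have hli : LinearIndependent F ![x0, x1, nil g x0, nil g x1] := by
    rw [Fintype.linearIndependent_iff]
    intro c hc
    rw [Fin.sum_univ_four] at hc
    simp only [Matrix.cons_val_zero, Matrix.cons_val_one, Matrix.cons_val] at hc
    have h1 := congrArg (nil g) hc
    rw [nil_add, nil_add, nil_add, nil_smul, nil_smul, nil_smul, nil_smul, nil_nil h2 hg, nil_nil h2 hg, smul_zero,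
      smul_zero, add_zero, add_zero] at h1
    have h3 : nil g (0 : Fin 4 → F) = 0 := by rw [nil, act_zero, sub_zero]
    rw [h3] at h1
    obtain ⟨h4, h5⟩ := hl _ _ h1
    rw [h4, h5, zero_smul, zero_smul, zero_add, zero_add] at hc
    obtain ⟨h6, h7⟩ := hl _ _ hc
    intro i
    fin_cases i
    · exact h4
    · exact h5
    · exact h6
    · exact h7
  have hspan : ∀ y : Fin 4 → F, ∃ a b c d : F, y = a • x0 + b • x1 + c • nil g x0 + d • nil g x1 := by
    intro y
    have h1 := hli.span_eq_top_of_card_eq_finrank (by rw [Fintype.card_fin, Module.finrank_fin_fun])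
    have h3 : y ∈ Submodule.span F (Set.range ![x0, x1, nil g x0, nil g x1]) := by rw [h1]; exact Submodule.mem_top
    rw [Submodule.mem_span_range_iff_exists_fun] at h3
    obtain ⟨c, hc⟩ := h3
    rw [Fin.sum_univ_four] at hc
    exact ⟨c 0, c 1, c 2, c 3, hc.symm⟩
  set e := nil g x0 with he
  have he0 : e ≠ 0 := by
    intro h
    have := (hl 1 0 (by rw [h, smul_zero, zero_smul, zero_add])).1
    exact one_ne_zero this
  set c := hermForm 4 F q x1 e with hc
  have hee : hermForm 4 F q e e = 0 := herm_nil_nil h2 hg hF _ _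
  have hne : hermForm 4 F q (nil g x1) e = 0 := herm_nil_nil h2 hg hF _ _
  have hc0 : c ≠ 0 := by
    intro h0
    obtain ⟨v, hv⟩ := exists_herm_ne_zero hF he0
    apply hv
    apply herm_eq_zero_swap hF
    obtain ⟨a, b, c', d, rfl⟩ := hspan v
    rw [herm_add_left, herm_add_left, herm_add_left, herm_smul_left, herm_smul_left, herm_smul_left, herm_smul_left,
      hk, ← hc, h0, hee, hne]
    ring
  have hcq : c ^ q ≠ 0 := pow_ne_zero _ hc0
  -- the number `β`
  obtain ⟨γ, hγ⟩ := exists_trace_eq hF (c := hermForm 4 F q x1 (nil g x1)) (by rw [← herm_nil_swap hg hF])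
  set β := γ / c ^ q with hβ
  have hβc : β * c ^ q = γ := by rw [hβ, div_mul_cancel₀ _ hcq]
  have hβc' : β ^ q * c = γ ^ q := by
    rw [← hβc, mul_pow, pow_q_pow_q hF]
  set w : Fin 4 → F := c⁻¹ • (nil g x1 + β • e) with hw
  have hx0w : hermForm 4 F q x0 w = 1 := by
    rw [hw, herm_smul_right, herm_add_right hF, herm_smul_right, hk, mul_zero, add_zero, herm_nil_swap hg hF, ← he, ← hc,
      inv_pow, inv_mul_cancel₀ hcq]
  have hx1w : hermForm 4 F q x1 w = β := by
    rw [hw, herm_smul_right, herm_add_right hF, herm_smul_right, ← hc, hβc', ← hγ, add_assoc, add_self h2, add_zero,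
      inv_pow, ← hβc, mul_comm β, inv_mul_cancel_left₀ hcq]
  have hnw : ∀ y, hermForm 4 F q (nil g y) w = 0 := by
    intro y
    rw [hw, herm_smul_right, herm_add_right hF, herm_smul_right, he, herm_nil_nil h2 hg hF, herm_nil_nil h2 hg hF]
    ring
  have hwe : hermForm 4 F q w e = 0 := by
    apply herm_eq_zero_swap hF
    exact hnw x0
  have hww : hermForm 4 F q w w = 0 := by
    conv_lhs => rw [hw]
    rw [herm_smul_left, herm_add_left, herm_smul_left, hnw, he, hnw]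
    ring
  refine ⟨e, w, ⟨hee, hwe, by rw [hww, zero_pow_q hF]; ring⟩, ?_, ?_⟩
  · rw [LinearIndependent.pair_iff]
    intro s t hst
    have h1 : (s + t * (c⁻¹ * β)) • e + (t * c⁻¹) • nil g x1 = 0 := by
      rw [← hst, hw]
      module
    obtain ⟨h3, h4⟩ := hl _ _ h1
    have h5 : t = 0 := by
      rcases mul_eq_zero.1 h4 with h | h
      · exact h
      · exact absurd h (inv_ne_zero hc0)
    rw [h5, zero_mul, add_zero] at h3
    exact ⟨h3, h5⟩
  · apply ext_act
    intro y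
    rw [act_siegel, zero_mul, zero_sub]
    have hcw : c • w = nil g x1 + β • e := by
      rw [hw, smul_smul, mul_inv_cancel₀ hc0, one_smul]
    have h1 : nil g y = hermForm 4 F q y e • w + (-hermForm 4 F q y w) • e := by
      rw [neg_eq h2]
      obtain ⟨a, b, c', d, rfl⟩ := hspan y
      have e1 : hermForm 4 F q (a • x0 + b • x1 + c' • e + d • nil g x1) e = b * c := by
        rw [herm_add_left, herm_add_left, herm_add_left, herm_smul_left, herm_smul_left, herm_smul_left, herm_smul_left,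
          hk, ← hc, hee, hne]
        ring
      have e2 : hermForm 4 F q (a • x0 + b • x1 + c' • e + d • nil g x1) w = a + b * β := by
        rw [herm_add_left, herm_add_left, herm_add_left, herm_smul_left, herm_smul_left, herm_smul_left, herm_smul_left,
          hx0w, hx1w, he, hnw, hnw]
        ring
      have e3 : nil g (a • x0 + b • x1 + c' • e + d • nil g x1) = a • e + b • nil g x1 := by
        rw [nil_add, nil_add, nil_add, nil_smul, nil_smul, nil_smul, nil_smul, he, nil_nil h2 hg, nil_nil h2 hg, smul_zero,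
          smul_zero, add_zero, add_zero]
      rw [e1, e2, e3, mul_smul, hcw]
      have h4 : (b * β) • e + (b * β) • e = 0 := two_smul_zero h2 _
      calc a • e + b • nil g x1 = a • e + b • nil g x1 + ((b * β) • e + (b * β) • e) := by rw [h4, add_zero]
        _ = _ := by module
    rw [nil, sub_eq_iff_eq_add'] at h1
    rw [h1]
    abel

/-- **Involutions of `SU₄(q)`, `q` even.** -/
theorem inv_siegel (hF : Fintype.card F = q ^ 2) (h2 : (2 : F) = 0) (g : SU 4 F q) (hg : g * g = 1) (hg1 : g ≠ 1) :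
    (∃ (e : Fin 4 → F) (μ : F) (h : IsSiegel q e 0 μ), e ≠ 0 ∧ g = siegel hF e 0 μ h) ∨
    (∃ (e w : Fin 4 → F) (h : IsSiegel q e w 0), LinearIndependent F ![e, w] ∧ g = siegel hF e w 0 h) := by
  obtain ⟨y0, h0⟩ : ∃ y0, nil g y0 ≠ 0 := by
    by_contra hcon
    push Not at hcon
    apply hg1
    apply ext_act
    intro v
    rw [act_one]
    exact sub_eq_zero.1 (hcon v)
  by_cases hr : ∀ y, ∃ c : F, nil g y = c • nil g y0
  · exact Or.inl (rank_one hF h2 hg h0 hr)
  · right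
    push Not at hr
    obtain ⟨y1, hy1⟩ := hr
    have hl : LinearIndependent F ![nil g y0, nil g y1] := by
      rw [LinearIndependent.pair_iff]
      intro s t hst
      have ht : t = 0 := by
        by_contra ht
        apply hy1 (-(t⁻¹ * s))
        have h1 : t • nil g y1 = -(s • nil g y0) := by
          rw [eq_neg_iff_add_eq_zero, add_comm]
          exact hst
        calc nil g y1 = t⁻¹ • (t • nil g y1) := by rw [smul_smul, inv_mul_cancel₀ ht, one_smul]
          _ = _ := by rw [h1]; module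
      rw [ht, zero_smul, add_zero] at hst
      exact ⟨(smul_eq_zero.1 hst).resolve_right h0, ht⟩
    by_cases hk : hermForm 4 F q y0 (nil g y0) = 0
    · exact rank_two hF h2 hg hk hl
    · -- make `y1` orthogonal to `y0`
      set a := hermForm 4 F q y0 (nil g y0) with ha
      have haq : a ^ q = a := (herm_nil_swap hg hF y0 y0).symm
      set s := hermForm 4 F q y1 (nil g y0) / a with hs
      set z : Fin 4 → F := y1 - s • y0 with hz
      have hzy : hermForm 4 F q z (nil g y0) = 0 := by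
        rw [hz, herm_sub_left, herm_smul_left, ← ha, hs, div_mul_cancel₀ _ hk, sub_self]
      have hyz : hermForm 4 F q y0 (nil g z) = 0 := by
        rw [herm_nil_swap hg hF, hzy, zero_pow_q hF]
      set b := hermForm 4 F q z (nil g z) with hb
      have hbq : b ^ q = b := (herm_nil_swap hg hF z z).symm
      obtain ⟨t, ht⟩ := _root_.Cfsg.Agent.LieClassical.HermBasic.exists_norm_eq hF (c := b / a) (by rw [div_pow, hbq, haq])
      have hx0 : hermForm 4 F q (z + t • y0) (nil g (z + t • y0)) = 0 := by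
        rw [nil_add, nil_smul, herm_add_left, herm_add_right hF, herm_add_right hF, herm_smul_left, herm_smul_left,
          herm_smul_right, herm_smul_right, hzy, hyz, ← ha, ← hb]
        have h1 : t * (t ^ q * a) = b := by
          rw [← mul_assoc, ht, div_mul_cancel₀ _ hk]
        rw [mul_zero, add_zero, mul_zero, zero_add, h1, add_self h2]
      refine rank_two hF h2 hg (x1 := y0) hx0 ?_
      rw [LinearIndependent.pair_iff] at hl ⊢
      intro u v huv
      have h1 : (v + u * (t - s)) • nil g y0 + u • nil g y1 = 0 := by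
        have e1 : nil g z = nil g y1 + (-s) • nil g y0 := by
          rw [hz, sub_eq_add_neg, ← neg_smul, nil_add, nil_smul]
        rw [nil_add, nil_smul, e1] at huv
        rw [← huv]
        module
      obtain ⟨h3, h4⟩ := hl _ _ h1
      rw [h4, zero_mul, add_zero] at h3
      exact ⟨h4, h3⟩

end Four

end Cfsg.Agent.H715.IFU
end

-- part: H361/IFU/FourB
section
/-!
# S5719: the cell `PSU_4(q)`, `q` even (helper361)
-/

set_option autoImplicit false
set_option linter.unusedSectionVars false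

namespace Cfsg.Agent.H361.IFU4

open Cfsg Subgroup Cfsg.Agent.LieClassical.HermBasic Cfsg.Agent.LieClassical.HermSiegel
  Cfsg.Agent.LieClassical.HermGen Cfsg.Agent.ClassicalGeometry.PSUAutBasic
  Cfsg.Agent.ClassicalGeometry.PSUAutSylow Cfsg.Agent.ClassicalGeometry.PSUAutUnip Cfsg.Agent.H667.TwoPSUModel
  Cfsg.Agent.H77.Heis Cfsg.Agent.H209.Fxy
open Cfsg.Agent.H77.Geom (perp mem_perp_singleton mem_perp_pair card_perp card_perp_one card_submodule exists_perp_ne
  linInd_pair range_pair)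
open scoped commutatorElement

variable {F : Type*} [Field F] [Fintype F] {q : ℕ}

theorem sq_RR (hF : Fintype.card F = q ^ 2) (h2 : (2 : F) = 0) {u : Fin 4 → F} {hu : hermForm 4 F q u u = 0}
    {x : PSU 4 F q} (hx : x ∈ RR hF u hu) : x * x = 1 := by
  obtain ⟨μ, hμ, rfl⟩ := mem_RR.1 hx
  rw [← map_mul, transv_mul hF hu hμ hμ]
  have h3 : transv hF u hu (μ + μ) (by rw [add_pow_q hF]; linear_combination hμ + hμ) = 1 := by
    apply ext_act
    intro v
    rw [act_transv, act_one, ← two_mul, h2, zero_mul, zero_mul, zero_smul, add_zero]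
  rw [h3, map_one]

theorem order_RR (hF : Fintype.card F = q ^ 2) (h2 : (2 : F) = 0) {u : Fin 4 → F} {hu : hermForm 4 F q u u = 0}
    {x : PSU 4 F q} (hx : x ∈ RR hF u hu) (hx1 : x ≠ 1) : orderOf x = 2 :=
  orderOf_eq_prime (by rw [pow_two]; exact sq_RR hF h2 hx) hx1

theorem exists_RR_ne (hF : Fintype.card F = q ^ 2) {u : Fin 4 → F} (hu0 : u ≠ 0) (hu : hermForm 4 F q u u = 0) :
    ∃ x ∈ RR hF u hu, x ≠ 1 := by
  by_contra hcon
  push Not at hcon
  have h1 : RR hF u hu = ⊥ := (Subgroup.eq_bot_iff_forall _).2 hcon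
  have h2 := card_RR hF (n := 4) (by norm_num) hu0 hu
  rw [h1, Subgroup.card_bot] at h2
  have := two_le hF
  omega

theorem card_inf_mul_relIndex {T : Type*} [Group T] (A B : Subgroup T) :
    Nat.card (A ⊓ B : Subgroup T) * A.relIndex B = Nat.card B := by
  rw [← card_subgroupOf, Subgroup.relIndex, Subgroup.card_mul_index]

theorem lift_inv (hF : Fintype.card F = q ^ 2) (h2 : (2 : F) = 0) {t : PSU 4 F q} (ht : orderOf t = 2) :
    ∃ g : SU 4 F q, g * g = 1 ∧ g ≠ 1 ∧ pr 4 F q g = t := by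
  have : CharP F 2 := CharTwo.of_one_ne_zero_of_two_eq_zero one_ne_zero h2
  have : Fact (Nat.Prime 2) := ⟨Nat.prime_two⟩
  have h3 : t ^ 2 ^ 1 = 1 := by
    have := pow_orderOf_eq_one t
    rwa [ht] at this
  obtain ⟨a, rfl, l, hl⟩ := exists_lift hF (by norm_num) h3
  refine ⟨a, ?_, ?_, rfl⟩
  · have h4 : (a * a) ^ 2 ^ l = 1 := by rw [← pow_two, ← pow_mul, mul_comm, pow_mul, hl, one_pow]
    refine eq_of_pr_eq hF (by norm_num) (p := 2) (l := 0) h4 (one_pow _) ?_
    rw [map_mul, map_one, ← pow_two]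
    simpa only [_root_.pow_one] using h3
  · rintro rfl
    rw [map_one, orderOf_one] at ht
    omega

variable [Finite (PSU 4 F q)]

theorem nonab (hF : Fintype.card F = q ^ 2) : ∃ a b : PSU 4 F q, a * b ≠ b * a := by
  obtain ⟨e, f, H⟩ := exists_frame (F := F) (q := q) hF (n := 4) (by norm_num)
  have he0 : e ≠ 0 := by
    intro h
    have := H.ef
    rw [h, herm_zero_left] at this
    exact zero_ne_one this
  obtain ⟨z, hz, hz1⟩ := exists_RR_ne hF he0 H.ee
  obtain ⟨x, hx, hxR⟩ : ∃ x ∈ QQ hF e H.ee, x ∉ RR hF e H.ee := by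
    by_contra hcon
    push Not at hcon
    have h3 := Subgroup.card_le_of_le (show QQ hF e H.ee ≤ RR hF e H.ee from hcon)
    rw [card_QQ hF he0, card_RR hF (by norm_num) he0] at h3
    have h4 := two_le hF
    have h5 : q ^ 1 < q ^ 5 := Nat.pow_lt_pow_right (by omega) (by norm_num)
    rw [pow_one] at h5
    omega
  obtain ⟨v, hv, h⟩ := QQ_surj hF he0 H.ee x hx hxR z hz
  refine ⟨x, v, fun hc => hz1 ?_⟩
  rw [← h, commutatorElement_eq_one_iff_mul_comm]
  exact hc

theorem card_C (hF : Fintype.card F = q ^ 2) {u : Fin 4 → F} (hu0 : u ≠ 0) (hu : hermForm 4 F q u u = 0)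
    {t : PSU 4 F q} (ht : t ∈ QQ hF u hu) :
    q ^ 4 ≤ Nat.card (centralizer ({t} : Set (PSU 4 F q)) ⊓ QQ hF u hu : Subgroup (PSU 4 F q)) := by
  have hq := two_le hF
  have h1 : (centralizer ({t} : Set (PSU 4 F q))).relIndex (QQ hF u hu) ≤ q := by
    refine le_of_le_of_eq ?_ (card_RR hF (n := 4) (by norm_num) hu0 hu)
    rw [Subgroup.relIndex]
    refine H77.Heis.index_le _ (fun x : QQ hF u hu =>
      (⟨⁅(x : PSU 4 F q), t⁆, QQ_comm hF hu _ x.2 _ ht⟩ : RR hF u hu)) ?_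
    intro x y hxy
    have h : ⁅(x : PSU 4 F q), t⁆ = ⁅(y : PSU 4 F q), t⁆ := congrArg Subtype.val hxy
    rw [commutatorElement_def, commutatorElement_def] at h
    have h' : (x : PSU 4 F q) * t * (x : PSU 4 F q)⁻¹ = y * t * (y : PSU 4 F q)⁻¹ := mul_right_cancel h
    rw [mem_subgroupOf, mem_centralizer_singleton_iff]
    show (x : PSU 4 F q)⁻¹ * y * t = t * ((x : PSU 4 F q)⁻¹ * y)
    calc (x : PSU 4 F q)⁻¹ * y * t = (x : PSU 4 F q)⁻¹ * (y * t * (y : PSU 4 F q)⁻¹) * y := by group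
      _ = (x : PSU 4 F q)⁻¹ * (x * t * (x : PSU 4 F q)⁻¹) * y := by rw [h']
      _ = _ := by group
  have h2 := card_inf_mul_relIndex (centralizer ({t} : Set (PSU 4 F q))) (QQ hF u hu)
  rw [card_QQ hF hu0 hu] at h2
  have h3 : q ^ 4 * q ≤ Nat.card (centralizer ({t} : Set (PSU 4 F q)) ⊓ QQ hF u hu : Subgroup (PSU 4 F q)) * q := by
    calc q ^ 4 * q = q ^ 5 := by ring
      _ = _ := h2.symm
      _ ≤ _ := Nat.mul_le_mul_left _ h1
  exact Nat.le_of_mul_le_mul_right h3 (by omega)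

variable [IsSimpleGroup (PSU 4 F q)] {A : Subgroup (PSU 4 F q)} {Γ : Subgroup (MulAut (PSU 4 F q))}

theorem inf_ne_bot (hF : Fintype.card F = q ^ 2) (h : IF A Γ) {e w : Fin 4 → F} (hs : IsSiegel q e w 0)
    (hli : LinearIndependent F ![e, w]) (htA : pr 4 F q (siegel hF e w 0 hs) ∈ A)
    (ho : orderOf (pr 4 F q (siegel hF e w 0 hs)) = 2) : A ⊓ RR hF e hs.iso ≠ ⊥ := by
  intro hbot
  have he0 : e ≠ 0 := hli.ne_zero 0
  have hq := two_le hF
  have h1 := card_le_of_bot hF he0 hs.iso hbot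
  have h0 := index_siegel hF hs hli
  set t := pr 4 F q (siegel hF e w 0 hs) with ht
  have htQ : t ∈ QQ hF e hs.iso := mem_QQ.2 ⟨_, _, _, rfl⟩
  have h2 := card_C hF he0 hs.iso htQ
  set C : Subgroup (PSU 4 F q) := centralizer ({t} : Set (PSU 4 F q)) ⊓ QQ hF e hs.iso with hC
  have h3 := ((H999.IFB.IF.E2' h (nonab hF) htA ho).2.2.2.2 C inf_le_left).1
  have h4 : A.relIndex C ^ 5 < (q ^ 2) ^ 5 := h3.trans (num2 hq h0)
  have h5 : A.relIndex C < q ^ 2 := lt_of_pow_lt_pow_left₀ 5 (Nat.zero_le _) h4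
  have h6 := card_inf_mul_relIndex A C
  have h7 : Nat.card (A ⊓ C : Subgroup (PSU 4 F q)) ≤ Nat.card (A ⊓ QQ hF e hs.iso : Subgroup (PSU 4 F q)) :=
    Subgroup.card_le_of_le (inf_le_inf_left _ inf_le_right)
  have h8 : q ^ 4 ≤ q ^ 2 * A.relIndex C := by
    calc q ^ 4 ≤ Nat.card C := h2
      _ = _ := h6.symm
      _ ≤ _ := Nat.mul_le_mul_right _ (h7.trans h1)
  have h9 : q ^ 2 * A.relIndex C < q ^ 2 * q ^ 2 := Nat.mul_lt_mul_of_pos_left h5 (by positivity)
  have h10 : q ^ 2 * q ^ 2 = q ^ 4 := by ring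
  omega

theorem RR_le_of_ne_bot (hF : Fintype.card F = q ^ 2) (h2 : (2 : F) = 0) (h : IF A Γ) {u : Fin 4 → F} (hu0 : u ≠ 0)
    (hu : hermForm 4 F q u u = 0) (hne : A ⊓ RR hF u hu ≠ ⊥) : RR hF u hu ≤ A := by
  obtain ⟨x, ⟨hxA, hxR⟩, hx1⟩ : ∃ x ∈ A ⊓ RR hF u hu, x ≠ 1 := by
    by_contra hcon
    push Not at hcon
    exact hne ((Subgroup.eq_bot_iff_forall _).2 hcon)
  have hQ : QQ hF u hu ≤ centralizer ({x} : Set (PSU 4 F q)) := fun v hv =>
    mem_centralizer_singleton_iff.2 (QQ_cen hF hu x hxR v hv)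
  have h3 := ((H999.IFB.IF.E2' h (nonab hF) hxA (order_RR hF h2 hxR hx1)).2.2.2.2 _ hQ).1
  exact RR_le_of hF hu0 hu (h3.trans (index_RR_lt hF hu0 hu hxR hx1))

omit [Finite (PSU 4 F q)] [IsSimpleGroup (PSU 4 F q)] in
theorem card_line (hF : Fintype.card F = q ^ 2) {u : Fin 4 → F} (hu0 : u ≠ 0) :
    Nat.card (Submodule.span F {u}) = q ^ 2 := by
  rw [card_submodule hF, finrank_span_singleton hu0]

omit [Finite (PSU 4 F q)] [IsSimpleGroup (PSU 4 F q)] in
theorem exists_perp_iso (hF : Fintype.card F = q ^ 2) {u : Fin 4 → F} (hu0 : u ≠ 0) (hu : hermForm 4 F q u u = 0) :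
    ∃ w, w ∉ Submodule.span F {u} ∧ hermForm 4 F q w w = 0 ∧ hermForm 4 F q w u = 0 := by
  have hq := two_le hF
  obtain ⟨w, hw, hw', hww⟩ := H77.CW.exists_isotropic_not_mem hF (perp q {u}).toAddSubgroup
    (Submodule.span F {u}).toAddSubgroup (by
      intro x hx
      obtain ⟨c, rfl⟩ := Submodule.mem_span_singleton.1 hx
      exact mem_perp_singleton.2 (by rw [herm_smul_left, hu, mul_zero])) (by
      have h1 : Nat.card (Submodule.span F {u}).toAddSubgroup = q ^ 2 := card_line hF hu0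
      have h2 : Nat.card (perp q {u}).toAddSubgroup = q ^ (2 * (4 - 1)) := card_perp_one hF hu0
      rw [h1, h2, ← pow_add]
      exact Nat.pow_lt_pow_right (by omega) (by norm_num))
  exact ⟨w, hw', hww, mem_perp_singleton.1 hw⟩

omit [Finite (PSU 4 F q)] [IsSimpleGroup (PSU 4 F q)] in
theorem exists_perp2_iso (hF : Fintype.card F = q ^ 2) {u v : Fin 4 → F} (hu0 : u ≠ 0)
    (hv : v ∉ Submodule.span F {u}) :
    ∃ w, w ≠ 0 ∧ hermForm 4 F q w w = 0 ∧ hermForm 4 F q w u = 0 ∧ hermForm 4 F q w v = 0 := by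
  have hq := two_le hF
  obtain ⟨w, hw, hw0, hww⟩ := H77.CW.exists_isotropic hF (perp q {u, v}).toAddSubgroup (by
      have h2 : Nat.card (perp q {u, v}).toAddSubgroup = q ^ (2 * (4 - 2)) := by
        have := card_perp (q := q) hF (linInd_pair hu0 hv)
        rwa [range_pair] at this
      rw [h2]
      exact Nat.pow_lt_pow_right (by omega) (by norm_num))
  obtain ⟨h1, h2⟩ := mem_perp_pair.1 hw
  exact ⟨w, hw0, hww, h1, h2⟩

theorem second (hF : Fintype.card F = q ^ 2) (h : IF A Γ) {u : Fin 4 → F} (hu0 : u ≠ 0)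
    (hu : hermForm 4 F q u u = 0) (hR : RR hF u hu ≤ A) :
    ∃ (v : Fin 4 → F) (hv : hermForm 4 F q v v = 0), v ∉ Submodule.span F {u} ∧ RR hF v hv ≤ A := by
  by_contra hcon
  have huniq : ∀ (v : Fin 4 → F) (hv : hermForm 4 F q v v = 0), RR hF v hv ≤ A → v ∈ Submodule.span F {u} := by
    intro v hv hRv
    by_contra hn
    exact hcon ⟨v, hv, hn, hRv⟩
  have hRR : ∀ Z ∈ ZZ hF 4, Z ≤ A → Z = RR hF u hu := by
    rintro _ ⟨v, hv0, hv, rfl⟩ hle
    obtain ⟨c, hc⟩ := Submodule.mem_span_singleton.1 (huniq v hv hle)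
    refine ((RR_eq_iff hF (by norm_num) hu0 hv0 hu hv).2 ⟨c, ?_, hc.symm⟩).symm
    rintro rfl
    rw [zero_smul] at hc
    exact hv0 hc.symm
  obtain ⟨w, hw, hww, hwu⟩ := exists_perp_iso hF hu0 hu
  have hw0 : w ≠ 0 := by
    rintro rfl
    exact hw (Submodule.zero_mem _)
  apply hw
  apply huniq w hww
  intro x hx
  obtain ⟨z, hz, hz1⟩ := exists_RR_ne hF hu0 hu
  refine H680.Fxy.IF.norm h hR (fun σ hσ k hk => ?_) (fun hb => ?_) (fun k hk => ?_)
  · have h1 : (RR hF u hu).map (σ : PSU 4 F q →* PSU 4 F q) = RR hF u hu :=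
      hRR _ (ZZ_map hF (by norm_num) σ _ (RR_mem_ZZ hF hu0 hu)) (by
        rintro _ ⟨y, hy, rfl⟩
        exact (h.inv σ hσ y).2 (hR hy))
    rw [← h1]
    exact ⟨k, hk, rfl⟩
  · rw [hb] at hz
    exact hz1 (mem_bot.1 hz)
  · have h1 := (RR_commute_iff hF (by norm_num) hu0 hw0 hu hww).2 (herm_eq_zero_swap hF hwu) k hk x hx
    rw [← h1, mul_inv_cancel_right]
    exact hk

theorem orth_of (hF : Fintype.card F = q ^ 2) (h2 : (2 : F) = 0) (h : IF A Γ) {e v : Fin 4 → F} (he0 : e ≠ 0)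
    (he : hermForm 4 F q e e = 0) (hv : hermForm 4 F q v v = 0) (hve : hermForm 4 F q v e ≠ 0)
    (hRe : RR hF e he ≤ A) (hRv : RR hF v hv ≤ A) :
    ∃ (v' : Fin 4 → F) (hv' : hermForm 4 F q v' v' = 0), v' ∉ Submodule.span F {v} ∧ hermForm 4 F q v' v = 0 ∧
      RR hF v' hv' ≤ A := by
  have hq := two_le hF
  obtain ⟨z, hz, hz1⟩ := exists_RR_ne hF he0 he
  have hQ : QQ hF e he ≤ centralizer ({z} : Set (PSU 4 F q)) := fun v hv =>
    mem_centralizer_singleton_iff.2 (QQ_cen hF he z hz v hv)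
  have h3 := (((H999.IFB.IF.E2' h (nonab hF) (hRe hz) (order_RR hF h2 hz hz1)).2.2.2.2 _ hQ).1).trans
    (index_RR_lt hF he0 he hz hz1)
  let f : HP hF e he →* PSU 4 F q := (pr 4 F q).comp (rho hF e he)
  let K : Subgroup (HP hF e he) := A.comap f
  have hfr : f.range = QQ hF e he := by
    ext x
    constructor
    · rintro ⟨y, rfl⟩
      exact mem_QQ.2 ⟨_, _, y.sg, rfl⟩
    · intro hx
      obtain ⟨w, μ, hs, rfl⟩ := mem_QQ.1 hx
      exact ⟨HP.mk hF he w μ hs, rfl⟩
  have hKi : K.index = A.relIndex (QQ hF e he) := by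
    rw [← hfr]
    exact Subgroup.index_comap A f
  have hi : K.index < q ^ 2 := by
    rw [hKi]
    refine lt_of_pow_lt_pow_left₀ 5 (Nat.zero_le _) (h3.trans ?_)
    rw [← pow_mul]
    exact Nat.pow_lt_pow_right (by omega) (by norm_num)
  have hK1 := K.card_mul_index
  rw [card_eq K, H77.Act.card_HP he he0] at hK1
  have hcen : Nat.card (cen K) ≤ q := by
    have := AddSubgroup.card_le_of_le (cen_le K)
    rwa [card_T0] at this
  have hprj : q ^ 4 < Nat.card (prj K) := by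
    by_contra hcon
    push Not at hcon
    have h4 : Nat.card (prj K) * Nat.card (cen K) * K.index < q ^ (2 * (4 - 1)) * q := by
      calc Nat.card (prj K) * Nat.card (cen K) * K.index ≤ q ^ 4 * q * K.index :=
            Nat.mul_le_mul_right _ (Nat.mul_le_mul hcon hcen)
        _ < q ^ 4 * q * q ^ 2 := Nat.mul_lt_mul_of_pos_left hi (by positivity)
        _ = _ := by ring
    omega
  obtain ⟨w, ⟨x, hxK, hxw⟩, hwB, hww⟩ := H77.CW.exists_isotropic_not_mem hF (prj K)
    (Submodule.span F {e}).toAddSubgroup (by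
      intro y hy
      obtain ⟨c, rfl⟩ := Submodule.mem_span_singleton.1 hy
      obtain ⟨x, hx, hx1⟩ := H77.Step2.rho_line (hF := hF) he c
      refine ⟨x, ?_, hx⟩
      show pr 4 F q (rho hF e he x) ∈ A
      rw [hx1, map_one]
      exact A.one_mem) (by
      have h1 : Nat.card (Submodule.span F {e}).toAddSubgroup = q ^ 2 := card_line hF he0
      rw [h1, ← pow_add]
      exact hprj)
  subst hxw
  have hx0 : x.m + x.m ^ q = 0 := by
    have := x.sg.tr
    rwa [hww, add_zero] at this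
  have hwe : hermForm 4 F q x.w e = 0 := x.sg.orth
  -- all parameters
  have hall : ∀ (μ : F) (hs : IsSiegel q e x.w μ), pr 4 F q (siegel hF e x.w μ hs) ∈ A := by
    intro μ hs
    have hμ : (μ - x.m) + (μ - x.m) ^ q = 0 := by
      have := hs.tr
      rw [hww, add_zero] at this
      rw [sub_pow_q hF]
      linear_combination this - hx0
    have h4 : siegel hF e x.w μ hs = siegel hF e x.w x.m x.sg * transv hF e he (μ - x.m) hμ := by
      rw [transv, siegel_mul]
      refine siegel_congr hF _ _ rfl (by rw [add_zero]) ?_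
      rw [herm_zero_left]
      ring
    rw [h4, map_mul]
    exact A.mul_mem hxK (hRe (mem_RR.2 ⟨_, hμ, rfl⟩))
  set w := x.w with hw
  have hev : hermForm 4 F q e v ≠ 0 := fun h0 => hve (herm_eq_zero_swap hF h0)
  set a := hermForm 4 F q v e with ha
  set b := hermForm 4 F q v w with hb
  have hea : hermForm 4 F q e v = a ^ q := herm_swap hF v e
  have hwb : hermForm 4 F q w v = b ^ q := herm_swap hF v w
  have haq : a ^ q ≠ 0 := pow_ne_zero _ hve
  have hμ : IsSiegel q e w (-(a * b ^ q - b * a ^ q) * (a * a ^ q)⁻¹) := by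
    refine ⟨he, hwe, ?_⟩
    rw [hww, add_zero, mul_pow, neg_pow_q hF, sub_pow_q hF, inv_pow, norm_pow_q hF, mul_pow, mul_pow,
      pow_q_pow_q hF, pow_q_pow_q hF]
    ring
  set μ := -(a * b ^ q - b * a ^ q) * (a * a ^ q)⁻¹ with hμdef
  set g := siegel hF e w μ hμ with hg
  have hgv : act g v = v + a • w + (μ * a - b) • e := act_siegel hF hμ v
  have hvv' : hermForm 4 F q (act g v) (act g v) = 0 := by rw [herm_act]; exact hv
  refine ⟨act g v, hvv', ?_, ?_, ?_⟩
  · intro hsp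
    obtain ⟨c, hc⟩ := Submodule.mem_span_singleton.1 hsp
    have h5 : c = 1 := by
      have h6 : hermForm 4 F q (c • v) e = hermForm 4 F q (act g v) e := by rw [hc]
      rw [hgv, herm_smul_left, herm_add_left, herm_add_left, herm_smul_left, herm_smul_left, hwe, he, ← ha] at h6
      have h7 : (c - 1) * a = 0 := by linear_combination h6
      rcases mul_eq_zero.1 h7 with h8 | h8
      · exact sub_eq_zero.1 h8
      · exact absurd h8 hve
    rw [h5, one_smul, hgv] at hc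
    apply hwB
    refine Submodule.mem_span_singleton.2 ⟨-(a⁻¹ * (μ * a - b)), ?_⟩
    have h6 : a • w = -((μ * a - b) • e) := by
      have h7 : v + (a • w + (μ * a - b) • e) = v + 0 := by rw [add_zero, ← add_assoc]; exact hc.symm
      exact eq_neg_of_add_eq_zero_left (add_left_cancel h7)
    have h7 : w = a⁻¹ • (a • w) := (inv_smul_smul₀ hve w).symm
    rw [h7, h6, smul_neg, smul_smul, neg_smul]
  · rw [hgv, herm_add_left, herm_add_left, herm_smul_left, herm_smul_left, hv, hea, hwb, hμdef]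
    field_simp
    ring
  · rw [← RR_map_conj hF hv g hvv']
    rintro _ ⟨y, hy, rfl⟩
    exact A.mul_mem (A.mul_mem (hall μ hμ) (hRv hy)) (A.inv_mem (hall μ hμ))

end Cfsg.Agent.H361.IFU4
end

-- part: H361/IFU/FourC
section
/-!
# S5719: the cell `PSU_4(q)`, `q` even, end (helper361)
-/

set_option autoImplicit false
set_option linter.unusedSectionVars false

namespace Cfsg.Agent.H361.IFU4

open Cfsg Subgroup Cfsg.Agent.LieClassical.HermBasic Cfsg.Agent.LieClassical.HermSiegel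
  Cfsg.Agent.LieClassical.HermGen Cfsg.Agent.ClassicalGeometry.PSUAutBasic
  Cfsg.Agent.ClassicalGeometry.PSUAutSylow Cfsg.Agent.ClassicalGeometry.PSUAutUnip Cfsg.Agent.H667.TwoPSUModel
  Cfsg.Agent.H77.Heis Cfsg.Agent.H209.Fxy
open Cfsg.Agent.H77.Geom (perp mem_perp_singleton mem_perp_pair card_perp card_perp_one card_submodule exists_perp_ne
  linInd_pair range_pair)
open scoped commutatorElement

variable {F : Type*} [Field F] [Fintype F] {q : ℕ}

/-- the unipotent group of `v` moves `v'` to `v' + c v` -/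
theorem exists_move (hF : Fintype.card F = q ^ 2) {v v' : Fin 4 → F} (hv : hermForm 4 F q v v = 0)
    (hn : v' ∉ Submodule.span F {v}) (horth : hermForm 4 F q v' v = 0) (c : F) :
    ∃ (w : Fin 4 → F) (μ : F) (h : IsSiegel q v w μ), act (siegel hF v w μ h) v' = v' + c • v := by
  obtain ⟨y, hy, hyv⟩ := exists_perp_ne (q := q) hF hn
  have hy' : hermForm 4 F q y v = 0 := mem_perp_singleton.1 hy
  have ha : hermForm 4 F q v' y ≠ 0 := fun h0 => hyv (herm_eq_zero_swap hF h0)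
  set a := hermForm 4 F q v' y with hadef
  have hw : hermForm 4 F q ((-c * a⁻¹) ^ q • y) v = 0 := by rw [herm_smul_left, hy', mul_zero]
  obtain ⟨μ, hμ⟩ := H77.Heis.exists_mu hF hv hw
  refine ⟨_, μ, hμ, ?_⟩
  rw [act_siegel, horth, herm_smul_right, ← hadef, pow_q_pow_q hF, zero_smul, mul_zero, add_zero, zero_sub, mul_assoc,
    inv_mul_cancel₀ ha, mul_one, neg_neg]

variable [Finite (PSU 4 F q)] [IsSimpleGroup (PSU 4 F q)] {A : Subgroup (PSU 4 F q)}
  {Γ : Subgroup (MulAut (PSU 4 F q))}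

omit [Finite (PSU 4 F q)] [IsSimpleGroup (PSU 4 F q)] in
theorem le_relIndex [Finite (PSU 4 F q)] (hF : Fintype.card F = q ^ 2) {v v' : Fin 4 → F} (hv : hermForm 4 F q v v = 0)
    (hv' : hermForm 4 F q v' v' = 0) (hv0 : v ≠ 0) (hn : v' ∉ Submodule.span F {v})
    (horth : hermForm 4 F q v' v = 0) {s t : PSU 4 F q} (hs : s ∈ RR hF v' hv') (hs1 : s ≠ 1) (ht : t ∈ RR hF v hv) :
    q ^ 2 ≤ (centralizer ({s} : Set (PSU 4 F q))).relIndex (centralizer ({t} : Set (PSU 4 F q))) := by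
  have hv'0 : v' ≠ 0 := by
    rintro rfl
    exact hn (Submodule.zero_mem _)
  have hQ : QQ hF v hv ≤ centralizer ({t} : Set (PSU 4 F q)) := fun x hx =>
    mem_centralizer_singleton_iff.2 (QQ_cen hF hv t ht x hx)
  have hex : ∀ c : F, ∃ x ∈ QQ hF v hv, ∃ hi : hermForm 4 F q (v' + c • v) (v' + c • v) = 0,
      x * s * x⁻¹ ∈ RR hF (v' + c • v) hi := by
    intro c
    obtain ⟨w, μ, h, hg⟩ := exists_move hF hv hn horth c
    have hi : hermForm 4 F q (act (siegel hF v w μ h) v') (act (siegel hF v w μ h) v') = 0 := by rw [herm_act]; exact hv'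
    have hi' : hermForm 4 F q (v' + c • v) (v' + c • v) = 0 := by rw [← hg]; exact hi
    refine ⟨pr 4 F q (siegel hF v w μ h), mem_QQ.2 ⟨_, _, _, rfl⟩, hi', ?_⟩
    rw [← RR_congr hF hi hi' hg, ← RR_map_conj hF hv' (siegel hF v w μ h) hi]
    exact ⟨s, hs, rfl⟩
  choose x hxQ hi hx using hex
  rw [← hF, ← Nat.card_eq_fintype_card, Subgroup.relIndex, Subgroup.index]
  refine Nat.card_le_card_of_injective (fun c : F =>
    (QuotientGroup.mk (⟨x c, hQ (hxQ c)⟩ : centralizer ({t} : Set (PSU 4 F q))) :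
      centralizer ({t} : Set (PSU 4 F q)) ⧸ (centralizer ({s} : Set (PSU 4 F q))).subgroupOf
        (centralizer ({t} : Set (PSU 4 F q))))) ?_
  intro c d hcd
  have h1 := QuotientGroup.eq.1 hcd
  rw [mem_subgroupOf, mem_centralizer_singleton_iff] at h1
  have h2 : (x c)⁻¹ * x d * s = s * ((x c)⁻¹ * x d) := h1
  have h3 : x d * s * (x d)⁻¹ = x c * s * (x c)⁻¹ := by
    calc x d * s * (x d)⁻¹ = x c * ((x c)⁻¹ * x d * s) * (x d)⁻¹ := by group
      _ = x c * (s * ((x c)⁻¹ * x d)) * (x d)⁻¹ := by rw [h2]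
      _ = _ := by group
  have hne : ∀ c : F, v' + c • v ≠ 0 := by
    intro c h0
    apply hn
    refine Submodule.mem_span_singleton.2 ⟨-c, ?_⟩
    rw [neg_smul]
    exact (eq_neg_of_add_eq_zero_left h0).symm
  have h4 : RR hF (v' + c • v) (hi c) = RR hF (v' + d • v) (hi d) := by
    by_contra hcon
    have h5 := ZZ_int hF (by norm_num) _ (RR_mem_ZZ hF (hne c) (hi c)) _ (RR_mem_ZZ hF (hne d) (hi d)) hcon
    have h6 : x c * s * (x c)⁻¹ ∈ RR hF (v' + c • v) (hi c) ⊓ RR hF (v' + d • v) (hi d) :=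
      ⟨hx c, by rw [← h3]; exact hx d⟩
    rw [h5, mem_bot] at h6
    apply hs1
    have h7 : s = (x c)⁻¹ * (x c * s * (x c)⁻¹) * x c := by group
    rw [h7, h6]
    group
  obtain ⟨k, hk0, hk⟩ := (RR_eq_iff hF (by norm_num) (hne c) (hne d) (hi c) (hi d)).1 h4
  have h5 : (1 - k) • v' = (k * c - d) • v := by
    have : (1 - k) • v' - (k * c - d) • v = (v' + d • v) - k • (v' + c • v) := by module
    rw [← sub_eq_zero, this, hk, sub_self]
  have hk1 : k = 1 := by
    by_contra hk1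
    have h6 : (1 - k) ≠ 0 := fun h => hk1 (sub_eq_zero.1 h).symm
    apply hn
    refine Submodule.mem_span_singleton.2 ⟨(1 - k)⁻¹ * (k * c - d), ?_⟩
    rw [mul_smul, ← h5, smul_smul, inv_mul_cancel₀ h6, one_smul]
  rw [hk1, sub_self, zero_smul, one_mul] at h5
  rcases smul_eq_zero.1 h5.symm with h6 | h6
  · exact sub_eq_zero.1 h6
  · exact absurd h6 hv0

theorem fx_lt (hF : Fintype.card F = q ^ 2) (h2 : (2 : F) = 0) (h : IF A Γ) {v v' : Fin 4 → F}
    (hv : hermForm 4 F q v v = 0) (hv' : hermForm 4 F q v' v' = 0) (hv0 : v ≠ 0) (hn : v' ∉ Submodule.span F {v})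
    (horth : hermForm 4 F q v' v = 0) (hR : RR hF v hv ≤ A) (hR' : RR hF v' hv' ≤ A) {t : PSU 4 F q}
    (ht : t ∈ RR hF v hv) (ht1 : t ≠ 1) : fx A (MulAut.conj t) < q := by
  have hq := two_le hF
  have hv'0 : v' ≠ 0 := by
    rintro rfl
    exact hn (Submodule.zero_mem _)
  obtain ⟨s, hs, hs1⟩ := exists_RR_ne hF hv'0 hv'
  have hcomm : s * t = t * s := (RR_commute_iff hF (by norm_num) hv'0 hv0 hv' hv).2 horth s hs t ht
  have hst : s ≠ t := by
    rintro rfl
    have h4 : RR hF v hv ≠ RR hF v' hv' := by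
      intro h4
      obtain ⟨k, hk0, hk⟩ := (RR_eq_iff hF (by norm_num) hv0 hv'0 hv hv').1 h4
      exact hn (Submodule.mem_span_singleton.2 ⟨k, hk.symm⟩)
    have h5 := ZZ_int hF (by norm_num) _ (RR_mem_ZZ hF hv0 hv) _ (RR_mem_ZZ hF hv'0 hv') h4
    have h6 : s ∈ RR hF v hv ⊓ RR hF v' hv' := ⟨ht, hs⟩
    rw [h5, mem_bot] at h6
    exact hs1 h6
  have h3 := (H809.IFC.IF.E4 h (nonab hF) (hR' hs) (hR ht) (order_RR hF h2 hs hs1) (order_RR hF h2 ht ht1) hst
    hcomm).2.2.1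
  have h4 := le_relIndex hF hv hv' hv0 hn horth hs hs1 ht
  have h5 := index_RR_lt hF hv'0 hv' hs hs1
  have h6 : fx A (MulAut.conj t) ^ 4 * q ^ 2 < q ^ 4 * q ^ 2 := by
    calc _ ≤ _ := Nat.mul_le_mul_left _ h4
      _ < _ := h3
      _ < q ^ 6 := h5
      _ = _ := by ring
  have h7 : fx A (MulAut.conj t) ^ 4 < q ^ 4 := lt_of_mul_lt_mul_right h6 (Nat.zero_le _)
  exact lt_of_pow_lt_pow_left₀ 4 (Nat.zero_le _) h7

/-- all orthogonal points -/
theorem step5 (hF : Fintype.card F = q ^ 2) (h2 : (2 : F) = 0) (h : IF A Γ) {v v' : Fin 4 → F}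
    (hv : hermForm 4 F q v v = 0) (hv' : hermForm 4 F q v' v' = 0) (hv0 : v ≠ 0) (hn : v' ∉ Submodule.span F {v})
    (horth : hermForm 4 F q v' v = 0) (hR : RR hF v hv ≤ A) (hR' : RR hF v' hv' ≤ A) {x : Fin 4 → F} (hx0 : x ≠ 0)
    (hx : hermForm 4 F q x x = 0) (hxv : hermForm 4 F q x v = 0) : RR hF x hx ≤ A := by
  apply RR_le_of_ne_bot hF h2 h hx0
  intro hbot
  obtain ⟨t, ht, ht1⟩ := exists_RR_ne hF hv0 hv
  have h3 := fx_lt hF h2 h hv hv' hv0 hn horth hR hR' ht ht1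
  have h4 := (H999.IFB.IF.E1 h ((h.conj t).2 (hR ht)) (H999.IFB.IF.E2' h (nonab hF) (hR ht)
    (order_RR hF h2 ht ht1)).1 (B := RR hF x hx) (by
      intro b hb
      have h5 := (RR_commute_iff hF (by norm_num) hx0 hv0 hx hv).2 hxv b hb t ht
      rw [MulAut.conj_apply, ← h5, mul_inv_cancel_right])).1
  have h5 := card_inf_mul_relIndex A (RR hF x hx)
  rw [hbot, Subgroup.card_bot, one_mul, card_RR hF (by norm_num) hx0 hx] at h5
  omega

/-- all points -/
theorem all (hF : Fintype.card F = q ^ 2) (h2 : (2 : F) = 0) (h : IF A Γ) {v v' : Fin 4 → F}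
    (hv : hermForm 4 F q v v = 0) (hv' : hermForm 4 F q v' v' = 0) (hv0 : v ≠ 0) (hn : v' ∉ Submodule.span F {v})
    (horth : hermForm 4 F q v' v = 0) (hR : RR hF v hv ≤ A) (hR' : RR hF v' hv' ≤ A) {x : Fin 4 → F} (hx0 : x ≠ 0)
    (hx : hermForm 4 F q x x = 0) : RR hF x hx ≤ A := by
  by_cases hxv : hermForm 4 F q x v = 0
  · exact step5 hF h2 h hv hv' hv0 hn horth hR hR' hx0 hx hxv
  · have hxn : x ∉ Submodule.span F {v} := by
      intro hsp
      obtain ⟨c, rfl⟩ := Submodule.mem_span_singleton.1 hsp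
      exact hxv (by rw [herm_smul_left, hv, mul_zero])
    obtain ⟨y, hy0, hy, hyv, hyx⟩ := exists_perp2_iso hF hv0 hxn
    have hRy := step5 hF h2 h hv hv' hv0 hn horth hR hR' hy0 hy hyv
    have hvy : v ∉ Submodule.span F {y} := by
      intro hsp
      obtain ⟨c, rfl⟩ := Submodule.mem_span_singleton.1 hsp
      apply hxv
      rw [herm_smul_right, herm_eq_zero_swap hF hyx, mul_zero]
    exact step5 hF h2 h hy hv hy0 hvy (herm_eq_zero_swap hF hyv) hRy hR hx0 hx (herm_eq_zero_swap hF hyx)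

theorem kill4 (hF : Fintype.card F = q ^ 2) (h2 : (2 : F) = 0) : KillE (PSU 4 F q) := by
  intro A Γ h ⟨t, htA, ht⟩
  -- a point
  obtain ⟨u, hu0, hu, hRu⟩ : ∃ (u : Fin 4 → F) (_ : u ≠ 0) (hu : hermForm 4 F q u u = 0), RR hF u hu ≤ A := by
    obtain ⟨g, hg, hg1, rfl⟩ := lift_inv hF h2 ht
    rcases H715.IFU.inv_siegel hF h2 g hg hg1 with ⟨e, μ, hs, he0, rfl⟩ | ⟨e, w, hs, hli, rfl⟩
    · refine ⟨e, he0, hs.iso, RR_le_of_ne_bot hF h2 h he0 hs.iso ?_⟩
      intro hbot
      have h3 : μ + μ ^ q = 0 := (isSiegel_zero_iff hs.iso).1 hs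
      have h4 : pr 4 F q (siegel hF e 0 μ hs) ∈ A ⊓ RR hF e hs.iso := ⟨htA, mem_RR.2 ⟨μ, h3, rfl⟩⟩
      rw [hbot, mem_bot] at h4
      rw [h4, orderOf_one] at ht
      omega
    · have he0 : e ≠ 0 := hli.ne_zero 0
      exact ⟨e, he0, hs.iso, RR_le_of_ne_bot hF h2 h he0 hs.iso (inf_ne_bot hF h hs hli htA ht)⟩
  -- a second point
  obtain ⟨v, hv, hvn, hRv⟩ := second hF h hu0 hu hRu
  have hv0 : v ≠ 0 := by
    rintro rfl
    exact hvn (Submodule.zero_mem _)
  -- an orthogonal pair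
  obtain ⟨a, b, ha, hb, ha0, hbn, hab, hRa, hRb⟩ : ∃ (a b : Fin 4 → F) (ha : hermForm 4 F q a a = 0)
      (hb : hermForm 4 F q b b = 0), a ≠ 0 ∧ b ∉ Submodule.span F {a} ∧ hermForm 4 F q b a = 0 ∧ RR hF a ha ≤ A ∧
      RR hF b hb ≤ A := by
    by_cases hvu : hermForm 4 F q v u = 0
    · exact ⟨u, v, hu, hv, hu0, hvn, hvu, hRu, hRv⟩
    · obtain ⟨v', hv', hn', hvv', hRv'⟩ := orth_of hF h2 h hu0 hu hv hvu hRu hRv
      exact ⟨v, v', hv, hv', hv0, hn', hvv', hRv, hRv'⟩
  have hall : ∀ (x : Fin 4 → F) (_ : x ≠ 0) (hx : hermForm 4 F q x x = 0), RR hF x hx ≤ A := fun x hx0 hx =>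
    all hF h2 h ha hb ha0 hbn hab hRa hRb hx0 hx
  -- the end
  apply h.ne_top
  have h3 : Subgroup.normalClosure ((RR hF u hu : Subgroup (PSU 4 F q)) : Set (PSU 4 F q)) ≤ A := by
    rw [Subgroup.normalClosure, Subgroup.closure_le]
    intro y hy
    rw [Group.mem_conjugatesOfSet_iff] at hy
    obtain ⟨x, hx, hxy⟩ := hy
    obtain ⟨c, hc⟩ := isConj_iff.1 hxy
    obtain ⟨g, rfl⟩ := pr_surjective c
    have hi : hermForm 4 F q (act g u) (act g u) = 0 := by rw [herm_act]; exact hu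
    refine hall (act g u) (fun h0 => hu0 ((act_eq_zero g).1 h0)) hi ?_
    rw [← RR_map_conj hF hu g hi, ← hc]
    exact ⟨x, hx, rfl⟩
  have h4 : Subgroup.normalClosure ((RR hF u hu : Subgroup (PSU 4 F q)) : Set (PSU 4 F q)) = ⊤ := by
    rcases (Subgroup.normalClosure_normal (s := ((RR hF u hu : Subgroup (PSU 4 F q)) :
      Set (PSU 4 F q)))).eq_bot_or_eq_top with h5 | h5
    · exfalso
      obtain ⟨x, hx, hx1⟩ := exists_RR_ne hF hu0 hu
      apply hx1
      rw [← mem_bot, ← h5]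
      exact Subgroup.subset_normalClosure hx
    · exact h5
  exact top_le_iff.1 (h4 ▸ h3)

end Cfsg.Agent.H361.IFU4

namespace Cfsg.Agent.H361.IFU4

open Cfsg Cfsg.Agent.H209.Fxy

/-- **The cell `PSU_4(q)`, `q` even.** -/
theorem even {F : Type*} [Field F] [Fintype F] {q : ℕ} (hF : Fintype.card F = q ^ 2) (he : Even q)
    [IsSimpleGroup (PSU 4 F q)] : KillE (PSU 4 F q) := by
  have h2 : (2 : F) = 0 := by
    have h3 : ((Fintype.card F : ℕ) : F) = 0 := FiniteField.cast_card_eq_zero F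
    obtain ⟨p, hp⟩ := CharP.exists F
    have hpp : p.Prime := CharP.char_is_prime F p
    obtain ⟨n, -, hn⟩ := FiniteField.card F p
    have h4 : 2 ∣ p ^ (n : ℕ) := by
      rw [← hn, hF]
      exact (even_iff_two_dvd.1 he).trans (dvd_pow_self q two_ne_zero)
    have h5 : 2 = p := (Nat.prime_dvd_prime_iff_eq Nat.prime_two hpp).1 (Nat.prime_two.dvd_of_dvd_pow h4)
    have h6 : ((2 : ℕ) : F) = 0 := by
      rw [h5]
      exact CharP.cast_eq_zero F p
    exact_mod_cast h6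
  have : Finite (PSU 4 F q) := Quotient.finite _
  exact kill4 hF h2

end Cfsg.Agent.H361.IFU4
end

private theorem dce_8d535c74b1af : _root_.True := by
  try have : _root_.True := by simp only [_root_.Cfsg.Agent.ClassicalGeometry.PSUAutSylow.RR.congr_simp]
  try have : _root_.True := by simp only [_root_.Cfsg.Agent.ClassicalGeometry.PSUAutUnip.QQ.congr_simp]
  try have : _root_.True := by simp only [_root_.Cfsg.Agent.H715.IFU.nil.eq_1]
  exact _root_.True.intro
end
end
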